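import Mathlib

/-!
Piece PV of the S0720 project (owner helper68): Parseval's identity for the Fourier transform
on `ZMod p`.
-/

set_option autoImplicit false

namespace Cfsg.Agent.Lib.helper22.W2P

open scoped ComplexConjugate

variable {p : ℕ} [Fact p.Prime]

theorem sum_zmod_val (g : ℕ → ℂ) : ∑ k : ZMod p, g k.val = ∑ j ∈ Finset.range p, g j := by
  have : NeZero p := ⟨(Fact.out : p.Prime).ne_zero⟩
  refine Finset.sum_nbij' (fun k => k.val) (fun j => (j : ZMod p)) ?_ ?_ ?_ ?_ ?_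
  · intro k _; exact Finset.mem_range.mpr (ZMod.val_lt k)
  · intro j _; exact Finset.mem_univ _
  · intro k _; exact ZMod.natCast_zmod_val k
  · intro j hj; exact ZMod.val_natCast_of_lt (Finset.mem_range.mp hj)
  · intro k _; rfl

theorem conj_zeta {ζ : ℂ} (hζ : IsPrimitiveRoot ζ p) : conj ζ = ζ ^ (p - 1) := by
  have hp : p ≠ 0 := (Fact.out : p.Prime).ne_zero
  have h1 : ‖ζ‖ = 1 := hζ.norm'_eq_one hp
  have h2 : ζ⁻¹ = conj ζ := Complex.inv_eq_conj h1
  rw [← h2]
  have h3 : ζ ^ (p - 1) * ζ = 1 := by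
    rw [← pow_succ, Nat.sub_add_cancel (Fact.out : p.Prime).one_le, hζ.pow_eq_one]
  exact (eq_inv_of_mul_eq_one_left h3).symm

theorem inner_sum {ζ : ℂ} (hζ : IsPrimitiveRoot ζ p) (s s' : ZMod p) :
    ∑ k : ZMod p, (ζ ^ k.val) ^ s.val * conj ((ζ ^ k.val) ^ s'.val)
      = if s = s' then (p : ℂ) else 0 := by
  have : NeZero p := ⟨(Fact.out : p.Prime).ne_zero⟩
  have hterm : ∀ k : ZMod p, (ζ ^ k.val) ^ s.val * conj ((ζ ^ k.val) ^ s'.val)
      = (ζ ^ (s.val + (p - 1) * s'.val)) ^ k.val := by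
    intro k
    rw [map_pow, map_pow, conj_zeta hζ]
    ring
  rw [Finset.sum_congr rfl (fun k _ => hterm k),
    sum_zmod_val (fun j => (ζ ^ (s.val + (p - 1) * s'.val)) ^ j)]
  have hcast : ((s.val + (p - 1) * s'.val : ℕ) : ZMod p) = s - s' := by
    have h1 : ((p - 1 : ℕ) : ZMod p) = -1 := by
      rw [Nat.cast_sub (Fact.out : p.Prime).one_le]
      simp
    push_cast
    rw [h1, ZMod.natCast_zmod_val, ZMod.natCast_zmod_val]
    ring
  have hiff : ζ ^ (s.val + (p - 1) * s'.val) = 1 ↔ s = s' := by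
    rw [hζ.pow_eq_one_iff_dvd, ← (ZMod.natCast_eq_zero_iff _ _), hcast, sub_eq_zero]
  by_cases hss : s = s'
  · rw [if_pos hss, hiff.mpr hss]
    simp
  · rw [if_neg hss]
    have hne : ζ ^ (s.val + (p - 1) * s'.val) ≠ 1 := fun h => hss (hiff.mp h)
    rw [geom_sum_eq hne, ← pow_mul, mul_comm, pow_mul, hζ.pow_eq_one, one_pow, sub_self, zero_div]

theorem parseval {ζ : ℂ} (hζ : IsPrimitiveRoot ζ p) (φ : ZMod p → ℂ) :
    ∑ k : ZMod p, Complex.normSq (∑ s : ZMod p, φ s * (ζ ^ k.val) ^ s.val) =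
      (p : ℝ) * ∑ s : ZMod p, Complex.normSq (φ s) := by
  have key : ((∑ k : ZMod p, Complex.normSq (∑ s : ZMod p, φ s * (ζ ^ k.val) ^ s.val) : ℝ) : ℂ)
      = (((p : ℝ) * ∑ s : ZMod p, Complex.normSq (φ s) : ℝ) : ℂ) := by
    push_cast
    have h1 : ∀ k : ZMod p,
        ((Complex.normSq (∑ s : ZMod p, φ s * (ζ ^ k.val) ^ s.val) : ℝ) : ℂ)
          = ∑ s : ZMod p, ∑ s' : ZMod p,
            φ s * conj (φ s') * ((ζ ^ k.val) ^ s.val * conj ((ζ ^ k.val) ^ s'.val)) := by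
      intro k
      rw [← Complex.mul_conj, map_sum, Finset.sum_mul_sum]
      apply Finset.sum_congr rfl
      intro s _
      apply Finset.sum_congr rfl
      intro s' _
      rw [map_mul]
      ring
    rw [Finset.sum_congr rfl (fun k _ => h1 k), Finset.sum_comm]
    have h2 : ∀ s : ZMod p, ∑ k : ZMod p, ∑ s' : ZMod p,
        φ s * conj (φ s') * ((ζ ^ k.val) ^ s.val * conj ((ζ ^ k.val) ^ s'.val))
        = (p : ℂ) * ((Complex.normSq (φ s) : ℝ) : ℂ) := by
      intro s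
      rw [Finset.sum_comm]
      have h3 : ∀ s' : ZMod p, ∑ k : ZMod p,
          φ s * conj (φ s') * ((ζ ^ k.val) ^ s.val * conj ((ζ ^ k.val) ^ s'.val))
          = if s = s' then φ s * conj (φ s') * (p : ℂ) else 0 := by
        intro s'
        rw [← Finset.mul_sum, inner_sum hζ s s']
        split_ifs <;> simp
      rw [Finset.sum_congr rfl (fun s' _ => h3 s'), Finset.sum_ite_eq Finset.univ s,
        if_pos (Finset.mem_univ s), Complex.mul_conj]
      ring
    rw [Finset.sum_congr rfl (fun s _ => h2 s), ← Finset.mul_sum]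
  exact_mod_cast key

end Cfsg.Agent.Lib.helper22.W2P
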