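import Mathlib
import Cfsg.Agent.Lib.helper45.SVDefs

/-!
# S2425 piece IRR (helper22): the characteristic polynomial of an endomorphism without proper
invariant subspaces is irreducible
-/

set_option autoImplicit false

namespace Cfsg.Agent.Lib.helper45.SV

open Polynomial

/-- `R` commutes with every polynomial in `R`. -/
theorem h22_aeval_comm {F : Type*} [Field F] {N : Type*} [AddCommGroup N] [Module F N]
    (R : Module.End F N) (p : F[X]) (v : N) : aeval R p (R v) = R (aeval R p v) := by
  have h : aeval R p * aeval R (X : F[X]) = aeval R (X : F[X]) * aeval R p := by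
    rw [← map_mul, ← map_mul, mul_comm]
  rw [aeval_X] at h
  have h' := congrArg (fun f : Module.End F N => f v) h
  simpa [Module.End.mul_apply] using h'

/-- The kernel of a polynomial in `R` is trivial or everything. -/
theorem h22_ker_aeval {F : Type*} [Field F] {N : Type*} [AddCommGroup N] [Module F N]
    (R : Module.End F N)
    (hR : ∀ U : Submodule F N, (∀ v ∈ U, R v ∈ U) → U = ⊥ ∨ U = ⊤) (p : F[X]) :
    LinearMap.ker (aeval R p) = ⊥ ∨ LinearMap.ker (aeval R p) = ⊤ := by
  apply hR
  intro v hv
  rw [LinearMap.mem_ker] at hv ⊢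
  rw [h22_aeval_comm, hv, map_zero]

/-- The minimal polynomial is irreducible. -/
theorem h22_minpoly_irreducible {F : Type*} [Field F] {N : Type*} [AddCommGroup N]
    [Module F N] [Finite N] (R : Module.End F N) (hN : Nontrivial N)
    (hR : ∀ U : Submodule F N, (∀ v ∈ U, R v ∈ U) → U = ⊥ ∨ U = ⊤) :
    Irreducible (minpoly F R) := by
  classical
  have hint : IsIntegral F R := LinearMap.isIntegral R
  have hm0 : minpoly F R ≠ 0 := (minpoly.monic hint).ne_zero
  rw [irreducible_iff]
  refine ⟨minpoly.not_isUnit F R, ?_⟩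
  intro a b hab
  have ha0 : a ≠ 0 := by
    rintro rfl
    rw [zero_mul] at hab
    exact hm0 hab
  have hb0 : b ≠ 0 := by
    rintro rfl
    rw [mul_zero] at hab
    exact hm0 hab
  have hprod : aeval R a * aeval R b = 0 := by
    rw [← map_mul, ← hab, minpoly.aeval]
  rcases h22_ker_aeval R hR a with hk | hk
  · -- `a(R)` injective, so `b(R) = 0`
    left
    have hb : aeval R b = 0 := by
      apply LinearMap.ext
      intro v
      have h1 : aeval R a (aeval R b v) = 0 := by
        have := congrArg (fun f : Module.End F N => f v) hprod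
        simpa [Module.End.mul_apply] using this
      have h2 : aeval R b v ∈ LinearMap.ker (aeval R a) := LinearMap.mem_ker.mpr h1
      rw [hk, Submodule.mem_bot] at h2
      rw [h2]
      rfl
    obtain ⟨c, hc⟩ := minpoly.dvd F R hb
    have h3 : b * 1 = b * (a * c) := by
      rw [mul_one]
      conv_lhs => rw [hc, hab]
      ring
    have h4 : a * c = 1 := (mul_left_cancel₀ hb0 h3).symm
    exact IsUnit.of_mul_eq_one c h4
  · -- `a(R) = 0`
    right
    have ha : aeval R a = 0 := LinearMap.ker_eq_top.mp hk
    obtain ⟨c, hc⟩ := minpoly.dvd F R ha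
    have h3 : a * 1 = a * (b * c) := by
      rw [mul_one]
      conv_lhs => rw [hc, hab]
      ring
    have h4 : b * c = 1 := (mul_left_cancel₀ ha0 h3).symm
    exact IsUnit.of_mul_eq_one c h4

/-- A cyclic vector: the dimension is at most the degree of the minimal polynomial. -/
theorem h22_finrank_le_natDegree_minpoly {F : Type*} [Field F] {N : Type*} [AddCommGroup N]
    [Module F N] [Finite N] (R : Module.End F N) (hN : Nontrivial N)
    (hR : ∀ U : Submodule F N, (∀ v ∈ U, R v ∈ U) → U = ⊥ ∨ U = ⊤) :
    Module.finrank F N ≤ (minpoly F R).natDegree := by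
  classical
  have hint : IsIntegral F R := LinearMap.isIntegral R
  have hmon : (minpoly F R).Monic := minpoly.monic hint
  have hm0 : minpoly F R ≠ 0 := hmon.ne_zero
  obtain ⟨v, hv⟩ := exists_ne (0 : N)
  -- the evaluation map at `v`
  obtain ⟨ψ, hψ⟩ : ∃ ψ : F[X] →ₗ[F] N, ∀ p, ψ p = aeval R p v :=
    ⟨(LinearMap.applyₗ v).comp (aeval R).toLinearMap, fun p => rfl⟩
  have hrange : LinearMap.range ψ = ⊤ := by
    have h1 : LinearMap.range ψ = ⊥ ∨ LinearMap.range ψ = ⊤ := by
      apply hR
      rintro _ ⟨p, rfl⟩
      refine ⟨X * p, ?_⟩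
      rw [hψ, hψ, map_mul, aeval_X, Module.End.mul_apply]
    rcases h1 with h1 | h1
    · exfalso
      have h2 : v ∈ LinearMap.range ψ := ⟨1, by rw [hψ, map_one]; rfl⟩
      rw [h1, Submodule.mem_bot] at h2
      exact hv h2
    · exact h1
  -- restrict to polynomials of small degree
  obtain ⟨φ, hφ⟩ : ∃ φ : degreeLT F (minpoly F R).natDegree →ₗ[F] N, ∀ p, φ p = ψ p.1 :=
    ⟨ψ.comp (degreeLT F (minpoly F R).natDegree).subtype, fun p => rfl⟩
  have hsurj : Function.Surjective φ := by
    intro w
    have hw : w ∈ LinearMap.range ψ := by rw [hrange]; trivial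
    obtain ⟨p, rfl⟩ := hw
    have hdeg : (p %ₘ minpoly F R) ∈ degreeLT F (minpoly F R).natDegree := by
      rw [mem_degreeLT]
      have := degree_modByMonic_lt p hmon
      rwa [degree_eq_natDegree hm0] at this
    refine ⟨⟨p %ₘ minpoly F R, hdeg⟩, ?_⟩
    rw [hφ, hψ, hψ]
    have hdiv := modByMonic_add_div p (minpoly F R)
    conv_rhs => rw [← hdiv]
    rw [map_add, map_mul, minpoly.aeval, zero_mul, add_zero]
  have h1 := LinearMap.finrank_le_finrank_of_surjective hsurj
  have h2 : Module.finrank F (degreeLT F (minpoly F R).natDegree) = (minpoly F R).natDegree := by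
    rw [(degreeLTEquiv F (minpoly F R).natDegree).finrank_eq, Module.finrank_fin_fun]
  omega

/-- IRR (M). -/
theorem charpoly_irreducible_of_simple {F : Type*} [Field F] {N : Type*} [AddCommGroup N] [Module F N]
    [Finite N] (R : Module.End F N) (hN : Nontrivial N)
    (hR : ∀ U : Submodule F N, (∀ v ∈ U, R v ∈ U) → U = ⊥ ∨ U = ⊤) :
    Irreducible R.charpoly := by
  classical
  have hint : IsIntegral F R := LinearMap.isIntegral R
  have hmon : (minpoly F R).Monic := minpoly.monic hint
  have hle := h22_finrank_le_natDegree_minpoly R hN hR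
  have hdeg : R.charpoly.natDegree ≤ (minpoly F R).natDegree := by
    rw [LinearMap.charpoly_natDegree]
    exact hle
  have heq : R.charpoly = minpoly F R :=
    eq_of_monic_of_dvd_of_natDegree_le hmon (LinearMap.charpoly_monic R)
      (LinearMap.minpoly_dvd_charpoly R) hdeg
  rw [heq]
  exact h22_minpoly_irreducible R hN hR

end Cfsg.Agent.Lib.helper45.SV
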