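/-
helper22: the inputs of the (B, N)-pair construction for type E7 (generated table check and assembly).
-/
import Cfsg.Agent.Lib.helper22.ChevBNPair
import Cfsg.Agent.Lib.helper22.ChevBNChunk
import Cfsg.Agent.Lib.helper22.ChevUCertE7
import Cfsg.Agent.Lib.helper22.ChevCFE7
import Cfsg.Agent.Lib.helper23.ChevCertsE7
import Cfsg.Agent.Lib.helper41.ChevEtaE7

set_option autoImplicit false
set_option maxRecDepth 100000

namespace Cfsg.Agent.Lib.helper22

open Cfsg.Lie

universe u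

/-- Reachability certificate from the fundamental roots, type E7. -/
def reachSE7 : Array (ℕ × ℕ × ℕ) := #[(1, 0, 17), (2, 2, 16), (3, 3, 15), (4, 4, 14), (5, 5, 13), (6, 6, 12), (10, 1, 11), (8, 4, 13), (9, 5, 12), (10, 6, 11), (13, 3, 10), (12, 5, 11), (13, 6, 10), (15, 4, 9), (15, 6, 9), (16, 5, 8), (22, 2, 7), (18, 5, 10), (19, 6, 9), (21, 4, 8), (21, 6, 8), (22, 5, 7), (25, 3, 6), (24, 6, 7), (25, 5, 6), (26, 4, 5), (30, 1, 4), (28, 6, 6), (29, 5, 5), (30, 4, 4), (31, 3, 3), (32, 2, 2), (93, 0, 1), (34, 5, 9), (35, 6, 8), (37, 4, 7), (37, 6, 7), (38, 5, 6), (41, 3, 5), (40, 6, 6), (41, 5, 5), (42, 4, 4), (46, 2, 3), (44, 6, 5), (45, 5, 4), (46, 4, 3), (47, 3, 2), (78, 1, 1), (49, 6, 5), (50, 5, 4), (51, 4, 3), (52, 3, 2), (73, 2, 1), (54, 6, 4), (55, 5, 3), (56, 4, 2), (69, 3, 1), (58, 6, 3), (59, 5, 2), (66, 4, 1), (61, 6, 2), (64, 5, 1), (63, 6, 1), (0, 0, 0), (0, 0, 0), (64, 6, 1), (0, 0, 0), (66, 5, 1), (67, 6, 2), (0, 0, 0), (69,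 4, 1), (70, 5, 2), (71, 6, 3), (0, 0, 0), (73, 3, 1), (74, 4, 2), (75, 5, 3), (76, 6, 4), (0, 0, 0), (78, 3, 1), (79, 4, 2), (80, 5, 3), (81, 6, 4), (79, 2, 2), (83, 4, 3), (84, 5, 4), (85, 6, 5), (84, 3, 4), (87, 5, 5), (88, 6, 6), (88, 4, 6), (90, 6, 7), (91, 5, 8), (0, 0, 0), (93, 2, 1), (94, 3, 2), (95, 4, 3), (96, 5, 4), (97, 6, 5), (95, 1, 3), (99, 4, 4), (100, 5, 5), (101, 6, 6), (100, 3, 5), (103, 5, 6), (104, 6, 7), (104, 4, 7), (106, 6, 8), (107, 5, 9), (103, 2, 6), (109, 5, 7), (110, 6, 8), (110, 4, 8), (112, 6, 9), (113, 5, 10), (112, 3, 9), (115, 6, 10), (116, 5, 11), (117, 4, 12), (115, 1, 10), (119, 6, 11), (120, 5, 12), (121, 4, 13), (122, 3, 14), (123, 2, 15), (124, 0, 16)]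

theorem bnReach_E7_0 : (List.range' 0 42).all (reachSCell chevE7 reachSE7) = true := by
  decide +kernel

theorem bnReach_E7_1 : (List.range' 42 42).all (reachSCell chevE7 reachSE7) = true := by
  decide +kernel

theorem bnReach_E7_2 : (List.range' 84 42).all (reachSCell chevE7 reachSE7) = true := by
  decide +kernel

theorem bnRow_E7_0_0 :
    (List.range' 0 63).all (bnCell chevE7 (fun i s => Cfsg.Agent.Lib.helper41.TabE7.tab.eta chevE7 i s) 0) = true := by
  decide +kernel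

theorem bnRow_E7_0_1 :
    (List.range' 63 63).all (bnCell chevE7 (fun i s => Cfsg.Agent.Lib.helper41.TabE7.tab.eta chevE7 i s) 0) = true := by
  decide +kernel

theorem bnRow_E7_1_0 :
    (List.range' 0 63).all (bnCell chevE7 (fun i s => Cfsg.Agent.Lib.helper41.TabE7.tab.eta chevE7 i s) 1) = true := by
  decide +kernel

theorem bnRow_E7_1_1 :
    (List.range' 63 63).all (bnCell chevE7 (fun i s => Cfsg.Agent.Lib.helper41.TabE7.tab.eta chevE7 i s) 1) = true := by
  decide +kernel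

theorem bnRow_E7_2_0 :
    (List.range' 0 63).all (bnCell chevE7 (fun i s => Cfsg.Agent.Lib.helper41.TabE7.tab.eta chevE7 i s) 2) = true := by
  decide +kernel

theorem bnRow_E7_2_1 :
    (List.range' 63 63).all (bnCell chevE7 (fun i s => Cfsg.Agent.Lib.helper41.TabE7.tab.eta chevE7 i s) 2) = true := by
  decide +kernel

theorem bnRow_E7_3_0 :
    (List.range' 0 63).all (bnCell chevE7 (fun i s => Cfsg.Agent.Lib.helper41.TabE7.tab.eta chevE7 i s) 3) = true := by
  decide +kernel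

theorem bnRow_E7_3_1 :
    (List.range' 63 63).all (bnCell chevE7 (fun i s => Cfsg.Agent.Lib.helper41.TabE7.tab.eta chevE7 i s) 3) = true := by
  decide +kernel

theorem bnRow_E7_4_0 :
    (List.range' 0 63).all (bnCell chevE7 (fun i s => Cfsg.Agent.Lib.helper41.TabE7.tab.eta chevE7 i s) 4) = true := by
  decide +kernel

theorem bnRow_E7_4_1 :
    (List.range' 63 63).all (bnCell chevE7 (fun i s => Cfsg.Agent.Lib.helper41.TabE7.tab.eta chevE7 i s) 4) = true := by
  decide +kernel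

theorem bnRow_E7_5_0 :
    (List.range' 0 63).all (bnCell chevE7 (fun i s => Cfsg.Agent.Lib.helper41.TabE7.tab.eta chevE7 i s) 5) = true := by
  decide +kernel

theorem bnRow_E7_5_1 :
    (List.range' 63 63).all (bnCell chevE7 (fun i s => Cfsg.Agent.Lib.helper41.TabE7.tab.eta chevE7 i s) 5) = true := by
  decide +kernel

theorem bnRow_E7_6_0 :
    (List.range' 0 63).all (bnCell chevE7 (fun i s => Cfsg.Agent.Lib.helper41.TabE7.tab.eta chevE7 i s) 6) = true := by
  decide +kernel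

theorem bnRow_E7_6_1 :
    (List.range' 63 63).all (bnCell chevE7 (fun i s => Cfsg.Agent.Lib.helper41.TabE7.tab.eta chevE7 i s) 6) = true := by
  decide +kernel

theorem bnOK_E7 : bnOK chevE7 (fun i s => Cfsg.Agent.Lib.helper41.TabE7.tab.eta chevE7 i s) reachSE7 = true := by
  refine bnOK_of_chunks 42 3 63 2 (by decide) (by decide) ?_ ?_
  · intro j hj
    interval_cases j
    · exact bnReach_E7_0
    · exact bnReach_E7_1
    · exact bnReach_E7_2
  · intro i hi j hj
    have hi' : i < 7 := hi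
    interval_cases i <;> interval_cases j
    · exact bnRow_E7_0_0
    · exact bnRow_E7_0_1
    · exact bnRow_E7_1_0
    · exact bnRow_E7_1_1
    · exact bnRow_E7_2_0
    · exact bnRow_E7_2_1
    · exact bnRow_E7_3_0
    · exact bnRow_E7_3_1
    · exact bnRow_E7_4_0
    · exact bnRow_E7_4_1
    · exact bnRow_E7_5_0
    · exact bnRow_E7_5_1
    · exact bnRow_E7_6_0
    · exact bnRow_E7_6_1

theorem bnInput_E7 (F : Type u) [Field F] :
    BNInput chevE7 F (fun i s => Cfsg.Agent.Lib.helper41.TabE7.tab.eta chevE7 i s) :=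
  ⟨fun r => ⟨Cfsg.Agent.Lib.helper23.stringDataE7 r, Cfsg.Agent.Lib.helper23.compatE7 r⟩,
    Cfsg.Agent.Lib.helper23.simpleOKE7, uFacts_E7, simpleNormOK_E7, commFormula_E7 F,
    reflData_of_ok bnOK_E7 (fun i s hi hs => Cfsg.Agent.Lib.helper41.TabE7.refl_eta i s hi hs)⟩

end Cfsg.Agent.Lib.helper22
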