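/-
helper22: table checks for the commutator formula, type E8 (generated).
-/
import Cfsg.Agent.Lib.helper22.ChevCommA
import Cfsg.Agent.Lib.helper22.ChevChunk2
import Cfsg.Prelude.Def_ChevE8

set_option autoImplicit false
set_option maxRecDepth 100000

namespace Cfsg.Agent.Lib.helper22

open Cfsg.Lie

/-- Reachability certificate of type E8: `(a, i, d)` at `r` with `w_i a = r`, depth `d`. -/
def reachE8 : Array (ℕ × ℕ × ℕ) := #[(1, 7, 29), (2, 6, 28), (3, 5, 27), (4, 4, 26), (5, 3, 25), (6, 2, 24), (8, 1, 23), (8, 2, 23), (9, 3, 22), (10, 4, 21), (11, 5, 20), (12, 6, 19), (13, 7, 18), (20, 0, 17), (15, 1, 22), (16, 3, 21), (17, 4, 20), (18, 5, 19), (19, 6, 18), (20, 7, 17), (25, 2, 16), (22, 4, 19), (23, 5, 18), (24, 6, 17), (25, 7, 16), (29, 3, 15), (27, 5, 17), (28, 6, 16), (29, 7, 15), (32, 4, 14), (31, 6, 15), (32, 7, 14), (34, 5, 13), (34, 7, 13), (35, 6, 12), (45, 1, 11), (37, 5, 16), (38, 6, 15), (39, 7, 14), (42, 4, 13), (41, 6, 14), (42,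 7, 13), (44, 5, 12), (44, 7, 12), (45, 6, 11), (51, 3, 10), (47, 6, 13), (48, 7, 12), (50, 5, 11), (50, 7, 11), (51, 6, 10), (54, 4, 9), (53, 7, 10), (54, 6, 9), (55, 5, 8), (65, 2, 7), (57, 6, 12), (58, 7, 11), (60, 5, 10), (60, 7, 10), (61, 6, 9), (64, 4, 8), (63, 7, 9), (64, 6, 8), (65, 5, 7), (69, 3, 6), (67, 7, 8), (68, 6, 7), (69, 5, 6), (70, 4, 5), (75, 1, 4), (72, 7, 7), (73, 6, 6), (74, 5, 5), (75, 4, 4), (76, 3, 3), (77, 2, 2), (162, 0, 1), (79, 6, 13), (80, 7, 12), (82, 5, 11), (82, 7, 11), (83, 6, 10), (86, 4, 9), (85, 7, 10), (86, 6, 9), (87, 5, 8), (91, 3, 7), (89, 7, 9), (90, 6, 8), (91, 5, 7), (92, 4, 6), (103, 1, 5), (94, 7, 10), (95, 6, 9), (96, 5, 8), (97, 4, 7), (92, 2, 6), (97, 3, 7), (100, 7, 8), (101, 6, 7), (102, 5, 6), (103, 4, 5), (104, 3, 4), (76, 0, 3), (106, 7, 9), (107, 6, 8), (108, 5, 7), (109, 4, 6), (103, 2, 5), (111, 7, 10), (112, 6, 9), (113, 5, 8), (108, 3, 7), (115, 7, 11), (116, 6, 10), (112, 4, 9), (118, 7,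 12), (115, 5, 11), (117, 6, 13), (122, 6, 12), (124, 5, 10), (121, 7, 11), (127, 4, 8), (123, 6, 9), (124, 7, 10), (131, 3, 6), (126, 5, 7), (127, 6, 8), (128, 7, 9), (136, 2, 4), (130, 4, 5), (131, 5, 6), (132, 6, 7), (133, 7, 8), (163, 0, 2), (135, 3, 3), (136, 4, 4), (137, 5, 5), (138, 6, 6), (139, 7, 7), (142, 3, 6), (147, 2, 5), (142, 4, 6), (143, 5, 7), (144, 6, 8), (145, 7, 9), (136, 1, 4), (147, 4, 5), (148, 5, 6), (149, 6, 7), (150, 7, 8), (148, 3, 6), (152, 5, 7), (153, 6, 8), (154, 7, 9), (153, 4, 8), (156, 6, 9), (157, 7, 10), (157, 5, 10), (159, 7, 11), (160, 6, 12), (0, 0, 0), (162, 2, 1), (163, 3, 2), (164, 4, 3), (165, 5, 4), (166, 6, 5), (167, 7, 6), (164, 1, 3), (169, 4, 4), (170, 5, 5), (171, 6, 6), (172, 7, 7), (170, 3, 5), (174, 5, 6), (175, 6, 7), (176, 7, 8), (175, 4, 7), (178, 6, 8), (179, 7, 9), (179, 5, 9), (181, 7, 10), (182, 6, 11), (174, 2, 6), (184, 5, 7), (185, 6, 8), (186, 7, 9), (185, 4, 8), (188, 6, 9), (189, 7,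 10), (189, 5, 10), (191, 7, 11), (192, 6, 12), (188, 3, 9), (194, 6, 10), (195, 7, 11), (195, 5, 11), (197, 7, 12), (198, 6, 13), (197, 4, 12), (200, 7, 13), (201, 6, 14), (202, 5, 15), (194, 1, 10), (204, 6, 11), (205, 7, 12), (205, 5, 12), (207, 7, 13), (208, 6, 14), (207, 4, 13), (210, 7, 14), (211, 6, 15), (212, 5, 16), (210, 3, 14), (214, 7, 15), (215, 6, 16), (216, 5, 17), (217, 4, 18), (214, 2, 15), (219, 7, 16), (220, 6, 17), (221, 5, 18), (222, 4, 19), (223, 3, 20), (224, 1, 21), (219, 0, 16), (226, 7, 17), (227, 6, 18), (228, 5, 19), (229, 4, 20), (230, 3, 21), (231, 2, 22), (231, 1, 22), (233, 2, 23), (234, 3, 24), (235, 4, 25), (236, 5, 26), (237, 6, 27), (238, 7, 28)]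

theorem slOK_E8 : slOK chevE8 = true := by decide +kernel

theorem reachChunk_E8_0 : (List.range' 0 30).all (reachCell chevE8 162 reachE8) = true := by decide +kernel

theorem reachChunk_E8_1 : (List.range' 30 30).all (reachCell chevE8 162 reachE8) = true := by decide +kernel

theorem reachChunk_E8_2 : (List.range' 60 30).all (reachCell chevE8 162 reachE8) = true := by decide +kernel

theorem reachChunk_E8_3 : (List.range' 90 30).all (reachCell chevE8 162 reachE8) = true := by decide +kernel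

theorem reachChunk_E8_4 : (List.range' 120 30).all (reachCell chevE8 162 reachE8) = true := by decide +kernel

theorem reachChunk_E8_5 : (List.range' 150 30).all (reachCell chevE8 162 reachE8) = true := by decide +kernel

theorem reachChunk_E8_6 : (List.range' 180 30).all (reachCell chevE8 162 reachE8) = true := by decide +kernel

theorem reachChunk_E8_7 : (List.range' 210 30).all (reachCell chevE8 162 reachE8) = true := by decide +kernel

theorem reachOK_E8 : reachOK chevE8 162 reachE8 = true := by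
  refine reachOK_of_chunks 30 8 (by decide) ?_
  intro j hj
  interval_cases j
  · exact reachChunk_E8_0
  · exact reachChunk_E8_1
  · exact reachChunk_E8_2
  · exact reachChunk_E8_3
  · exact reachChunk_E8_4
  · exact reachChunk_E8_5
  · exact reachChunk_E8_6
  · exact reachChunk_E8_7

theorem commBaseOK_E8 : commBaseOK chevE8 162 = true := by decide +kernel

theorem simple0_E8 : chevE8.simple 0 = 162 := by decide +kernel

end Cfsg.Agent.Lib.helper22
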