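/-
helper22: the inputs of the (B, N)-pair construction for type E8 (generated table check and assembly).
-/
import Cfsg.Agent.Lib.helper22.ChevBNPair
import Cfsg.Agent.Lib.helper22.ChevBNChunk
import Cfsg.Agent.Lib.helper22.ChevUCertE8
import Cfsg.Agent.Lib.helper22.ChevCFE8
import Cfsg.Agent.Lib.helper23.ChevCertsE8
import Cfsg.Agent.Lib.helper41.ChevEtaE8

set_option autoImplicit false
set_option maxRecDepth 100000

namespace Cfsg.Agent.Lib.helper22

open Cfsg.Lie

universe u

/-- Reachability certificate from the fundamental roots, type E8. -/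
def reachSE8 : Array (ℕ × ℕ × ℕ) := #[(1, 7, 29), (2, 6, 28), (3, 5, 27), (4, 4, 26), (5, 3, 25), (6, 2, 24), (8, 1, 23), (8, 2, 23), (9, 3, 22), (10, 4, 21), (11, 5, 20), (12, 6, 19), (13, 7, 18), (20, 0, 17), (15, 1, 22), (16, 3, 21), (17, 4, 20), (18, 5, 19), (19, 6, 18), (20, 7, 17), (25, 2, 16), (22, 4, 19), (23, 5, 18), (24, 6, 17), (25, 7, 16), (29, 3, 15), (27, 5, 17), (28, 6, 16), (29, 7, 15), (32, 4, 14), (31, 6, 15), (32, 7, 14), (34, 5, 13), (34, 7, 13), (35, 6, 12), (45, 1, 11), (37, 5, 16), (38, 6, 15), (39, 7, 14), (42, 4, 13), (41, 6, 14), (42, 7, 13), (44, 5, 12), (44, 7, 12), (45, 6, 11), (51, 3, 10), (47, 6, 13), (48, 7, 12), (50, 5, 11), (50, 7, 11), (51, 6, 10), (54, 4, 9), (53, 7, 10), (54, 6, 9), (55, 5, 8), (65, 2, 7), (57, 6, 12), (58, 7, 11), (60, 5, 10), (60, 7, 10), (61, 6, 9), (64, 4, 8), (63, 7, 9), (64, 6, 8), (65, 5, 7), (69, 3, 6), (67, 7, 8), (68, 6, 7), (69, 5, 6), (70, 4, 5), (75, 1, 4), (72, 7, 7), (73, 6, 6), (74, 5,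 5), (75, 4, 4), (76, 3, 3), (77, 2, 2), (162, 0, 1), (79, 6, 11), (80, 7, 10), (82, 5, 9), (82, 7, 9), (83, 6, 8), (86, 4, 7), (85, 7, 8), (86, 6, 7), (87, 5, 6), (91, 3, 5), (89, 7, 7), (90, 6, 6), (91, 5, 5), (92, 4, 4), (97, 2, 3), (94, 7, 6), (95, 6, 5), (96, 5, 4), (97, 4, 3), (98, 3, 2), (141, 1, 1), (100, 7, 6), (101, 6, 5), (102, 5, 4), (103, 4, 3), (104, 3, 2), (135, 2, 1), (106, 7, 5), (107, 6, 4), (108, 5, 3), (109, 4, 2), (130, 3, 1), (111, 7, 4), (112, 6, 3), (113, 5, 2), (126, 4, 1), (115, 7, 3), (116, 6, 2), (123, 5, 1), (118, 7, 2), (121, 6, 1), (120, 7, 1), (0, 0, 0), (0, 0, 0), (121, 7, 1), (0, 0, 0), (123, 6, 1), (124, 7, 2), (0, 0, 0), (126, 5, 1), (127, 6, 2), (128, 7, 3), (0, 0, 0), (130, 4, 1), (131, 5, 2), (132, 6, 3), (133, 7, 4), (0, 0, 0), (135, 3, 1), (136, 4, 2), (137, 5, 3), (138, 6, 4), (139, 7, 5), (0, 0, 0), (141, 3, 1), (142, 4, 2), (143, 5, 3), (144, 6, 4), (145, 7, 5), (142, 2, 2), (147, 4, 3), (148, 5, 4), (149, 6, 5),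 (150, 7, 6), (148, 3, 4), (152, 5, 5), (153, 6, 6), (154, 7, 7), (153, 4, 6), (156, 6, 7), (157, 7, 8), (157, 5, 8), (159, 7, 9), (160, 6, 10), (0, 0, 0), (162, 2, 1), (163, 3, 2), (164, 4, 3), (165, 5, 4), (166, 6, 5), (167, 7, 6), (164, 1, 3), (169, 4, 4), (170, 5, 5), (171, 6, 6), (172, 7, 7), (170, 3, 5), (174, 5, 6), (175, 6, 7), (176, 7, 8), (175, 4, 7), (178, 6, 8), (179, 7, 9), (179, 5, 9), (181, 7, 10), (182, 6, 11), (174, 2, 6), (184, 5, 7), (185, 6, 8), (186, 7, 9), (185, 4, 8), (188, 6, 9), (189, 7, 10), (189, 5, 10), (191, 7, 11), (192, 6, 12), (188, 3, 9), (194, 6, 10), (195, 7, 11), (195, 5, 11), (197, 7, 12), (198, 6, 13), (197, 4, 12), (200, 7, 13), (201, 6, 14), (202, 5, 15), (194, 1, 10), (204, 6, 11), (205, 7, 12), (205, 5, 12), (207, 7, 13), (208, 6, 14), (207, 4, 13), (210, 7, 14), (211, 6, 15), (212, 5, 16), (210, 3, 14), (214, 7, 15), (215, 6, 16), (216, 5, 17), (217, 4, 18), (214, 2, 15), (219, 7, 16), (220, 6, 17), (221, 5, 18),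 (222, 4, 19), (223, 3, 20), (224, 1, 21), (219, 0, 16), (226, 7, 17), (227, 6, 18), (228, 5, 19), (229, 4, 20), (230, 3, 21), (231, 2, 22), (231, 1, 22), (233, 2, 23), (234, 3, 24), (235, 4, 25), (236, 5, 26), (237, 6, 27), (238, 7, 28)]

theorem bnReach_E8_0 : (List.range' 0 30).all (reachSCell chevE8 reachSE8) = true := by
  decide +kernel

theorem bnReach_E8_1 : (List.range' 30 30).all (reachSCell chevE8 reachSE8) = true := by
  decide +kernel

theorem bnReach_E8_2 : (List.range' 60 30).all (reachSCell chevE8 reachSE8) = true := by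
  decide +kernel

theorem bnReach_E8_3 : (List.range' 90 30).all (reachSCell chevE8 reachSE8) = true := by
  decide +kernel

theorem bnReach_E8_4 : (List.range' 120 30).all (reachSCell chevE8 reachSE8) = true := by
  decide +kernel

theorem bnReach_E8_5 : (List.range' 150 30).all (reachSCell chevE8 reachSE8) = true := by
  decide +kernel

theorem bnReach_E8_6 : (List.range' 180 30).all (reachSCell chevE8 reachSE8) = true := by
  decide +kernel

theorem bnReach_E8_7 : (List.range' 210 30).all (reachSCell chevE8 reachSE8) = true := by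
  decide +kernel

theorem bnRow_E8_0_0 :
    (List.range' 0 60).all (bnCell chevE8 (fun i s => Cfsg.Agent.Lib.helper41.TabE8.tab.eta chevE8 i s) 0) = true := by
  decide +kernel

theorem bnRow_E8_0_1 :
    (List.range' 60 60).all (bnCell chevE8 (fun i s => Cfsg.Agent.Lib.helper41.TabE8.tab.eta chevE8 i s) 0) = true := by
  decide +kernel

theorem bnRow_E8_0_2 :
    (List.range' 120 60).all (bnCell chevE8 (fun i s => Cfsg.Agent.Lib.helper41.TabE8.tab.eta chevE8 i s) 0) = true := by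
  decide +kernel

theorem bnRow_E8_0_3 :
    (List.range' 180 60).all (bnCell chevE8 (fun i s => Cfsg.Agent.Lib.helper41.TabE8.tab.eta chevE8 i s) 0) = true := by
  decide +kernel

theorem bnRow_E8_1_0 :
    (List.range' 0 60).all (bnCell chevE8 (fun i s => Cfsg.Agent.Lib.helper41.TabE8.tab.eta chevE8 i s) 1) = true := by
  decide +kernel

theorem bnRow_E8_1_1 :
    (List.range' 60 60).all (bnCell chevE8 (fun i s => Cfsg.Agent.Lib.helper41.TabE8.tab.eta chevE8 i s) 1) = true := by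
  decide +kernel

theorem bnRow_E8_1_2 :
    (List.range' 120 60).all (bnCell chevE8 (fun i s => Cfsg.Agent.Lib.helper41.TabE8.tab.eta chevE8 i s) 1) = true := by
  decide +kernel

theorem bnRow_E8_1_3 :
    (List.range' 180 60).all (bnCell chevE8 (fun i s => Cfsg.Agent.Lib.helper41.TabE8.tab.eta chevE8 i s) 1) = true := by
  decide +kernel

theorem bnRow_E8_2_0 :
    (List.range' 0 60).all (bnCell chevE8 (fun i s => Cfsg.Agent.Lib.helper41.TabE8.tab.eta chevE8 i s) 2) = true := by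
  decide +kernel

theorem bnRow_E8_2_1 :
    (List.range' 60 60).all (bnCell chevE8 (fun i s => Cfsg.Agent.Lib.helper41.TabE8.tab.eta chevE8 i s) 2) = true := by
  decide +kernel

theorem bnRow_E8_2_2 :
    (List.range' 120 60).all (bnCell chevE8 (fun i s => Cfsg.Agent.Lib.helper41.TabE8.tab.eta chevE8 i s) 2) = true := by
  decide +kernel

theorem bnRow_E8_2_3 :
    (List.range' 180 60).all (bnCell chevE8 (fun i s => Cfsg.Agent.Lib.helper41.TabE8.tab.eta chevE8 i s) 2) = true := by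
  decide +kernel

theorem bnRow_E8_3_0 :
    (List.range' 0 60).all (bnCell chevE8 (fun i s => Cfsg.Agent.Lib.helper41.TabE8.tab.eta chevE8 i s) 3) = true := by
  decide +kernel

theorem bnRow_E8_3_1 :
    (List.range' 60 60).all (bnCell chevE8 (fun i s => Cfsg.Agent.Lib.helper41.TabE8.tab.eta chevE8 i s) 3) = true := by
  decide +kernel

theorem bnRow_E8_3_2 :
    (List.range' 120 60).all (bnCell chevE8 (fun i s => Cfsg.Agent.Lib.helper41.TabE8.tab.eta chevE8 i s) 3) = true := by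
  decide +kernel

theorem bnRow_E8_3_3 :
    (List.range' 180 60).all (bnCell chevE8 (fun i s => Cfsg.Agent.Lib.helper41.TabE8.tab.eta chevE8 i s) 3) = true := by
  decide +kernel

theorem bnRow_E8_4_0 :
    (List.range' 0 60).all (bnCell chevE8 (fun i s => Cfsg.Agent.Lib.helper41.TabE8.tab.eta chevE8 i s) 4) = true := by
  decide +kernel

theorem bnRow_E8_4_1 :
    (List.range' 60 60).all (bnCell chevE8 (fun i s => Cfsg.Agent.Lib.helper41.TabE8.tab.eta chevE8 i s) 4) = true := by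
  decide +kernel

theorem bnRow_E8_4_2 :
    (List.range' 120 60).all (bnCell chevE8 (fun i s => Cfsg.Agent.Lib.helper41.TabE8.tab.eta chevE8 i s) 4) = true := by
  decide +kernel

theorem bnRow_E8_4_3 :
    (List.range' 180 60).all (bnCell chevE8 (fun i s => Cfsg.Agent.Lib.helper41.TabE8.tab.eta chevE8 i s) 4) = true := by
  decide +kernel

theorem bnRow_E8_5_0 :
    (List.range' 0 60).all (bnCell chevE8 (fun i s => Cfsg.Agent.Lib.helper41.TabE8.tab.eta chevE8 i s) 5) = true := by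
  decide +kernel

theorem bnRow_E8_5_1 :
    (List.range' 60 60).all (bnCell chevE8 (fun i s => Cfsg.Agent.Lib.helper41.TabE8.tab.eta chevE8 i s) 5) = true := by
  decide +kernel

theorem bnRow_E8_5_2 :
    (List.range' 120 60).all (bnCell chevE8 (fun i s => Cfsg.Agent.Lib.helper41.TabE8.tab.eta chevE8 i s) 5) = true := by
  decide +kernel

theorem bnRow_E8_5_3 :
    (List.range' 180 60).all (bnCell chevE8 (fun i s => Cfsg.Agent.Lib.helper41.TabE8.tab.eta chevE8 i s) 5) = true := by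
  decide +kernel

theorem bnRow_E8_6_0 :
    (List.range' 0 60).all (bnCell chevE8 (fun i s => Cfsg.Agent.Lib.helper41.TabE8.tab.eta chevE8 i s) 6) = true := by
  decide +kernel

theorem bnRow_E8_6_1 :
    (List.range' 60 60).all (bnCell chevE8 (fun i s => Cfsg.Agent.Lib.helper41.TabE8.tab.eta chevE8 i s) 6) = true := by
  decide +kernel

theorem bnRow_E8_6_2 :
    (List.range' 120 60).all (bnCell chevE8 (fun i s => Cfsg.Agent.Lib.helper41.TabE8.tab.eta chevE8 i s) 6) = true := by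
  decide +kernel

theorem bnRow_E8_6_3 :
    (List.range' 180 60).all (bnCell chevE8 (fun i s => Cfsg.Agent.Lib.helper41.TabE8.tab.eta chevE8 i s) 6) = true := by
  decide +kernel

theorem bnRow_E8_7_0 :
    (List.range' 0 60).all (bnCell chevE8 (fun i s => Cfsg.Agent.Lib.helper41.TabE8.tab.eta chevE8 i s) 7) = true := by
  decide +kernel

theorem bnRow_E8_7_1 :
    (List.range' 60 60).all (bnCell chevE8 (fun i s => Cfsg.Agent.Lib.helper41.TabE8.tab.eta chevE8 i s) 7) = true := by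
  decide +kernel

theorem bnRow_E8_7_2 :
    (List.range' 120 60).all (bnCell chevE8 (fun i s => Cfsg.Agent.Lib.helper41.TabE8.tab.eta chevE8 i s) 7) = true := by
  decide +kernel

theorem bnRow_E8_7_3 :
    (List.range' 180 60).all (bnCell chevE8 (fun i s => Cfsg.Agent.Lib.helper41.TabE8.tab.eta chevE8 i s) 7) = true := by
  decide +kernel

theorem bnOK_E8 : bnOK chevE8 (fun i s => Cfsg.Agent.Lib.helper41.TabE8.tab.eta chevE8 i s) reachSE8 = true := by
  refine bnOK_of_chunks 30 8 60 4 (by decide) (by decide) ?_ ?_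
  · intro j hj
    interval_cases j
    · exact bnReach_E8_0
    · exact bnReach_E8_1
    · exact bnReach_E8_2
    · exact bnReach_E8_3
    · exact bnReach_E8_4
    · exact bnReach_E8_5
    · exact bnReach_E8_6
    · exact bnReach_E8_7
  · intro i hi j hj
    have hi' : i < 8 := hi
    interval_cases i <;> interval_cases j
    · exact bnRow_E8_0_0
    · exact bnRow_E8_0_1
    · exact bnRow_E8_0_2
    · exact bnRow_E8_0_3
    · exact bnRow_E8_1_0
    · exact bnRow_E8_1_1
    · exact bnRow_E8_1_2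
    · exact bnRow_E8_1_3
    · exact bnRow_E8_2_0
    · exact bnRow_E8_2_1
    · exact bnRow_E8_2_2
    · exact bnRow_E8_2_3
    · exact bnRow_E8_3_0
    · exact bnRow_E8_3_1
    · exact bnRow_E8_3_2
    · exact bnRow_E8_3_3
    · exact bnRow_E8_4_0
    · exact bnRow_E8_4_1
    · exact bnRow_E8_4_2
    · exact bnRow_E8_4_3
    · exact bnRow_E8_5_0
    · exact bnRow_E8_5_1
    · exact bnRow_E8_5_2
    · exact bnRow_E8_5_3
    · exact bnRow_E8_6_0
    · exact bnRow_E8_6_1
    · exact bnRow_E8_6_2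
    · exact bnRow_E8_6_3
    · exact bnRow_E8_7_0
    · exact bnRow_E8_7_1
    · exact bnRow_E8_7_2
    · exact bnRow_E8_7_3

theorem bnInput_E8 (F : Type u) [Field F] :
    BNInput chevE8 F (fun i s => Cfsg.Agent.Lib.helper41.TabE8.tab.eta chevE8 i s) :=
  ⟨fun r => ⟨Cfsg.Agent.Lib.helper23.stringDataE8 r, Cfsg.Agent.Lib.helper23.compatE8 r⟩,
    Cfsg.Agent.Lib.helper23.simpleOKE8, uFacts_E8, simpleNormOK_E8, commFormula_E8 F,
    reflData_of_ok bnOK_E8 (fun i s hi hs => Cfsg.Agent.Lib.helper41.TabE8.refl_eta i s hi hs)⟩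

end Cfsg.Agent.Lib.helper22
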