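import Mathlib
import Cfsg.Agent.Lib.helper16.U34CDefs

/-!
# S1903, piece D2: the centralizer of `tauE` in `SU 3 F 4` lies in `⟨dE⟩ · UU`
-/

set_option autoImplicit false
set_option linter.unusedSectionVars false
set_option linter.unusedVariables false
set_option linter.unusedSimpArgs false

namespace Cfsg.Agent.Lib.helper16.U34C

open Cfsg
open scoped commutatorElement
open Cfsg.Agent.Lib.helper58 Cfsg.Agent.Lib.helper7 Matrix

variable {F : Type*} [Field F] [Fintype F]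

theorem helper22_dE_pow_val (l : F) (hl : l ^ 5 = 1) (k : ℕ) :
    ((dE l hl ^ k).1.1 : Matrix (Fin 3) (Fin 3) F) = dM (l ^ k) := by
  induction k with
  | zero =>
    have : (((dE l hl) ^ 0).1.1 : Matrix (Fin 3) (Fin 3) F) = 1 := by
      rw [pow_zero]; rfl
    rw [this]
    ext i j
    fin_cases i <;> fin_cases j <;> simp [dM]
  | succ k ih =>
    have : ((dE l hl ^ (k + 1)).1.1 : Matrix (Fin 3) (Fin 3) F) =
        (dE l hl ^ k).1.1 * (dE l hl).1.1 := by
      rw [pow_succ]; rfl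
    rw [this, ih, dE_val]
    ext i j
    fin_cases i <;> fin_cases j <;>
      simp [dM, Matrix.mul_apply, Fin.sum_univ_three] <;> ring

theorem helper22_exists_pow_of_pow_five (l : F) (hl : l ^ 5 = 1) (hl1 : l ≠ 1) (s : F)
    (hs : s ^ 5 = 1) : ∃ k : ℕ, l ^ k = s := by
  have : Fact (Nat.Prime 5) := ⟨by norm_num⟩
  have h5 : orderOf l = 5 := orderOf_eq_prime hl hl1
  have hp : IsPrimitiveRoot l 5 := h5 ▸ IsPrimitiveRoot.orderOf l
  obtain ⟨i, _, hi⟩ := hp.eq_pow_of_pow_eq_one hs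
  exact ⟨i, hi⟩

/-- PIECE D2 -/
theorem cent_upper (hF : Fintype.card F = 16) (l : F) (hl : l ^ 5 = 1) (hl1 : l ≠ 1) :
    ∀ g : ↥(SU 3 F 4), g * tauE hF = tauE hF * g →
      ∃ k : ℕ, ∃ v ∈ UU hF, g = dE l hl ^ k * v := by
  intro g hg
  have h2 := two0 hF
  have hcomm : (g.1.1 : Matrix (Fin 3) (Fin 3) F) * su3M 4 0 1 = su3M 4 0 1 * g.1.1 :=
    congrArg (fun x : ↥(SU 3 F 4) => (x.1.1 : Matrix (Fin 3) (Fin 3) F)) hg
  have hiso : IsIsom 3 4 (g.1.1 : Matrix (Fin 3) (Fin 3) F) := (mem_SU_iff 3 g.1).1 g.2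
  have hT := hiso.transpose_mul_map (by norm_num)
  have hdet : (g.1.1 : Matrix (Fin 3) (Fin 3) F).det = 1 := g.1.2
  generalize hM : (g.1.1 : Matrix (Fin 3) (Fin 3) F) = M at hcomm hT hdet
  -- entries forced by commuting with the swap
  have c01 := congrFun (congrFun hcomm 0) 1
  have c00 := congrFun (congrFun hcomm 0) 0
  have c02 := congrFun (congrFun hcomm 0) 2
  have c20 := congrFun (congrFun hcomm 2) 0
  simp [su3M, Matrix.mul_apply, Fin.sum_univ_three] at c01 c00 c02 c20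
  have u00 := congrFun (congrFun hT 0) 0
  have u01 := congrFun (congrFun hT 0) 1
  have u20 := congrFun (congrFun hT 2) 0
  simp [Matrix.mul_apply, Fin.sum_univ_three] at u00 u01 u20
  rw [Matrix.det_fin_three] at hdet
  have e11 : M 1 1 = M 0 0 := by linear_combination (-1 : F) * c01
  have e10 : M 1 0 = M 0 1 := by linear_combination (-1 : F) * c00
  have e12 : M 1 2 = M 0 2 := by linear_combination (-1 : F) * c02 - M 0 2 * h2
  have e21 : M 2 1 = M 2 0 := by linear_combination c20 - M 2 0 * h2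
  rw [e11, e10, e12, e21] at hdet
  rw [e10] at u00
  rw [e10, e11, e21] at u01
  rw [e12, e10] at u20
  generalize hA : M 0 0 = A at *
  generalize hB : M 0 1 = B at *
  generalize hc : M 0 2 = c at *
  generalize hd : M 2 0 = d at *
  generalize he : M 2 2 = e at *
  obtain ⟨s, rfl⟩ : ∃ s, A = s - B := ⟨A + B, by ring⟩
  have hs5 : s ^ 5 = 1 := by
    linear_combination u00 + u01 +
      (2 * s ^ 4 * B - 3 * s ^ 3 * B ^ 2 + 2 * s ^ 2 * B ^ 3 - s * B ^ 4 - d ^ 5) * h2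
  have hes : e * s ^ 2 = 1 := by
    linear_combination hdet + (e * s * B - B * c * d + (s - B) * c * d) * h2
  have hes3 : e = s ^ 3 := by
    linear_combination s ^ 3 * hes - e * hs5
  have hs4 : (s - B) ^ 4 + B ^ 4 = s ^ 4 := by
    linear_combination (-2 * s ^ 3 * B + 3 * s ^ 2 * B ^ 2 - 2 * s * B ^ 3 + B ^ 4) * h2
  have hc4 : c = s ^ 4 * d ^ 4 := by
    linear_combination s * u20 - c * hs5 - s * c * hs4 - s * d ^ 4 * hes3 - s ^ 4 * d ^ 4 * h2
  obtain ⟨k, hk⟩ := helper22_exists_pow_of_pow_five l hl hl1 s hs5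
  have hab : s ^ 4 * B + (s ^ 4 * B) ^ 4 = (s ^ 2 * d) * (s ^ 2 * d) ^ 4 := by
    linear_combination u01 +
      (2 * s ^ 3 * B ^ 2 - 3 * s ^ 2 * B ^ 3 + 2 * s * B ^ 4 - d ^ 5) * h2 +
      (s * (s ^ 10 + s ^ 5 + 1) * B ^ 4 - (s ^ 5 + 1) * d ^ 5) * hs5
  refine ⟨k, su3E (card16 hF) (two0 hF) (s ^ 2 * d) (s ^ 4 * B) hab, ⟨_, _, hab, rfl⟩, ?_⟩
  apply su3_ext
  have hmul : ((dE l hl ^ k * su3E (card16 hF) (two0 hF) (s ^ 2 * d) (s ^ 4 * B)
      hab).1.1 : Matrix (Fin 3) (Fin 3) F) =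
      (dE l hl ^ k).1.1 * su3M 4 (s ^ 2 * d) (s ^ 4 * B) := rfl
  rw [hmul, helper22_dE_pow_val, hk, hM]
  have g00 : s - B = s * (1 + s ^ 4 * B) := by linear_combination (-B) * h2 - B * hs5
  have g01 : B = s * (s ^ 4 * B) := by linear_combination (-B) * hs5
  have g02 : c = s * (s ^ 2 * d) ^ 4 := by linear_combination hc4 - s ^ 4 * d ^ 4 * hs5
  have g20 : d = s ^ 3 * (s ^ 2 * d) := by linear_combination (-d) * hs5
  ext i j
  fin_cases i <;> fin_cases j <;>
    simp only [dM, su3M, Matrix.mul_apply, Fin.sum_univ_three, Matrix.of_apply,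
      Matrix.cons_val', Matrix.cons_val_zero, Matrix.cons_val_one, Matrix.cons_val,
      Fin.zero_eta, Fin.mk_one, Fin.reduceFinMk, Fin.isValue, mul_zero, zero_mul, add_zero,
      zero_add, mul_one, hA, hB, hc, hd, he, e11, e10, e12, e21] <;>
    first | exact g00 | exact g01 | exact g02 | exact g20 | exact hes3

end Cfsg.Agent.Lib.helper16.U34C
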