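import Mathlib
import Cfsg.Agent.Lib.helper16.U34CDefs

/-!
# S1903, piece D4c (racer copy): the commutator subgroup of the centralizer of `tauE`
has order 64 and its centre is a four-group
-/

set_option autoImplicit false
set_option linter.unusedSectionVars false
set_option linter.unusedVariables false

namespace Cfsg.Agent.Lib.helper16.U34C

open Cfsg
open scoped commutatorElement
open Cfsg.Agent.Lib.helper58 Cfsg.Agent.Lib.helper7 Matrix

variable {F : Type*} [Field F] [Fintype F]

/-- PIECE D4c (racer copy, prefixed name) -/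
theorem helper22_cent_klein (hF : Fintype.card F = 16)
    (htc : ∀ v ∈ UU hF, v * tauE hF = tauE hF * v)
    (hc : commutator ↥(Subgroup.centralizer ({tauE hF} : Set ↥(SU 3 F 4))) =
      (UU hF).subgroupOf (Subgroup.centralizer ({tauE hF} : Set ↥(SU 3 F 4)))) :
    Nat.card ↥(commutator ↥(Subgroup.centralizer ({tauE hF} : Set ↥(SU 3 F 4)))) = 64 ∧
    IsKleinFour ↥(Subgroup.center
      ↥(commutator ↥(Subgroup.centralizer ({tauE hF} : Set ↥(SU 3 F 4))))) := by
  have hle : UU hF ≤ Subgroup.centralizer ({tauE hF} : Set ↥(SU 3 F 4)) := by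
    intro v hv
    rw [Subgroup.mem_centralizer_iff]
    intro h hh
    rw [Set.mem_singleton_iff] at hh
    subst hh
    exact (htc v hv).symm
  let e : ↥(commutator ↥(Subgroup.centralizer ({tauE hF} : Set ↥(SU 3 F 4)))) ≃* ↥(UU hF) :=
    (MulEquiv.subgroupCongr hc).trans (Subgroup.subgroupOfEquivOfLe hle)
  let c := (su3UCoord (card16 hF) (two0 hF)).congr e
  have h64 := c.card_eq (card16 hF) (two0 hF)
  have h4 := c.card_center (card16 hF) (two0 hF)
  refine ⟨by rw [h64]; norm_num, ⟨h4, ?_⟩⟩
  have hdvd : Monoid.exponent ↥(Subgroup.center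
      ↥(commutator ↥(Subgroup.centralizer ({tauE hF} : Set ↥(SU 3 F 4))))) ∣ 2 := by
    apply Monoid.exponent_dvd_of_forall_pow_eq_one
    intro z
    apply Subtype.ext
    have := c.center_sq_eq_one (card16 hF) (two0 hF) z.1 z.2
    simpa using this
  rcases (Nat.dvd_prime Nat.prime_two).mp hdvd with h1 | h2
  · exfalso
    rw [Monoid.exp_eq_one_iff] at h1
    have h1' := Nat.card_eq_one_iff_unique.mpr ⟨h1, ⟨1⟩⟩
    rw [h4] at h1'
    norm_num at h1'
  · exact h2

end Cfsg.Agent.Lib.helper16.U34C
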