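import Mathlib
import Cfsg.Agent.Lib.helper21.BRDefs
import Cfsg.Agent.Lib.helper4.Regular
import Cfsg.Agent.Lib.helper81.CharOrtho

/-!
S0999 (Brauer–Reynolds), piece M3 from an abstract version of the arithmetic piece AR2.
-/

set_option autoImplicit false

namespace Cfsg.Agent.Lib.helper21.BR

open Cfsg Cfsg.Agent.Lib.helper21

universe u

section Chars

variable {G : Type u} [Group G] [Fintype G]
variable {p : ℕ} [Fact p.Prime] {P : Sylow p G}
variable {e t n v : ℕ} {X Y : Finset (IrrCharacter G)} {εX : IrrCharacter G → ℤ} {ε : ℤ}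

theorem h22_exists_minus_core
    (har2 : ∀ f : ℕ, f = 1 + (e - 1) * (1 + n * p) → t * f ^ 2 ≤ p * e * v * (1 + n * p) → False)
    (hN : BRNum p P e t n v) (hD : BRData (P : Subgroup G) p e X Y εX ε)
    (hdeg : ∀ χ ∈ X, χ = trivIrr G ∨ (εX χ = 1 ∧ charDegree (χ : G → ℂ) = 1 + n * p) ∨
      (εX χ = -1 ∧ charDegree (χ : G → ℂ) = p - 1 ∧ n + 1 = t)) :
    ∃ χ ∈ X, εX χ = -1 := by
  classical
  by_contra hno
  have hno' : ∀ χ ∈ X, εX χ ≠ -1 := fun χ hχ h => hno ⟨χ, hχ, h⟩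
  have : Fintype (IrrCharacter G) := Fintype.ofFinite _
  have htriv : charDegree ((trivIrr G : IrrCharacter G) : G → ℂ) = 1 := by
    have h1 := Cfsg.Agent.Lib.helper81.irr_one_eq_charDegree (trivIrr G)
    have h2 : ((trivIrr G : IrrCharacter G) : G → ℂ) 1 = 1 := rfl
    rw [h2] at h1
    exact_mod_cast h1.symm
  have hsgn1 : ∀ χ ∈ X, εX χ = 1 := by
    intro χ hχ
    rcases hD.sgnX χ hχ with h | h
    · exact h
    · exact absurd h (hno' χ hχ)
  have hdeg' : ∀ χ ∈ X.erase (trivIrr G), charDegree (χ : G → ℂ) = 1 + n * p := by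
    intro χ hχ
    obtain ⟨hne, hχX⟩ := Finset.mem_erase.mp hχ
    rcases hdeg χ hχX with h | ⟨-, h⟩ | ⟨h, -⟩
    · exact absurd h hne
    · exact h
    · exact absurd h (hno' χ hχX)
  obtain ⟨f, hf⟩ : ∃ f : ℕ, f = 1 + (e - 1) * (1 + n * p) := ⟨_, rfl⟩
  have hfpos : 1 ≤ f := by
    rw [hf]
    exact Nat.le_add_right 1 _
  have hsumX : ∑ χ ∈ X, charDegree (χ : G → ℂ) = f := by
    rw [← Finset.add_sum_erase X _ hD.one_mem, htriv, Finset.sum_congr rfl hdeg', Finset.sum_const,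
      Finset.card_erase_of_mem hD.one_mem, hD.cardX, smul_eq_mul, hf]
  have hsumXC : ∑ χ ∈ X, (εX χ : ℂ) * (χ : G → ℂ) 1 = (f : ℂ) := by
    rw [← hsumX, Nat.cast_sum]
    apply Finset.sum_congr rfl
    intro χ hχ
    rw [hsgn1 χ hχ, Int.cast_one, one_mul, Cfsg.Agent.Lib.helper81.irr_one_eq_charDegree]
  have hYcard : Y.card = t := by
    have h1 := hD.cardY
    rw [← hN.et, mul_comm e t] at h1
    exact Nat.eq_of_mul_eq_mul_right (by have := hN.e_ge; omega) h1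
  have hdegY : ∀ θ ∈ Y, charDegree (θ : G → ℂ) = f := by
    intro θ hθ
    have h1 := hD.relY θ hθ 1 (by
      rw [orderOf_one]
      exact (Fact.out : p.Prime).one_lt.ne' ∘ Nat.dvd_one.mp)
    rw [hsumXC, Cfsg.Agent.Lib.helper81.irr_one_eq_charDegree] at h1
    have hz : ε * (charDegree (θ : G → ℂ) : ℤ) = (f : ℤ) := by exact_mod_cast h1
    rcases hD.sgn with hε | hε
    · rw [hε, one_mul] at hz
      exact_mod_cast hz
    · rw [hε] at hz
      omega
  have hsq : ∑ ψ : IrrCharacter G, charDegree (ψ : G → ℂ) ^ 2 = Nat.card G := by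
    have h := Cfsg.Agent.Lib.helper4.sum_irr_degree_sq (G := G)
    have h' : ((∑ ψ : IrrCharacter G, charDegree (ψ : G → ℂ) ^ 2 : ℕ) : ℂ) = (Nat.card G : ℂ) := by
      rw [← h, Nat.cast_sum]
      apply Finset.sum_congr rfl
      intro ψ _
      rw [Nat.cast_pow, Cfsg.Agent.Lib.helper81.irr_one_eq_charDegree]
    exact_mod_cast h'
  have hle : ∑ θ ∈ Y, charDegree (θ : G → ℂ) ^ 2 ≤ ∑ ψ : IrrCharacter G, charDegree (ψ : G → ℂ) ^ 2 :=
    Finset.sum_le_sum_of_subset (Finset.subset_univ Y)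
  have hY : ∑ θ ∈ Y, charDegree (θ : G → ℂ) ^ 2 = t * f ^ 2 := by
    rw [Finset.sum_congr rfl (fun θ hθ => by rw [hdegY θ hθ]), Finset.sum_const, hYcard, smul_eq_mul]
  rw [hY, hsq, hN.cardG] at hle
  exact har2 f hf hle

end Chars

end Cfsg.Agent.Lib.helper21.BR
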