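import Mathlib
import Cfsg.Agent.Lib.helper21.BRDefs
import Cfsg.Agent.Lib.helper22.BR_M3a
import Cfsg.Agent.Lib.helper75.BR_AR2

/-!
S0999 (Brauer–Reynolds), piece M3.
-/

set_option autoImplicit false

namespace Cfsg.Agent.Lib.helper21.BR

open Cfsg Cfsg.Agent.Lib.helper21

universe u

section Chars

variable {G : Type u} [Group G] [Fintype G]

variable {p : ℕ} [Fact p.Prime] {P : Sylow p G}
variable {e t n v : ℕ} {X Y : Finset (IrrCharacter G)} {εX : IrrCharacter G → ℤ} {ε : ℤ}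
  {f₀ : ℕ}

/-- M3 -/
theorem exists_minus (hN : BRNum p P e t n v) (hD : BRData (P : Subgroup G) p e X Y εX ε)
    (hdeg : ∀ χ ∈ X, χ = trivIrr G ∨ (εX χ = 1 ∧ charDegree (χ : G → ℂ) = 1 + n * p) ∨
      (εX χ = -1 ∧ charDegree (χ : G → ℂ) = p - 1 ∧ n + 1 = t)) :
    ∃ χ ∈ X, εX χ = -1 :=
  h22_exists_minus_core
    (fun f hf hsum => no_minus_arith p e t n v f Fact.out hN.et hN.e_ge hN.n_ge hN.small hf hsum)
    hN hD hdeg

end Chars

end Cfsg.Agent.Lib.helper21.BR
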