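/-
helper22: Chevalley's commutator formula for the seven tabulated data.
-/
import Cfsg.Agent.Lib.helper22.ChevCFG2
import Cfsg.Agent.Lib.helper22.ChevCFB2
import Cfsg.Agent.Lib.helper22.ChevCFD4
import Cfsg.Agent.Lib.helper22.ChevCFF4
import Cfsg.Agent.Lib.helper22.ChevCFE6
import Cfsg.Agent.Lib.helper22.ChevCFE7
import Cfsg.Agent.Lib.helper22.ChevCFE8

set_option autoImplicit false

namespace Cfsg.Agent.Lib.helper22

open Cfsg.Lie

universe u

/-- Chevalley's commutator formula, for each of the seven tabulated data over every field. -/
theorem commFormula_all (D : ChevalleyDatum)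
    (hD : D ∈ [chevG2, chevB2, chevD4, chevF4, chevE6, chevE7, chevE8]) (F : Type u) [Field F] :
    CommFormula D F := by
  simp only [List.mem_cons, List.not_mem_nil, or_false] at hD
  rcases hD with rfl | rfl | rfl | rfl | rfl | rfl | rfl
  · exact commFormula_G2 F
  · exact commFormula_B2 F
  · exact commFormula_D4 F
  · exact commFormula_F4 F
  · exact commFormula_E6 F
  · exact commFormula_E7 F
  · exact commFormula_E8 F

end Cfsg.Agent.Lib.helper22
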