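/-
helper22: centralisers of the involutions `x_47(1) x_44(1)` and `x_39(1) x_45(1)` of the Chevalley group of type
`F₄` in characteristic two (fundamental roots `p₁ = 33`, `p₂ = 27`, `p₃ = 25`, `p₄ = 24`).
-/
import Cfsg.Agent.Lib.helper22.ChevF4Tab

set_option autoImplicit false

namespace Cfsg.Agent.Lib.helper22

open Cfsg.Lie

/-! ### Table facts -/

theorem f4_seg : segCommOK chevF4 39 = true := by decide +kernel

/-- The positive roots whose root elements commute with the root elements of the roots of `f4Psi`. -/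
def f4TrivQ : List ℕ := [28, 29, 30, 31, 32, 35, 36, 37, 38, 39, 40, 41, 42, 43, 44, 45, 46, 47]

theorem f4_trivQ : f4TrivQ.all (fun q => commListOK chevF4 q f4Psi) = true := by decide +kernel

theorem f4_spec : commListOK chevF4 27 [40, 44, 45, 46, 47] = true ∧
    commListOK chevF4 34 [40, 44, 45, 46, 47] = true ∧ commListOK chevF4 33 [39, 44, 45, 46, 47] = true ∧
    commListOK chevF4 25 [39, 40, 44, 46, 47] = true ∧ commListOK chevF4 26 [39, 40, 44, 46, 47] = true ∧
    commListOK chevF4 24 [39, 40, 44, 45, 47] = true := by decide +kernel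

theorem f4_terms_27 : chevF4.commTerms 27 39 = [(40, 1, 1, 1)] := by decide +kernel

theorem f4_terms_34 : chevF4.commTerms 34 39 = [(44, 1, 1, 1)] := by decide +kernel

theorem f4_terms_33 : chevF4.commTerms 33 40 = [(44, 1, 1, 1)] := by decide +kernel

theorem f4_terms_25 : chevF4.commTerms 25 45 = [(46, 1, 1, 1)] := by decide +kernel

theorem f4_terms_26 : chevF4.commTerms 26 45 = [(47, 1, 1, 1)] := by decide +kernel

theorem f4_terms_24 : chevF4.commTerms 24 46 = [(47, 1, 1, 1)] := by decide +kernel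

theorem f4_levi_comm : [33, 14, 24, 23].all (fun q => commListOK chevF4 q [39, 45]) = true := by
  decide +kernel

theorem f4_gen_comm : (List.range' 24 24).all (fun r => [27, 25, 34, 26].contains r ||
    commListOK chevF4 r [39, 45]) = true := by decide +kernel

theorem f4_leviNorm : leviNormOK chevF4 [33, 24] [33, 14, 24, 23] = true := by decide +kernel

theorem f4_simple : chevF4.simple 0 = 33 ∧ chevF4.simple 1 = 27 ∧ chevF4.simple 2 = 25 ∧
    chevF4.simple 3 = 24 := by decide +kernel

theorem f4_neg : chevF4.neg 33 = 14 ∧ chevF4.neg 27 = 20 ∧ chevF4.neg 25 = 22 ∧ chevF4.neg 24 = 23 ∧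
    chevF4.neg 14 = 33 ∧ chevF4.neg 23 = 24 := by decide +kernel

theorem f4_centU : centUOK chevF4 47 = true ∧ centUOK chevF4 44 = true := by decide +kernel

theorem f4_low_comm : commEven chevF4 47 20 = true ∧ commEven chevF4 47 22 = true ∧
    commEven chevF4 44 20 = true ∧ commEven chevF4 44 22 = true := by decide +kernel

theorem f4_refl_ne : chevF4.reflectRoot 0 44 ≠ 44 ∧ chevF4.reflectRoot 3 47 ≠ 47 := by decide +kernel

theorem f4_refl : chevF4.reflectRoot 3 33 = 33 ∧ chevF4.reflectRoot 3 27 = 27 ∧ chevF4.reflectRoot 3 25 = 26 ∧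
    chevF4.reflectRoot 3 24 = 23 ∧ chevF4.reflectRoot 0 33 = 14 ∧ chevF4.reflectRoot 0 27 = 34 ∧
    chevF4.reflectRoot 0 25 = 25 ∧ chevF4.reflectRoot 0 24 = 24 ∧ chevF4.reflectRoot 0 26 = 26 ∧
    chevF4.reflectRoot 0 23 = 23 := by decide +kernel

theorem f4_cartan : (∀ i, i < 4 → cartanZ chevF4 i 44 = if i = 0 then 1 else 0) ∧
    (∀ i, i < 4 → cartanZ chevF4 i 47 = if i = 3 then 1 else 0) ∧
    cartanZ chevF4 0 39 = 0 ∧ cartanZ chevF4 1 39 = -1 ∧ cartanZ chevF4 2 39 = 1 ∧ cartanZ chevF4 3 39 = 0 ∧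
    cartanZ chevF4 0 45 = 0 ∧ cartanZ chevF4 1 45 = 2 ∧ cartanZ chevF4 2 45 = -1 ∧ cartanZ chevF4 3 45 = 0 := by
  decide +kernel

theorem f4_lt {s : ℕ} (hs : s < 48) : s < chevF4.nroots := by
  rw [f4_nroots]
  exact hs

theorem f4_pos {s : ℕ} (hs : 24 ≤ s) : chevF4.nroots / 2 ≤ s := by
  rw [f4_nroots]
  exact hs

theorem f4_psi_nodup : f4Psi.Nodup := by decide

theorem f4_psi_lt : ∀ r ∈ f4Psi, 39 ≤ r ∧ r < chevF4.nroots := by
  intro r hr
  unfold f4Psi at hr
  simp only [List.mem_cons, List.not_mem_nil, or_false] at hr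
  rw [f4_nroots]
  omega

section F4

variable {F : Type*} [Field F] {η : ℕ → ℕ → ℤ}

theorem f4_neg_ne (I : BNInput chevF4 F η) {q s : ℕ} (hq : q < 48) (h : s + q + 1 ≠ 48) :
    s ≠ chevF4.neg q := by
  have := I.hU.negrev q (f4_lt hq)
  rw [f4_nroots] at this
  omega

variable [CharP F 2]

theorem f4_seg_comm (I : BNInput chevF4 F η) : ∀ r, 39 ≤ r → r < chevF4.nroots → ∀ s, 39 ≤ s →
    s < chevF4.nroots → ∀ a b : F, xGL I.hSD' r a * xGL I.hSD' s b = xGL I.hSD' s b * xGL I.hSD' r a :=
  seg_comm_of_ok I f4_seg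

/-! ### The centraliser of `x_47(1) x_44(1)` -/

/-- The centraliser of `x_47(1) x_44(1)`: it is generated by `U`, `X_{-p₂}` and `X_{-p₃}`. -/
theorem f4_centralizer_w (C : ChevFacts chevF4 F η) :
    chevF4.group F ⊓ Subgroup.centralizer {xGL C.I.hSD' 47 (1 : F) * xGL C.I.hSD' 44 1} =
      lowSub chevF4 F [20, 22] := by
  obtain ⟨s0, s1, s2, s3⟩ := f4_simple
  obtain ⟨n33, n27, n25, n24, n14, n23⟩ := f4_neg
  obtain ⟨_, h47, hcU47⟩ := centU_of_ok (F := F) C.I f4_centU.1
  obtain ⟨_, h44, hcU44⟩ := centU_of_ok (F := F) C.I f4_centU.2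
  have hseg : ∀ r, 44 ≤ r → r < chevF4.nroots → ∀ s, 44 ≤ s → s < chevF4.nroots → ∀ a b : F,
      xGL C.I.hSD' r a * xGL C.I.hSD' s b = xGL C.I.hSD' s b * xGL C.I.hSD' r a :=
    fun r hr1 hr2 s hs1 hs2 => f4_seg_comm C.I r (by omega) hr2 s (by omega) hs2
  have hw : ∀ a b : F, xGL C.I.hSD' 47 b * xGL C.I.hSD' 44 a =
      zprod C.I.hSD' [44, 47] (fun s => if s = 44 then a else b) := by
    intro a b
    rw [zprod_cons, zprod_cons, zprod_nil, mul_one, if_pos rfl, if_neg (by norm_num)]
    exact hseg 47 (by norm_num) h47 44 (by norm_num) h44 b a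
  have hnd : ([44, 47] : List ℕ).Nodup := by decide
  have hL : ∀ r ∈ ([47] : List ℕ), 44 ≤ r ∧ r < chevF4.nroots := by
    intro r hr
    rw [List.mem_singleton] at hr
    subst hr
    exact ⟨by norm_num, h47⟩
  have hL' : ∀ r ∈ ([44, 47] : List ℕ), 44 ≤ r ∧ r < chevF4.nroots := by
    intro r hr
    rcases List.mem_cons.mp hr with rfl | hr
    · exact ⟨le_refl _, h44⟩
    · exact hL r hr
  have hBM : chevF4.borelSubgroup F ≤ stabX C.I.hSD' 47 ⊓ stabX C.I.hSD' 44 :=
    le_inf (borel_le_stabX C.I h47 hcU47) (borel_le_stabX C.I h44 hcU44)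
  have hLlt : ∀ s ∈ ([20, 22] : List ℕ), s < chevF4.nroots := by
    intro s hs
    apply f4_lt
    simp only [List.mem_cons, List.not_mem_nil, or_false] at hs
    omega
  have hcent : lowSub chevF4 F [20, 22] ≤
      Subgroup.centralizer {xGL C.I.hSD' 47 (1 : F) * xGL C.I.hSD' 44 1} := by
    have h1 := lowSub_le_centralizer C.I hcU47 (L := [20, 22]) (by
      intro s hs a c
      simp only [List.mem_cons, List.not_mem_nil, or_false] at hs
      rcases hs with rfl | rfl
      · exact x_comm_of_even C.I h47 (f4_lt (by norm_num)) (f4_neg_ne C.I (by norm_num) (by norm_num))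
          f4_low_comm.1 a c
      · exact x_comm_of_even C.I h47 (f4_lt (by norm_num)) (f4_neg_ne C.I (by norm_num) (by norm_num))
          f4_low_comm.2.1 a c) (1 : F)
    have h2 := lowSub_le_centralizer C.I hcU44 (L := [20, 22]) (by
      intro s hs a c
      simp only [List.mem_cons, List.not_mem_nil, or_false] at hs
      rcases hs with rfl | rfl
      · exact x_comm_of_even C.I h44 (f4_lt (by norm_num)) (f4_neg_ne C.I (by norm_num) (by norm_num))
          f4_low_comm.2.2.1 a c
      · exact x_comm_of_even C.I h44 (f4_lt (by norm_num)) (f4_neg_ne C.I (by norm_num) (by norm_num))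
          f4_low_comm.2.2.2 a c) (1 : F)
    intro y hy
    have e1 := (Subgroup.mem_centralizer_iff.mp (h1 hy)) _ rfl
    have e2 := (Subgroup.mem_centralizer_iff.mp (h2 hy)) _ rfl
    rw [Subgroup.mem_centralizer_iff]
    intro z hz
    rw [Set.mem_singleton_iff] at hz
    subst hz
    rw [mul_assoc, e2, ← mul_assoc, e1, mul_assoc]
  apply le_antisymm
  · rintro g ⟨hgG, hgC⟩
    have hgG' : g ∈ chevF4.group F := hgG
    have hc : g * (xGL C.I.hSD' 47 (1 : F) * xGL C.I.hSD' 44 1) =
        (xGL C.I.hSD' 47 (1 : F) * xGL C.I.hSD' 44 1) * g :=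
      ((Subgroup.mem_centralizer_iff.mp hgC) _ rfl).symm
    rw [hw 1 1] at hc
    have hgM : g ∈ stabX C.I.hSD' 47 ⊓ stabX C.I.hSD' 44 := by
      obtain ⟨b₁, hb₁, n, hn, b₂, hb₂, rfl, π, π', c, c', hπ, hπ'⟩ := bruhat_root C.I C.hG hgG'
      have hBc : ∀ b ∈ chevF4.borelSubgroup F, ∃ τ : ℕ → F, τ 44 ≠ 0 ∧ τ 47 ≠ 0 ∧
          b * zprod C.I.hSD' [44, 47] (fun s => if s = 44 then (1 : F) else 1) * b⁻¹ =
            zprod C.I.hSD' [44, 47] τ := by
        intro b hb
        obtain ⟨a, ea⟩ := ((mem_stabX C.I.hSD' 44 b).mp (Subgroup.mem_inf.mp (hBM hb)).2).1 (1 : F)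
        obtain ⟨a', ea'⟩ := ((mem_stabX C.I.hSD' 47 b).mp (Subgroup.mem_inf.mp (hBM hb)).1).1 (1 : F)
        have ha : a ≠ 0 := by
          intro h0
          rw [h0, xGL_zero] at ea
          apply xGL_one_ne_one C.I h44 (F := F)
          calc xGL C.I.hSD' 44 (1 : F) = b⁻¹ * (b * xGL C.I.hSD' 44 1 * b⁻¹) * b := by group
            _ = 1 := by
              rw [ea]
              group
        have ha' : a' ≠ 0 := by
          intro h0
          rw [h0, xGL_zero] at ea'
          apply xGL_one_ne_one C.I h47 (F := F)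
          calc xGL C.I.hSD' 47 (1 : F) = b⁻¹ * (b * xGL C.I.hSD' 47 1 * b⁻¹) * b := by group
            _ = 1 := by
              rw [ea']
              group
        refine ⟨fun s => if s = 44 then a else a', ?_, ?_, ?_⟩
        · show (if (44 : ℕ) = 44 then a else a') ≠ 0
          rw [if_pos rfl]
          exact ha
        · show (if (47 : ℕ) = 44 then a else a') ≠ 0
          rw [if_neg (by norm_num)]
          exact ha'
        · rw [← hw 1 1, ← hw a a', ← ea, ← ea']
          group
      obtain ⟨τ₂, h2a, h2b, e₂⟩ := hBc b₂ hb₂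
      obtain ⟨τ₁, h1a, h1b, e₁⟩ := hBc b₁⁻¹ (inv_mem hb₁)
      rw [inv_inv] at e₁
      have key : n * zprod C.I.hSD' [44, 47] τ₂ * n⁻¹ = zprod C.I.hSD' [44, 47] τ₁ := by
        rw [← e₂, ← e₁]
        calc n * (b₂ * zprod C.I.hSD' [44, 47] (fun s => if s = 44 then (1 : F) else 1) * b₂⁻¹) * n⁻¹
            = b₁⁻¹ * (b₁ * n * b₂ * zprod C.I.hSD' [44, 47] (fun s => if s = 44 then (1 : F) else 1)) *
                b₂⁻¹ * n⁻¹ := by group
          _ = b₁⁻¹ * (zprod C.I.hSD' [44, 47] (fun s => if s = 44 then (1 : F) else 1) * (b₁ * n * b₂)) *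
                b₂⁻¹ * n⁻¹ := by rw [hc]
          _ = b₁⁻¹ * zprod C.I.hSD' [44, 47] (fun s => if s = 44 then (1 : F) else 1) * b₁ := by group
      have hsupp := supp_conj C hπ hπ' h44 (f4_pos (by norm_num)) hseg hnd hL h1a key
      have s44 := (hsupp 44 (by decide) h2a).1
      have s47 := (hsupp 47 (by decide) h2b).1
      obtain ⟨π₀, c₀, wd, hπ₀, hwd, he⟩ := rootAct_word C.I hn
      have e47 : π 47 = π₀ 47 := (rootAct_unique C.I hπ hπ₀ h47).1
      obtain ⟨k, hk, ht⟩ := tupG_of_ok f4_reflTab f4_base_mem47 f4_tupOK47 wd hwd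
      have hk48 : k < 48 := hk
      have hp := of_decide_eq_true (List.all_eq_true.mp (List.all_eq_true.mp f4_orb47_prop k
        (List.mem_range.mpr hk48)) _ ht)
      simp only [List.map_cons, List.map_nil, List.getD_cons_zero, ← he] at hp
      have p47 : π 47 = 47 := by
        simp only [List.mem_cons, List.not_mem_nil, or_false] at s47
        rcases s47 with h | h
        · rw [e47] at h
          exact absurd h hp
        · exact h
      have p44 : π 44 = 44 := by
        simp only [List.mem_cons, List.not_mem_nil, or_false] at s44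
        rcases s44 with h | h
        · exact h
        · exfalso
          have i1 := rootAct_inv_comp C.I hπ hπ' h44
          have i2 := rootAct_inv_comp C.I hπ hπ' h47
          rw [h] at i1
          rw [p47] at i2
          omega
      have p47' : π' 47 = 47 := by
        have := rootAct_inv_comp C.I hπ hπ' h47
        rwa [p47] at this
      have p44' : π' 44 = 44 := by
        have := rootAct_inv_comp C.I hπ hπ' h44
        rwa [p44] at this
      have hnM : n ∈ stabX C.I.hSD' 47 ⊓ stabX C.I.hSD' 44 :=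
        Subgroup.mem_inf.mpr ⟨stabX_of_rootAct C.I.hSD' hπ hπ' h47 p47 p47',
          stabX_of_rootAct C.I.hSD' hπ hπ' h44 p44 p44'⟩
      exact mul_mem (mul_mem (hBM hb₁) hnM) (hBM hb₂)
    have h1 := sub_inf_group_le C.I C.hBG C.hNG C.hG (stabX C.I.hSD' 47 ⊓ stabX C.I.hSD' 44) hBM hgG' hgM
    have h2 : chevF4.borelSubgroup F ⊔ Subgroup.closure {y : GL chevF4.Idx F | ∃ i, i < chevF4.rank ∧
        (nGL C.I.hSD' i : GL chevF4.Idx F) ∈ stabX C.I.hSD' 47 ⊓ stabX C.I.hSD' 44 ∧ y = nGL C.I.hSD' i} ≤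
        lowSub chevF4 F [20, 22] ⊔ chevF4.diagonalSubgroup F := by
      refine sup_le ?_ ?_
      · unfold ChevalleyDatum.borelSubgroup
        exact sup_le (le_trans le_sup_left le_sup_left) le_sup_right
      · refine le_trans ?_ le_sup_left
        rw [Subgroup.closure_le]
        rintro y ⟨i, hi, hiM, rfl⟩
        have r47 := refl_fix_of_stabX C.I hi h47 (Subgroup.mem_inf.mp hiM).1
        have r44 := refl_fix_of_stabX C.I hi h44 (Subgroup.mem_inf.mp hiM).2
        have hi4 : i < 4 := by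
          rw [f4_rank] at hi
          exact hi
        have hp := (C.I.hS ⟨i, hi⟩).1
        have hx1 : xGL C.I.hSD' (chevF4.simple i) (1 : F) ∈ lowSub chevF4 F [20, 22] :=
          xGL_pos_mem_lowSub C.I _ hp (simple_pos C.I hi) 1
        have hx2 : xGL C.I.hSD' (chevF4.neg (chevF4.simple i)) (-1 : F) ∈ lowSub chevF4 F [20, 22] := by
          apply xGL_low_mem_lowSub C.I.hSD'
          interval_cases i
          · exact absurd r44 f4_refl_ne.1
          · rw [s1, n27]
            decide
          · rw [s2, n25]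
            decide
          · exact absurd r47 f4_refl_ne.2
        exact mul_mem (mul_mem hx1 hx2) hx1
    obtain ⟨a, ha, h, hh, rfl⟩ := hi_sup_decomp (lowSub chevF4 F [20, 22]) (chevF4.diagonalSubgroup F)
      (fun h hh a ha => diag_conj_lowSub C.I hLlt hh ha) (h2 h1)
    refine mul_mem ha ?_
    have hac := (Subgroup.mem_centralizer_iff.mp (hcent ha)) _ rfl
    rw [hw 1 1] at hac
    have hhc : h * zprod C.I.hSD' [44, 47] (fun s => if s = 44 then (1 : F) else 1) * h⁻¹ =
        zprod C.I.hSD' [44, 47] (fun s => if s = 44 then (1 : F) else 1) := by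
      calc h * zprod C.I.hSD' [44, 47] (fun s => if s = 44 then (1 : F) else 1) * h⁻¹
          = a⁻¹ * (a * h * zprod C.I.hSD' [44, 47] (fun s => if s = 44 then (1 : F) else 1)) * h⁻¹ := by
            group
        _ = a⁻¹ * (zprod C.I.hSD' [44, 47] (fun s => if s = 44 then (1 : F) else 1) * (a * h)) * h⁻¹ := by
            rw [hc]
        _ = a⁻¹ * (zprod C.I.hSD' [44, 47] (fun s => if s = 44 then (1 : F) else 1) * a) := by group
        _ = zprod C.I.hSD' [44, 47] (fun s => if s = 44 then (1 : F) else 1) := by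
            rw [hac]
            group
    have hh' := hh
    rw [diagonalSubgroup_eq_torus C.I.hS C.I.hSD', torus_eq_range] at hh'
    obtain ⟨cc, rfl⟩ := hh'
    rw [zprod_conj_diag C.I.hSD' (hi_rootAct_torusHom C.I cc) (fun r hr => (hL' r hr).2)] at hhc
    have e3 := zprod_sub_inj C.I (le_of_lt h44) (f4_pos (by norm_num)) hseg hnd hL' hhc
    have e44 := e3 44 (by decide)
    have e47 := e3 47 (by decide)
    simp only [ite_self, mul_one] at e44 e47
    have hk0 : 0 < chevF4.rank := by
      rw [f4_rank]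
      norm_num
    have hk3 : 3 < chevF4.rank := by
      rw [f4_rank]
      norm_num
    rw [torusChar_of_cartan hk0 (fun i hi => f4_cartan.1 i (by rw [f4_rank] at hi; exact hi))] at e44
    rw [torusChar_of_cartan hk3 (fun i hi => f4_cartan.2.1 i (by rw [f4_rank] at hi; exact hi))] at e47
    have c0 : cc ⟨0, hk0⟩ = 1 := Units.ext e44
    have c3 : cc ⟨3, hk3⟩ = 1 := Units.ext e47
    apply torusHom_mem_of_triv C.I (lowSub chevF4 F [20, 22]) cc
    intro i hci t
    have hi4 : i.val < 4 := lt_of_lt_of_eq i.isLt f4_rank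
    have h0 : i.val ≠ 0 := fun h => hci (by
      rw [show i = ⟨0, hk0⟩ from Fin.ext h]
      exact c0)
    have h3 : i.val ≠ 3 := fun h => hci (by
      rw [show i = ⟨3, hk3⟩ from Fin.ext h]
      exact c3)
    have h12 : i.val = 1 ∨ i.val = 2 := by omega
    rcases h12 with e | e
    · rw [e, s1, n27]
      exact ⟨xGL_pos_mem_lowSub C.I _ (f4_lt (by norm_num)) (f4_pos (by norm_num)) t,
        xGL_low_mem_lowSub C.I.hSD' (by decide) t⟩
    · rw [e, s2, n25]
      exact ⟨xGL_pos_mem_lowSub C.I _ (f4_lt (by norm_num)) (f4_pos (by norm_num)) t,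
        xGL_low_mem_lowSub C.I.hSD' (by decide) t⟩
  · exact le_inf (lowSub_le_group hLlt) hcent

/-! ### The centraliser of `x_39(1) x_45(1)` -/

/-- The coefficient functions supported at `39` and `45`. -/
def f4tau (a d : F) : ℕ → F := fun s => if s = 39 then a else if s = 45 then d else 0

omit [CharP F 2] in
theorem f4_v_eq (I : BNInput chevF4 F η) (a d : F) :
    zprod I.hSD' f4Psi (f4tau a d) = xGL I.hSD' 39 a * xGL I.hSD' 45 d := by
  unfold f4Psi f4tau
  simp [zprod_cons, zprod_nil, xGL_zero]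

/-- The action of the positive root elements on the coefficients of the products over `f4Psi`. -/
def f4act (q : ℕ) (t : F) (τ : ℕ → F) : ℕ → F := fun s =>
  τ s + (if q = 27 ∧ s = 40 then t * τ 39 else 0) + (if q = 34 ∧ s = 44 then t * τ 39 else 0) +
    (if q = 33 ∧ s = 44 then t * τ 40 else 0) + (if q = 25 ∧ s = 46 then t * τ 45 else 0) +
    (if q = 26 ∧ s = 47 then t * τ 45 else 0) + (if q = 24 ∧ s = 47 then t * τ 46 else 0)

theorem f4_psi_comm (I : BNInput chevF4 F η) : ∀ r ∈ f4Psi, ∀ s ∈ f4Psi, ∀ a b : F,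
    xGL I.hSD' r a * xGL I.hSD' s b = xGL I.hSD' s b * xGL I.hSD' r a :=
  fun r hr s hs => f4_seg_comm I r (f4_psi_lt r hr).1 (f4_psi_lt r hr).2 s (f4_psi_lt s hs).1 (f4_psi_lt s hs).2

theorem f4_conj_spec (I : BNInput chevF4 F η) {q s₀ k : ℕ} {L' : List ℕ} (hq : q < 48) (hq' : 24 ≤ q)
    (hs₀ : s₀ ∈ f4Psi) (hk : k ∈ f4Psi) (hsq : s₀ ≠ q) (hL' : commListOK chevF4 q L' = true)
    (hsub : ∀ s ∈ f4Psi, s ≠ s₀ → s ∈ L') (hT : chevF4.commTerms q s₀ = [(k, 1, 1, 1)]) (t : F)
    (τ : ℕ → F) :
    xGL I.hSD' q t * zprod I.hSD' f4Psi τ * (xGL I.hSD' q t)⁻¹ =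
      zprod I.hSD' f4Psi (fun s => τ s + if s = k then t * τ s₀ else 0) := by
  have hs₀' := f4_psi_lt s₀ hs₀
  rw [zprod_conj_single I.hSD' f4_psi_nodup (f4_psi_comm I) hs₀ hk
    (fun s hs hne b => comm_of_listOK I hL' s (hsub s hs hne) t b)
    (fun u => xGL_conj_single I (f4_lt hq) hs₀'.2 hsq (f4_neg_ne I hq (by omega)) hT (by decide) t u) τ]
  apply zprod_congr
  intro s _
  show τ s + (if k = s then t * τ s₀ else 0) = τ s + (if s = k then t * τ s₀ else 0)
  by_cases hks : k = s
  · rw [if_pos hks, if_pos hks.symm]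
  · rw [if_neg hks, if_neg (fun h => hks h.symm)]

theorem f4_conj_act (I : BNInput chevF4 F η) {q : ℕ} (hq' : 24 ≤ q) (hq : q < 48) (t : F) (τ : ℕ → F) :
    xGL I.hSD' q t * zprod I.hSD' f4Psi τ * (xGL I.hSD' q t)⁻¹ = zprod I.hSD' f4Psi (f4act q t τ) := by
  have htriv : ∀ q ∈ f4TrivQ,
      xGL I.hSD' q t * zprod I.hSD' f4Psi τ * (xGL I.hSD' q t)⁻¹ = zprod I.hSD' f4Psi τ := by
    intro q hq
    exact zprod_conj_triv I.hSD'
      (fun s hs b => comm_of_listOK I (List.all_eq_true.mp f4_trivQ q hq) s hs t b) τ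
  obtain ⟨sp27, sp34, sp33, sp25, sp26, sp24⟩ := f4_spec
  interval_cases q <;> first
    | (rw [htriv _ (by decide)]
       apply zprod_congr
       intro s _
       simp [f4act])
    | (rw [f4_conj_spec I (by norm_num) (by norm_num) (by decide : 46 ∈ f4Psi) (by decide : 47 ∈ f4Psi) (by norm_num)
         sp24 (by decide) f4_terms_24]
       apply zprod_congr
       intro s _
       simp [f4act])
    | (rw [f4_conj_spec I (by norm_num) (by norm_num) (by decide : 45 ∈ f4Psi) (by decide : 46 ∈ f4Psi) (by norm_num)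
         sp25 (by decide) f4_terms_25]
       apply zprod_congr
       intro s _
       simp [f4act])
    | (rw [f4_conj_spec I (by norm_num) (by norm_num) (by decide : 45 ∈ f4Psi) (by decide : 47 ∈ f4Psi) (by norm_num)
         sp26 (by decide) f4_terms_26]
       apply zprod_congr
       intro s _
       simp [f4act])
    | (rw [f4_conj_spec I (by norm_num) (by norm_num) (by decide : 39 ∈ f4Psi) (by decide : 40 ∈ f4Psi) (by norm_num)
         sp27 (by decide) f4_terms_27]
       apply zprod_congr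
       intro s _
       simp [f4act])
    | (rw [f4_conj_spec I (by norm_num) (by norm_num) (by decide : 40 ∈ f4Psi) (by decide : 44 ∈ f4Psi) (by norm_num)
         sp33 (by decide) f4_terms_33]
       apply zprod_congr
       intro s _
       simp [f4act])
    | (rw [f4_conj_spec I (by norm_num) (by norm_num) (by decide : 39 ∈ f4Psi) (by decide : 44 ∈ f4Psi) (by norm_num)
         sp34 (by decide) f4_terms_34]
       apply zprod_congr
       intro s _
       simp [f4act])

omit [CharP F 2] in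
theorem f4act_39 (q : ℕ) (t : F) (τ : ℕ → F) : f4act q t τ 39 = τ 39 := by simp [f4act]

omit [CharP F 2] in
theorem f4act_45 (q : ℕ) (t : F) (τ : ℕ → F) : f4act q t τ 45 = τ 45 := by simp [f4act]

omit [CharP F 2] in
theorem f4_fold_fix (t : ℕ → F) (τ : ℕ → F) (Lq : List ℕ) :
    (Lq.foldr (fun q σ => f4act q (t q) σ) τ) 39 = τ 39 ∧
      (Lq.foldr (fun q σ => f4act q (t q) σ) τ) 45 = τ 45 := by
  induction Lq with
  | nil => exact ⟨rfl, rfl⟩
  | cons q Lq ih =>
    rw [List.foldr_cons, f4act_39, f4act_45]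
    exact ih

/-- Conjugation of the products over `f4Psi` by the elements of `U`. -/
theorem f4_pos_conj (I : BNInput chevF4 F η) {u : GL chevF4.Idx F} (hu : u ∈ chevF4.posUnipotent F) :
    ∃ t : ℕ → F, u = zprod I.hSD' (List.range' 24 24) t ∧ ∀ τ : ℕ → F,
      u * zprod I.hSD' f4Psi τ * u⁻¹ =
        zprod I.hSD' f4Psi ((List.range' 24 24).foldr (fun q σ => f4act q (t q) σ) τ) := by
  obtain ⟨t, ht⟩ := pos_eq_zprod I hu
  have h24 : chevF4.nroots / 2 = 24 := by rw [f4_nroots]
  rw [h24] at ht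
  refine ⟨t, ht, fun τ => ?_⟩
  rw [ht]
  apply zprod_conj_fold I.hSD' f4act
  intro q hq t' τ'
  rw [List.mem_range'_1] at hq
  exact f4_conj_act I hq.1 (by omega) t' τ'

/-- The conjugates of `x_39(1) x_45(1)` under `B`. -/
theorem f4_borel_conj (I : BNInput chevF4 F η) {b : GL chevF4.Idx F} (hb : b ∈ chevF4.borelSubgroup F) :
    ∃ τ : ℕ → F, τ 39 ≠ 0 ∧ τ 45 ≠ 0 ∧
      b * zprod I.hSD' f4Psi (f4tau 1 1) * b⁻¹ = zprod I.hSD' f4Psi τ := by
  obtain ⟨u, hu, h, hh, rfl⟩ := borel_decomp I hb
  obtain ⟨χ, hχ⟩ := rootAct_diag I hh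
  obtain ⟨t, -, hconj⟩ := f4_pos_conj I hu
  have e1 := zprod_conj_diag I.hSD' hχ (fun r hr => (f4_psi_lt r hr).2) (f4tau (1 : F) 1)
  have v39 : f4tau (1 : F) 1 39 = 1 := by simp [f4tau]
  have v45 : f4tau (1 : F) 1 45 = 1 := by simp [f4tau]
  refine ⟨(List.range' 24 24).foldr (fun q σ => f4act q (t q) σ) (fun s => χ s * f4tau (1 : F) 1 s),
    ?_, ?_, ?_⟩
  · rw [(f4_fold_fix t _ _).1]
    show χ 39 * f4tau (1 : F) 1 39 ≠ 0
    rw [v39, mul_one]
    exact rootAct_ne_zero' I hχ (f4_lt (by norm_num))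
  · rw [(f4_fold_fix t _ _).2]
    show χ 45 * f4tau (1 : F) 1 45 ≠ 0
    rw [v45, mul_one]
    exact rootAct_ne_zero' I hχ (f4_lt (by norm_num))
  · calc u * h * zprod I.hSD' f4Psi (f4tau 1 1) * (u * h)⁻¹
        = u * (h * zprod I.hSD' f4Psi (f4tau 1 1) * h⁻¹) * u⁻¹ := by group
      _ = _ := by rw [e1, hconj]

omit [CharP F 2] in
/-- An element of `N` mapping the roots `39` and `45` into `f4Psi` lies in `H ⟨n_{p₁}, n_{p₄}⟩`. -/
theorem f4_mono_fix (C : ChevFacts chevF4 F η) {n : GL chevF4.Idx F} (hn : n ∈ chevF4.monomialSubgroup F)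
    {π : ℕ → ℕ} {c : ℕ → F} (hπ : RootAct chevF4 F (n : Matrix chevF4.Idx chevF4.Idx F) π c)
    (h39 : π 39 ∈ f4Psi) (h45 : π 45 ∈ f4Psi) :
    n ∈ chevF4.diagonalSubgroup F ∨ n * nGL C.I.hSD' 3 ∈ chevF4.diagonalSubgroup F ∨
      n * nGL C.I.hSD' 0 ∈ chevF4.diagonalSubgroup F ∨
      n * nGL C.I.hSD' 0 * nGL C.I.hSD' 3 ∈ chevF4.diagonalSubgroup F := by
  obtain ⟨s0, s1, s2, s3⟩ := f4_simple
  obtain ⟨n33, n27, n25, n24, n14, n23⟩ := f4_neg
  obtain ⟨r3_33, r3_27, r3_25, r3_24, r0_33, r0_27, r0_25, r0_24, r0_26, r0_23⟩ := f4_refl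
  obtain ⟨π₀, c₀, wd, hπ₀, hwd, he⟩ := rootAct_word C.I hn
  have hππ : ∀ s, s < 48 → π s = π₀ s := fun s hs => (rootAct_unique C.I hπ hπ₀ (f4_lt hs)).1
  rw [hππ 39 (by norm_num)] at h39
  rw [hππ 45 (by norm_num)] at h45
  obtain ⟨k, hk, ht⟩ := tupG_of_ok f4_reflTab f4_base_mem f4_tupOK wd hwd
  have hlen : f4Orb.length = 48 := by decide +kernel
  have hk48 : k < 48 := by
    rw [hlen] at hk
    exact hk
  have hp := of_decide_eq_true (List.all_eq_true.mp (List.all_eq_true.mp f4_orb_prop k
    (List.mem_range.mpr hk48)) _ ht)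
  unfold f4Base at hp
  simp only [List.map_cons, List.map_nil, List.getD_cons_succ, List.getD_cons_zero, ← he] at hp
  have h0 : 0 < chevF4.rank := by
    rw [f4_rank]
    norm_num
  have h3 : 3 < chevF4.rank := by
    rw [f4_rank]
    norm_num
  have hneg : ∀ s, s < 48 → π₀ (chevF4.neg s) = chevF4.neg (π₀ s) := fun s hs => (hπ₀ s (f4_lt hs)).2.1
  rcases hp with hp | hp | hp
  · unfold f4Good at hp
    simp only [List.mem_cons, List.cons.injEq, List.not_mem_nil, or_false, and_true] at hp
    rcases hp with ⟨e33, e27, e25, e24, e34, e26, -, -⟩ | ⟨e33, e27, e25, e24, e34, e26, -, -⟩ |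
      ⟨e33, e27, e25, e24, e34, e26, -, -⟩ | ⟨e33, e27, e25, e24, e34, e26, -, -⟩
    · -- the trivial coset
      left
      apply mono_fix_simple C hn hπ₀
      intro i hi
      rw [f4_rank] at hi
      interval_cases i
      · rw [s0, e33]
      · rw [s1, e27]
      · rw [s2, e25]
      · rw [s3, e24]
    · -- the coset of `n_{p₄}`
      right
      left
      have hm : n * nGL C.I.hSD' 3 ∈ chevF4.monomialSubgroup F := mul_mem hn (nGL_mem C.I h3)
      have hact := hπ₀.mul (rootAct_nGL C.I h3)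
      rw [← Units.val_mul] at hact
      have e23 : π₀ 23 = 24 := by
        have := hneg 24 (by norm_num)
        rw [n24, e24, n23] at this
        exact this
      apply mono_fix_simple C hm hact
      intro i hi
      rw [f4_rank] at hi
      show π₀ (chevF4.reflectRoot 3 (chevF4.simple i)) = chevF4.simple i
      interval_cases i
      · rw [s0, r3_33, e33]
      · rw [s1, r3_27, e27]
      · rw [s2, r3_25, e26]
      · rw [s3, r3_24, e23]
    · -- the coset of `n_{p₁}`
      right
      right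
      left
      have hm : n * nGL C.I.hSD' 0 ∈ chevF4.monomialSubgroup F := mul_mem hn (nGL_mem C.I h0)
      have hact := hπ₀.mul (rootAct_nGL C.I h0)
      rw [← Units.val_mul] at hact
      have e14 : π₀ 14 = 33 := by
        have := hneg 33 (by norm_num)
        rw [n33, e33, n14] at this
        exact this
      apply mono_fix_simple C hm hact
      intro i hi
      rw [f4_rank] at hi
      show π₀ (chevF4.reflectRoot 0 (chevF4.simple i)) = chevF4.simple i
      interval_cases i
      · rw [s0, r0_33, e14]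
      · rw [s1, r0_27, e34]
      · rw [s2, r0_25, e25]
      · rw [s3, r0_24, e24]
    · -- the coset of `n_{p₁} n_{p₄}`
      right
      right
      right
      have hm : n * nGL C.I.hSD' 0 * nGL C.I.hSD' 3 ∈ chevF4.monomialSubgroup F :=
        mul_mem (mul_mem hn (nGL_mem C.I h0)) (nGL_mem C.I h3)
      have hact := (hπ₀.mul (rootAct_nGL C.I h0)).mul (rootAct_nGL C.I h3)
      rw [← Units.val_mul, ← Units.val_mul] at hact
      have e14 : π₀ 14 = 33 := by
        have := hneg 33 (by norm_num)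
        rw [n33, e33, n14] at this
        exact this
      have e23 : π₀ 23 = 24 := by
        have := hneg 24 (by norm_num)
        rw [n24, e24, n23] at this
        exact this
      apply mono_fix_simple C hm hact
      intro i hi
      rw [f4_rank] at hi
      show π₀ (chevF4.reflectRoot 0 (chevF4.reflectRoot 3 (chevF4.simple i))) = chevF4.simple i
      interval_cases i
      · rw [s0, r3_33, r0_33, e14]
      · rw [s1, r3_27, r0_27, e34]
      · rw [s2, r3_25, r0_26, e26]
      · rw [s3, r3_24, r0_23, e23]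
  · exact absurd h39 hp
  · exact absurd h45 hp

/-- The subgroup generated by `X_{p₁}`, `X_{-p₁}`, `X_{p₄}`, `X_{-p₄}` and the root subgroups of the positive
roots other than `p₂`, `p₃`, `p₁ + p₂`, `p₃ + p₄`. -/
def f4R (F : Type*) [Field F] : Subgroup (GL chevF4.Idx F) :=
  chevF4.rootSubgroup F 33 ⊔ chevF4.rootSubgroup F 14 ⊔ chevF4.rootSubgroup F 24 ⊔ chevF4.rootSubgroup F 23 ⊔
    Subgroup.closure (upSetL chevF4 F [27, 25, 34, 26])

/-- The centraliser of `x_39(1) x_45(1)`. -/
theorem f4_centralizer_v (C : ChevFacts chevF4 F η) :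
    chevF4.group F ⊓ Subgroup.centralizer {xGL C.I.hSD' 39 (1 : F) * xGL C.I.hSD' 45 1} = f4R F := by
  obtain ⟨s0, s1, s2, s3⟩ := f4_simple
  obtain ⟨n33, n27, n25, n24, n14, n23⟩ := f4_neg
  have h33 : chevF4.rootSubgroup F 33 ≤ f4R F :=
    le_trans (le_trans (le_trans le_sup_left le_sup_left) le_sup_left) le_sup_left
  have h14 : chevF4.rootSubgroup F 14 ≤ f4R F :=
    le_trans (le_trans (le_trans le_sup_right le_sup_left) le_sup_left) le_sup_left
  have h24 : chevF4.rootSubgroup F 24 ≤ f4R F := le_trans (le_trans le_sup_right le_sup_left) le_sup_left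
  have h23 : chevF4.rootSubgroup F 23 ≤ f4R F := le_trans le_sup_right le_sup_left
  have hQ : Subgroup.closure (upSetL chevF4 F [27, 25, 34, 26]) ≤ f4R F := le_sup_right
  -- the Levi elements commute with `x_39(a) x_45(d)`
  have hLc : ∀ q ∈ ([33, 14, 24, 23] : List ℕ), ∀ t a d : F,
      xGL C.I.hSD' q t * (xGL C.I.hSD' 39 a * xGL C.I.hSD' 45 d) =
        (xGL C.I.hSD' 39 a * xGL C.I.hSD' 45 d) * xGL C.I.hSD' q t := by
    intro q hq t a d
    have hk := comm_of_listOK (F := F) C.I (List.all_eq_true.mp f4_levi_comm q hq)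
    rw [← mul_assoc, hk 39 (by decide) t a, mul_assoc, hk 45 (by decide) t d, ← mul_assoc]
  have hLcent : ∀ a d : F, Subgroup.closure (rootSetL chevF4 F [33, 14, 24, 23]) ≤
      Subgroup.centralizer {zprod C.I.hSD' f4Psi (f4tau a d)} := by
    intro a d
    rw [Subgroup.closure_le]
    rintro y ⟨q, hq, t, hy⟩
    have ey : y = xGL C.I.hSD' q t := eq_xGL C.I.hSD' hy
    show y ∈ Subgroup.centralizer _
    rw [Subgroup.mem_centralizer_iff]
    intro z hz
    rw [Set.mem_singleton_iff] at hz
    subst hz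
    rw [ey, f4_v_eq C.I]
    exact (hLc q hq t a d).symm
  have hLR : Subgroup.closure (rootSetL chevF4 F [33, 14, 24, 23]) ≤ f4R F := by
    rw [Subgroup.closure_le]
    rintro y ⟨q, hq, t', hy⟩
    have ey : y = xGL C.I.hSD' q t' := eq_xGL C.I.hSD' hy
    simp only [List.mem_cons, List.not_mem_nil, or_false] at hq
    rw [ey]
    rcases hq with rfl | rfl | rfl | rfl
    · exact h33 (xGL_mem_rootSubgroup C.I (f4_lt (by norm_num)) t')
    · exact h14 (xGL_mem_rootSubgroup C.I (f4_lt (by norm_num)) t')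
    · exact h24 (xGL_mem_rootSubgroup C.I (f4_lt (by norm_num)) t')
    · exact h23 (xGL_mem_rootSubgroup C.I (f4_lt (by norm_num)) t')
  apply le_antisymm
  · rintro g ⟨hgG, hgC⟩
    have hgG' : g ∈ chevF4.group F := hgG
    have hc : g * zprod C.I.hSD' f4Psi (f4tau 1 1) = zprod C.I.hSD' f4Psi (f4tau 1 1) * g := by
      rw [f4_v_eq C.I]
      exact ((Subgroup.mem_centralizer_iff.mp hgC) _ rfl).symm
    have hgP : g ∈ (Subgroup.closure (upSetL chevF4 F [33, 24]) ⊔
        Subgroup.closure (rootSetL chevF4 F [33, 14, 24, 23])) ⊔ chevF4.diagonalSubgroup F := by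
      obtain ⟨b₁, hb₁, n, hn, b₂, hb₂, rfl, π, π', c, c', hπ, hπ'⟩ := bruhat_root C.I C.hG hgG'
      obtain ⟨τ₂, h2a, h2b, e₂⟩ := f4_borel_conj C.I hb₂
      obtain ⟨τ₁, h1a, h1b, e₁⟩ := f4_borel_conj C.I (inv_mem hb₁)
      rw [inv_inv] at e₁
      have key : n * zprod C.I.hSD' f4Psi τ₂ * n⁻¹ = zprod C.I.hSD' f4Psi τ₁ := by
        rw [← e₂, ← e₁]
        calc n * (b₂ * zprod C.I.hSD' f4Psi (f4tau 1 1) * b₂⁻¹) * n⁻¹
            = b₁⁻¹ * (b₁ * n * b₂ * zprod C.I.hSD' f4Psi (f4tau 1 1)) * b₂⁻¹ * n⁻¹ := by group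
          _ = b₁⁻¹ * (zprod C.I.hSD' f4Psi (f4tau 1 1) * (b₁ * n * b₂)) * b₂⁻¹ * n⁻¹ := by rw [hc]
          _ = b₁⁻¹ * zprod C.I.hSD' f4Psi (f4tau 1 1) * b₁ := by group
      have hsupp := supp_conj C hπ hπ' (f4_lt (by norm_num : 39 < 48)) (f4_pos (by norm_num))
        (f4_seg_comm C.I) (L := [40, 44, 45, 46, 47]) f4_psi_nodup
        (fun r hr => f4_psi_lt r (List.mem_cons_of_mem _ hr)) h1a key
      have s39 := (hsupp 39 (by decide) h2a).1
      have s45 := (hsupp 45 (by decide) h2b).1
      have hcls := f4_mono_fix C hn hπ s39 s45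
      have hB : chevF4.borelSubgroup F ≤ (Subgroup.closure (upSetL chevF4 F [33, 24]) ⊔
          Subgroup.closure (rootSetL chevF4 F [33, 14, 24, 23])) ⊔ chevF4.diagonalSubgroup F := by
        unfold ChevalleyDatum.borelSubgroup
        exact sup_le_sup_right (pos_le_levi (by decide)) _
      have hn0 : nGL C.I.hSD' 0 ∈ Subgroup.closure (rootSetL chevF4 F [33, 14, 24, 23]) := by
        have := nGL_mem_para C.I (i := 0) (by rw [f4_rank]; norm_num) (F := F)
        rw [s0, n33] at this
        exact (sup_le (rootSubgroup_le_rootSetL (by decide)) (rootSubgroup_le_rootSetL (by decide))) this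
      have hn3 : nGL C.I.hSD' 3 ∈ Subgroup.closure (rootSetL chevF4 F [33, 14, 24, 23]) := by
        have := nGL_mem_para C.I (i := 3) (by rw [f4_rank]; norm_num) (F := F)
        rw [s3, n24] at this
        exact (sup_le (rootSubgroup_le_rootSetL (by decide)) (rootSubgroup_le_rootSetL (by decide))) this
      have hnP : n ∈ (Subgroup.closure (upSetL chevF4 F [33, 24]) ⊔
          Subgroup.closure (rootSetL chevF4 F [33, 14, 24, 23])) ⊔ chevF4.diagonalSubgroup F := by
        rcases hcls with h | h | h | h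
        · exact Subgroup.mem_sup_right h
        · have e : n = (n * nGL C.I.hSD' 3) * (nGL C.I.hSD' 3)⁻¹ := by group
          rw [e]
          exact mul_mem (Subgroup.mem_sup_right h)
            (inv_mem (Subgroup.mem_sup_left (Subgroup.mem_sup_right hn3)))
        · have e : n = (n * nGL C.I.hSD' 0) * (nGL C.I.hSD' 0)⁻¹ := by group
          rw [e]
          exact mul_mem (Subgroup.mem_sup_right h)
            (inv_mem (Subgroup.mem_sup_left (Subgroup.mem_sup_right hn0)))
        · have e : n = (n * nGL C.I.hSD' 0 * nGL C.I.hSD' 3) *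
              ((nGL C.I.hSD' 3)⁻¹ * (nGL C.I.hSD' 0)⁻¹) := by group
          rw [e]
          exact mul_mem (Subgroup.mem_sup_right h)
            (mul_mem (inv_mem (Subgroup.mem_sup_left (Subgroup.mem_sup_right hn3)))
              (inv_mem (Subgroup.mem_sup_left (Subgroup.mem_sup_right hn0))))
      exact mul_mem (mul_mem (hB hb₁) hnP) (hB hb₂)
    obtain ⟨u, hu, l, hl, h, hh, rfl⟩ := levi_decomp C.I f4_leviNorm hgP
    -- `l` centralises the elements `x_39(a) x_45(d)`
    have hlc : ∀ a d : F, l * zprod C.I.hSD' f4Psi (f4tau a d) * l⁻¹ = zprod C.I.hSD' f4Psi (f4tau a d) := by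
      intro a d
      have h2 := (Subgroup.mem_centralizer_iff.mp (hLcent a d hl)) _ rfl
      rw [← h2, mul_inv_cancel_right]
    -- the torus part
    have hh' := hh
    rw [diagonalSubgroup_eq_torus C.I.hS C.I.hSD', torus_eq_range] at hh'
    obtain ⟨cc, rfl⟩ := hh'
    have e2 := zprod_conj_diag C.I.hSD' (hi_rootAct_torusHom C.I cc) (fun r hr => (f4_psi_lt r hr).2)
      (f4tau (1 : F) 1)
    have eτ : (fun s => torusChar chevF4 F (fun i => (cc i : F)) s * f4tau (1 : F) 1 s) =
        f4tau (torusChar chevF4 F (fun i => (cc i : F)) 39) (torusChar chevF4 F (fun i => (cc i : F)) 45) := by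
      funext s
      unfold f4tau
      split_ifs with h1 h2
      · rw [h1, mul_one]
      · rw [h2, mul_one]
      · rw [mul_zero]
    rw [eτ] at e2
    -- the unipotent part
    obtain ⟨t, hut, hconj⟩ := f4_pos_conj C.I (upL_le_pos _ hu)
    have hmain : zprod C.I.hSD' f4Psi ((List.range' 24 24).foldr (fun q σ => f4act q (t q) σ)
        (f4tau (torusChar chevF4 F (fun i => (cc i : F)) 39) (torusChar chevF4 F (fun i => (cc i : F)) 45))) =
        zprod C.I.hSD' f4Psi (f4tau 1 1) := by
      rw [← hconj, ← hlc, ← e2]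
      calc u * (l * (torusHom chevF4 F cc * zprod C.I.hSD' f4Psi (f4tau 1 1) * (torusHom chevF4 F cc)⁻¹) *
            l⁻¹) * u⁻¹
          = (u * l * torusHom chevF4 F cc * zprod C.I.hSD' f4Psi (f4tau 1 1)) *
              (u * l * torusHom chevF4 F cc)⁻¹ := by group
        _ = zprod C.I.hSD' f4Psi (f4tau 1 1) := by
          rw [hc]
          group
    have e3 := zprod_sub_inj C.I (le_of_lt (f4_lt (by norm_num : 39 < 48))) (f4_pos (by norm_num))
      (f4_seg_comm C.I) f4_psi_nodup f4_psi_lt hmain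
    have q39 := e3 39 (by decide)
    have q45 := e3 45 (by decide)
    have q40 := e3 40 (by decide)
    have q44 := e3 44 (by decide)
    have q46 := e3 46 (by decide)
    have q47 := e3 47 (by decide)
    rw [(f4_fold_fix t _ _).1] at q39
    rw [(f4_fold_fix t _ _).2] at q45
    have v39 : ∀ a d : F, f4tau a d 39 = a := fun a d => by simp [f4tau]
    have v45 : ∀ a d : F, f4tau a d 45 = d := fun a d => by simp [f4tau]
    rw [v39, v39] at q39
    rw [v45, v45] at q45
    rw [q39, q45] at q40 q44 q46 q47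
    have hR : List.range' 24 24 = [24, 25, 26, 27, 28, 29, 30, 31, 32, 33, 34, 35, 36, 37, 38, 39, 40, 41, 42,
        43, 44, 45, 46, 47] := by decide
    rw [hR] at q40 q44 q46 q47
    simp [f4act, f4tau] at q40 q44 q46 q47
    rw [q46, mul_zero, add_zero] at q47
    refine mul_mem (mul_mem ?_ (hLR hl)) ?_
    · -- the unipotent part lies in the subgroup generated by the root subgroups
      apply hQ
      rw [hut]
      unfold zprod
      apply wprod_mem
      intro p hp
      rw [List.mem_map] at hp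
      obtain ⟨q, hq, rfl⟩ := hp
      rw [List.mem_range'_1] at hq
      show xGL C.I.hSD' q (t q) ∈ _
      by_cases hex : q ∈ [27, 25, 34, 26]
      · have h0 : t q = 0 := by
          simp only [List.mem_cons, List.not_mem_nil, or_false] at hex
          rcases hex with rfl | rfl | rfl | rfl <;> assumption
        rw [h0, xGL_zero]
        exact one_mem _
      · exact Subgroup.subset_closure ⟨q, t q, (C.I.hU.pos_iff q).mpr ⟨f4_pos hq.1, f4_lt (by omega)⟩, hex,
          xGL_coe _ _ _⟩
    · -- the torus part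
      have hk1 : 1 < chevF4.rank := by
        rw [f4_rank]
        norm_num
      have hk2 : 2 < chevF4.rank := by
        rw [f4_rank]
        norm_num
      obtain ⟨-, -, c039, c139, c239, c339, c045, c145, c245, c345⟩ := f4_cartan
      have hcart39 : ∀ i, i < chevF4.rank → i ≠ 1 → i ≠ 2 → cartanZ chevF4 i 39 = 0 := by
        intro i hi h1 h2
        rw [f4_rank] at hi
        interval_cases i
        · exact c039
        · exact absurd rfl h1
        · exact absurd rfl h2
        · exact c339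
      have hcart45 : ∀ i, i < chevF4.rank → i ≠ 1 → i ≠ 2 → cartanZ chevF4 i 45 = 0 := by
        intro i hi h1 h2
        rw [f4_rank] at hi
        interval_cases i
        · exact c045
        · exact absurd rfl h1
        · exact absurd rfl h2
        · exact c345
      rw [torusChar_of_two hk1 hk2 (by norm_num) hcart39, c139, c239] at q39
      rw [torusChar_of_two hk1 hk2 (by norm_num) hcart45, c145, c245] at q45
      have hc1 : ((cc ⟨1, hk1⟩ : Fˣ) : F) ≠ 0 := (cc ⟨1, hk1⟩).ne_zero
      rw [zpow_neg, zpow_one, zpow_one] at q39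
      have e12 : ((cc ⟨2, hk2⟩ : Fˣ) : F) = ((cc ⟨1, hk1⟩ : Fˣ) : F) := by
        have h5 := congrArg (fun x => ((cc ⟨1, hk1⟩ : Fˣ) : F) * x) q39
        simp only [mul_inv_cancel_left₀ hc1, mul_one] at h5
        exact h5
      rw [e12, zpow_neg, zpow_one, zpow_two, mul_assoc, mul_inv_cancel₀ hc1, mul_one] at q45
      have u1 : cc ⟨1, hk1⟩ = 1 := Units.ext q45
      have u2 : cc ⟨2, hk2⟩ = 1 := Units.ext (e12.trans q45)
      apply torusHom_mem_of_triv C.I (f4R F) cc
      intro i hci t'
      have hi4 : i.val < 4 := lt_of_lt_of_eq i.isLt f4_rank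
      have hne1 : i.val ≠ 1 := fun h => hci (by
        rw [show i = ⟨1, hk1⟩ from Fin.ext h]
        exact u1)
      have hne2 : i.val ≠ 2 := fun h => hci (by
        rw [show i = ⟨2, hk2⟩ from Fin.ext h]
        exact u2)
      have h03 : i.val = 0 ∨ i.val = 3 := by omega
      rcases h03 with e | e
      · rw [e, s0, n33]
        exact ⟨h33 (xGL_mem_rootSubgroup C.I (f4_lt (by norm_num)) t'),
          h14 (xGL_mem_rootSubgroup C.I (f4_lt (by norm_num)) t')⟩
      · rw [e, s3, n24]
        exact ⟨h24 (xGL_mem_rootSubgroup C.I (f4_lt (by norm_num)) t'),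
          h23 (xGL_mem_rootSubgroup C.I (f4_lt (by norm_num)) t')⟩
  · refine le_inf ?_ ?_
    · exact sup_le (sup_le (sup_le (sup_le (rootSubgroup_le_group' chevF4 F (f4_lt (by norm_num)))
        (rootSubgroup_le_group' chevF4 F (f4_lt (by norm_num))))
        (rootSubgroup_le_group' chevF4 F (f4_lt (by norm_num))))
        (rootSubgroup_le_group' chevF4 F (f4_lt (by norm_num))))
        ((upL_le_pos _).trans (posUnipotent_le_group chevF4 F))
    · have hroot : ∀ q ∈ ([33, 14, 24, 23] : List ℕ), chevF4.rootSubgroup F q ≤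
          Subgroup.centralizer {xGL C.I.hSD' 39 (1 : F) * xGL C.I.hSD' 45 1} := by
        intro q hq y hy
        have hqlt : q < chevF4.nroots := by
          apply f4_lt
          simp only [List.mem_cons, List.not_mem_nil, or_false] at hq
          omega
        rw [mem_rootSubgroup_iff C.I hqlt] at hy
        obtain ⟨t', rfl⟩ := hy
        rw [Subgroup.mem_centralizer_iff]
        intro z hz
        rw [Set.mem_singleton_iff] at hz
        subst hz
        exact (hLc q hq t' 1 1).symm
      refine sup_le (sup_le (sup_le (sup_le (hroot 33 (by decide)) (hroot 14 (by decide)))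
        (hroot 24 (by decide))) (hroot 23 (by decide))) ?_
      rw [Subgroup.closure_le]
      rintro y ⟨r, c, hr, hrex, hy⟩
      have ey : y = xGL C.I.hSD' r c := eq_xGL C.I.hSD' hy
      have hr' := (C.I.hU.pos_iff r).mp hr
      rw [f4_nroots] at hr'
      have h1 := List.all_eq_true.mp f4_gen_comm r (List.mem_range'_1.mpr ⟨hr'.1, by omega⟩)
      rw [Bool.or_eq_true, List.contains_iff_mem] at h1
      have hk := comm_of_listOK (F := F) C.I (h1.resolve_left hrex)
      show y ∈ Subgroup.centralizer _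
      rw [Subgroup.mem_centralizer_iff]
      intro z hz
      rw [Set.mem_singleton_iff] at hz
      subst hz
      rw [ey, mul_assoc, ← hk 45 (by decide) c 1, ← mul_assoc, ← hk 39 (by decide) c 1, mul_assoc]

end F4

end Cfsg.Agent.Lib.helper22
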