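/-
helper22: centralisers of the root elements of a dominant root (highest root, highest short root) in a Chevalley
group in characteristic two, and the subgroups generated by two conjugates of the highest root subgroup.
-/
import Cfsg.Agent.Lib.helper22.TwWeyl
import Cfsg.Agent.Lib.helper22.ChevChunk

set_option autoImplicit false

namespace Cfsg.Agent.Lib.helper22

open Cfsg.Lie

/-! ### General group lemmas -/

/-- If `H` normalises `A` (one inclusion for every element), the join `A ⊔ H` is the set of products. -/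
theorem hi_sup_decomp {G : Type*} [Group G] (A H : Subgroup G)
    (hN : ∀ h ∈ H, ∀ a ∈ A, h * a * h⁻¹ ∈ A) {g : G} (hg : g ∈ A ⊔ H) :
    ∃ a ∈ A, ∃ h ∈ H, g = a * h := by
  have hNU : H ≤ Subgroup.normalizer (A : Set G) := by
    intro h hh
    rw [Subgroup.mem_normalizer_iff]
    intro a
    constructor
    · exact hN h hh a
    · intro ha
      have := hN h⁻¹ (inv_mem hh) _ ha
      have e : h⁻¹ * (h * a * h⁻¹) * h⁻¹⁻¹ = a := by group
      rwa [e] at this
  have h1 : g ∈ ((A ⊔ H : Subgroup G) : Set G) := hg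
  rw [Subgroup.coe_mul_of_right_le_normalizer_left _ _ hNU] at h1
  obtain ⟨a, ha, h, hh, rfl⟩ := h1
  exact ⟨a, ha, h, hh, rfl⟩

/-- The image of a subgroup under a conjugation, elementwise. -/
theorem hi_mem_map_conj {G : Type*} [Group G] (K : Subgroup G) (n y : G) :
    y ∈ K.map (MulAut.conj n).toMonoidHom ↔ n⁻¹ * y * n ∈ K := by
  constructor
  · rintro ⟨z, hz, rfl⟩
    have e : n⁻¹ * ((MulAut.conj n).toMonoidHom z) * n = z := by
      show n⁻¹ * (n * z * n⁻¹) * n = z
      group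
    rwa [e]
  · intro h
    refine ⟨n⁻¹ * y * n, h, ?_⟩
    show n * (n⁻¹ * y * n) * n⁻¹ = y
    group

theorem hi_map_conj_map_conj {G : Type*} [Group G] (K : Subgroup G) (a b : G) :
    (K.map (MulAut.conj a).toMonoidHom).map (MulAut.conj b).toMonoidHom =
      K.map (MulAut.conj (b * a)).toMonoidHom := by
  ext y
  rw [hi_mem_map_conj, hi_mem_map_conj, hi_mem_map_conj]
  have e : a⁻¹ * (b⁻¹ * y * b) * a = (b * a)⁻¹ * y * (b * a) := by group
  rw [e]

theorem hi_map_conj_one {G : Type*} [Group G] (K : Subgroup G) :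
    K.map (MulAut.conj (1 : G)).toMonoidHom = K := by
  ext y
  rw [hi_mem_map_conj]
  simp

/-! ### Commuting root elements in characteristic two -/

/-- All the constants of the commutator formula for the pair `(r, s)` are even. -/
def commEven (D : ChevalleyDatum) (r s : ℕ) : Bool :=
  (D.commTerms r s).all fun c => c.2.1 % 2 == 0

section High

variable {D : ChevalleyDatum} {F : Type*} [Field F] {η : ℕ → ℕ → ℤ}

theorem x_comm_of_even [CharP F 2] (I : BNInput D F η) {r s : ℕ} (hr : r < D.nroots) (hs : s < D.nroots)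
    (hne : s ≠ D.neg r) (h : commEven D r s = true) (t u : F) :
    D.x F s u * D.x F r t = D.x F r t * D.x F s u := by
  by_cases hsr : s = r
  · subst hsr
    rw [x_add' I.hSD', x_add' I.hSD', add_comm]
  · rw [I.hcomm r s hr hs hsr hne t u, wordMat_eq_one I.hSD', mul_one]
    intro p hp
    unfold ChevalleyDatum.commWord at hp
    rw [List.mem_map] at hp
    obtain ⟨c, hc, rfl⟩ := hp
    unfold commEven at h
    rw [List.all_eq_true] at h
    have h2 := h c hc
    rw [beq_iff_eq] at h2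
    have h3 : ((c.2.1 : ℤ) : F) = 0 := by
      have h4 : (2 : ℤ) ∣ c.2.1 := Int.dvd_of_emod_eq_zero h2
      obtain ⟨m, hm⟩ := h4
      rw [hm, Int.cast_mul]
      have : ((2 : ℤ) : F) = 0 := by
        have := CharP.cast_eq_zero F 2
        exact_mod_cast this
      rw [this, zero_mul]
    show (c.2.1 : F) * (-t) ^ c.2.2.1 * u ^ c.2.2.2 = 0
    rw [h3, zero_mul, zero_mul]

/-! ### The normaliser of a root subgroup -/

/-- The elements normalising the root subgroup `X_r` (elementwise form). -/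
def stabX (hSD : ∀ r : Fin D.nroots, Nonempty (StringData D r)) (r : ℕ) : Subgroup (GL D.Idx F) where
  carrier := {g | (∀ a : F, ∃ a' : F, g * xGL hSD r a * g⁻¹ = xGL hSD r a') ∧
    (∀ a : F, ∃ a' : F, g⁻¹ * xGL hSD r a * g = xGL hSD r a')}
  one_mem' := ⟨fun a => ⟨a, by group⟩, fun a => ⟨a, by group⟩⟩
  mul_mem' := by
    rintro g h ⟨hg1, hg2⟩ ⟨hh1, hh2⟩
    refine ⟨fun a => ?_, fun a => ?_⟩
    · obtain ⟨a1, e1⟩ := hh1 a
      obtain ⟨a2, e2⟩ := hg1 a1
      refine ⟨a2, ?_⟩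
      rw [← e2, ← e1]
      group
    · obtain ⟨a1, e1⟩ := hg2 a
      obtain ⟨a2, e2⟩ := hh2 a1
      refine ⟨a2, ?_⟩
      rw [← e2, ← e1]
      group
  inv_mem' := by
    rintro g ⟨hg1, hg2⟩
    refine ⟨hg2, fun a => ?_⟩
    rw [inv_inv]
    exact hg1 a

theorem mem_stabX (hSD : ∀ r : Fin D.nroots, Nonempty (StringData D r)) (r : ℕ) (g : GL D.Idx F) :
    g ∈ stabX hSD r ↔ (∀ a : F, ∃ a' : F, g * xGL hSD r a * g⁻¹ = xGL hSD r a') ∧
      (∀ a : F, ∃ a' : F, g⁻¹ * xGL hSD r a * g = xGL hSD r a') := Iff.rfl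

/-- An element acting on the root elements and fixing the root `r` normalises `X_r`. -/
theorem stabX_of_rootAct (hSD : ∀ r : Fin D.nroots, Nonempty (StringData D r)) {n : GL D.Idx F}
    {π π' : ℕ → ℕ} {c c' : ℕ → F} (h : RootAct D F (n : Matrix D.Idx D.Idx F) π c)
    (h' : RootAct D F ((n⁻¹ : GL D.Idx F) : Matrix D.Idx D.Idx F) π' c') {r : ℕ} (hr : r < D.nroots)
    (e : π r = r) (e' : π' r = r) : n ∈ stabX hSD r := by
  rw [mem_stabX]
  refine ⟨fun a => ⟨c r * a, Units.ext ?_⟩, fun a => ⟨c' r * a, Units.ext ?_⟩⟩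
  · rw [rootAct_conj h hr (xGL_coe hSD r a), e, xGL_coe]
  · have h1 := rootAct_conj h' hr (xGL_coe hSD r a)
    rw [inv_inv, e'] at h1
    rw [h1, xGL_coe]

/-- The hypothesis that `U` centralises `X_r`. -/
def CentU (D : ChevalleyDatum) (F : Type*) [Field F] (r : ℕ) : Prop :=
  ∀ s, D.nroots / 2 ≤ s → s < D.nroots → ∀ a c : F, D.x F s c * D.x F r a = D.x F r a * D.x F s c

theorem pos_le_centralizer (I : BNInput D F η) {r : ℕ} (hcU : CentU D F r) (a : F) :
    D.posUnipotent F ≤ Subgroup.centralizer {xGL I.hSD' r a} := by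
  unfold ChevalleyDatum.posUnipotent
  rw [Subgroup.closure_le]
  rintro g ⟨s, t, hs, hg⟩
  have hs' := (I.hU.pos_iff s).mp hs
  show g ∈ Subgroup.centralizer {xGL I.hSD' r a}
  rw [Subgroup.mem_centralizer_iff]
  intro y hy
  rw [Set.mem_singleton_iff] at hy
  subst hy
  apply Units.ext
  rw [Units.val_mul, Units.val_mul, hg, xGL_coe]
  exact (hcU s hs'.1 hs'.2 a t).symm

theorem pos_le_stabX (I : BNInput D F η) {r : ℕ} (hcU : CentU D F r) :
    D.posUnipotent F ≤ stabX I.hSD' r := by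
  intro g hg
  rw [mem_stabX]
  have key : ∀ a : F, xGL I.hSD' r a * g = g * xGL I.hSD' r a := fun a =>
    (Subgroup.mem_centralizer_iff.mp (pos_le_centralizer I hcU a hg)) _ rfl
  refine ⟨fun a => ⟨a, ?_⟩, fun a => ⟨a, ?_⟩⟩
  · rw [← key a, mul_inv_cancel_right]
  · rw [mul_assoc, key a, inv_mul_cancel_left]

theorem diag_le_stabX (I : BNInput D F η) {r : ℕ} (hr : r < D.nroots) :
    D.diagonalSubgroup F ≤ stabX I.hSD' r := by
  intro h hh
  obtain ⟨c, hc⟩ := rootAct_diag I hh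
  obtain ⟨c', hc'⟩ := rootAct_diag I (inv_mem hh)
  exact stabX_of_rootAct I.hSD' hc hc' hr rfl rfl

theorem borel_le_stabX (I : BNInput D F η) {r : ℕ} (hr : r < D.nroots) (hcU : CentU D F r) :
    D.borelSubgroup F ≤ stabX I.hSD' r := by
  unfold ChevalleyDatum.borelSubgroup
  exact sup_le (pos_le_stabX I hcU) (diag_le_stabX I hr)

theorem xGL_one_ne_one (I : BNInput D F η) {r : ℕ} (hr : r < D.nroots) : xGL I.hSD' r (1 : F) ≠ 1 := by
  intro h
  rw [← xGL_zero I.hSD' r] at h
  exact one_ne_zero (xGL_inj I hr h)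

/-- The Bruhat decomposition relative to the root subgroup `X_r`: `g X_r g⁻¹ = b X_s b⁻¹` with `b ∈ B`. -/
theorem bruhat_root (I : BNInput D F η)
    (hG : D.group F ≤ D.borelSubgroup F ⊔ D.monomialSubgroup F) {g : GL D.Idx F} (hg : g ∈ D.group F) :
    ∃ b₁ ∈ D.borelSubgroup F, ∃ n ∈ D.monomialSubgroup F, ∃ b₂ ∈ D.borelSubgroup F, g = b₁ * n * b₂ ∧
      ∃ (π π' : ℕ → ℕ) (c c' : ℕ → F), RootAct D F (n : Matrix D.Idx D.Idx F) π c ∧
        RootAct D F ((n⁻¹ : GL D.Idx F) : Matrix D.Idx D.Idx F) π' c' := by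
  obtain ⟨b₁, hb₁, n, hn, b₂, hb₂, e⟩ := bruhat I hG hg
  obtain ⟨π, c, hπ⟩ := rootAct_of_mem_monomial I hn
  obtain ⟨π', c', hπ'⟩ := rootAct_of_mem_monomial I (inv_mem hn)
  exact ⟨b₁, hb₁, n, hn, b₂, hb₂, e, π, π', c, c', hπ, hπ'⟩

/-- An element of the Chevalley group centralising `x_r(1)` normalises `X_r`. -/
theorem cent_le_stabX (I : BNInput D F η)
    (hG : D.group F ≤ D.borelSubgroup F ⊔ D.monomialSubgroup F) {r : ℕ} (hr : r < D.nroots)
    (hcU : CentU D F r) {g : GL D.Idx F} (hg : g ∈ D.group F)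
    (hc : g * xGL I.hSD' r 1 = xGL I.hSD' r 1 * g) : g ∈ stabX I.hSD' r := by
  obtain ⟨b₁, hb₁, n, hn, b₂, hb₂, rfl, π, π', c, c', hπ, hπ'⟩ := bruhat_root I hG hg
  have hB := borel_le_stabX I hr hcU
  obtain ⟨a₂, e₂⟩ := ((mem_stabX _ _ _).mp (hB hb₂)).1 1
  obtain ⟨a₁, e₁⟩ := ((mem_stabX _ _ _).mp (hB hb₁)).2 1
  have key : n * xGL I.hSD' r a₂ * n⁻¹ = xGL I.hSD' r a₁ := by
    rw [← e₂, ← e₁]
    calc n * (b₂ * xGL I.hSD' r 1 * b₂⁻¹) * n⁻¹
        = b₁⁻¹ * (b₁ * n * b₂ * xGL I.hSD' r 1) * b₂⁻¹ * n⁻¹ := by group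
      _ = b₁⁻¹ * (xGL I.hSD' r 1 * (b₁ * n * b₂)) * b₂⁻¹ * n⁻¹ := by rw [hc]
      _ = b₁⁻¹ * xGL I.hSD' r 1 * b₁ := by group
  have ha₂ : a₂ ≠ 0 := by
    intro h0
    rw [h0, xGL_zero] at e₂
    apply xGL_one_ne_one I hr
    calc xGL I.hSD' r (1 : F) = b₂⁻¹ * (b₂ * xGL I.hSD' r 1 * b₂⁻¹) * b₂ := by group
      _ = 1 := by rw [e₂]; group
  have e3 : n * xGL I.hSD' r a₂ * n⁻¹ = xGL I.hSD' (π r) (c r * a₂) :=
    Units.ext (rootAct_conj hπ hr (xGL_coe I.hSD' r a₂))
  have hπr : π r = r :=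
    xGL_label_inj I (hπ r hr).1 hr (mul_ne_zero (rootAct_ne_zero' I hπ hr) ha₂) (e3.symm.trans key)
  have hπ'r : π' r = r := by
    have := rootAct_inv_comp I hπ hπ' hr
    rwa [hπr] at this
  have hnS : n ∈ stabX I.hSD' r := stabX_of_rootAct I.hSD' hπ hπ' hr hπr hπ'r
  exact mul_mem (mul_mem (hB hb₁) hnS) (hB hb₂)

/-- The normaliser of `X_r` in the Chevalley group is a standard parabolic subgroup: it is generated by `B` and the
`n_{p_i}` with `w_{p_i} r = r`. -/
theorem stabX_inf_group_le (I : BNInput D F η) (hBG : D.borelSubgroup F ≤ D.group F)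
    (hNG : D.monomialSubgroup F ≤ D.group F) (hG : D.group F ≤ D.borelSubgroup F ⊔ D.monomialSubgroup F)
    {r : ℕ} (hr : r < D.nroots) (hcU : CentU D F r) {g : GL D.Idx F} (hgG : g ∈ D.group F)
    (hgS : g ∈ stabX I.hSD' r) :
    g ∈ D.borelSubgroup F ⊔ Subgroup.closure {y : GL D.Idx F | ∃ i, i < D.rank ∧ D.reflectRoot i r = r ∧
      y = nGL I.hSD' i} := by
  obtain ⟨P, hPB, hPN, hPS⟩ := chev_bnPair I hBG hNG hG
  have hM : P.B ≤ (stabX I.hSD' r).subgroupOf (D.group F) := by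
    rw [hPB]
    intro x hx
    rw [Subgroup.mem_subgroupOf] at hx ⊢
    exact borel_le_stabX I hr hcU hx
  have hpar := Cfsg.Agent.Lib.helper8.eq_parabolic_of_le P hM
  have h1 : (⟨g, hgG⟩ : ↥(D.group F)) ∈ (stabX I.hSD' r).subgroupOf (D.group F) :=
    Subgroup.mem_subgroupOf.mpr hgS
  rw [hpar] at h1
  have h2 : P.B ⊔ Subgroup.closure (P.S ∩ ((stabX I.hSD' r).subgroupOf (D.group F) : Set ↥(D.group F))) ≤
      (D.borelSubgroup F ⊔ Subgroup.closure {y : GL D.Idx F | ∃ i, i < D.rank ∧ D.reflectRoot i r = r ∧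
        y = nGL I.hSD' i}).subgroupOf (D.group F) := by
    refine sup_le ?_ ?_
    · rw [hPB]
      intro x hx
      rw [Subgroup.mem_subgroupOf] at hx ⊢
      exact Subgroup.mem_sup_left hx
    · rw [Subgroup.closure_le]
      rintro s ⟨hs1, hs2⟩
      rw [hPS] at hs1
      obtain ⟨i, hi, hsi⟩ := hs1
      have e : (s : GL D.Idx F) = nGL I.hSD' i := Units.ext (hsi.trans (nGL_coe I.hSD' i).symm)
      have hs3 : (nGL I.hSD' i : GL D.Idx F) ∈ stabX I.hSD' r := by
        rw [← e]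
        exact Subgroup.mem_subgroupOf.mp hs2
      obtain ⟨a', ea⟩ := ((mem_stabX _ _ _).mp hs3).1 1
      have e3 : nGL I.hSD' i * xGL I.hSD' r 1 * (nGL I.hSD' i)⁻¹ =
          xGL I.hSD' (D.reflectRoot i r) ((η i r : F) * 1) :=
        Units.ext (rootAct_conj (rootAct_nGL I hi) hr (xGL_coe I.hSD' r 1))
      have hfix : D.reflectRoot i r = r :=
        xGL_label_inj I (reflect_lt I hi hr) hr
          (mul_ne_zero (rootAct_ne_zero' I (rootAct_nGL I hi) hr) one_ne_zero) (e3.symm.trans ea)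
      show s ∈ Subgroup.subgroupOf _ _
      rw [Subgroup.mem_subgroupOf, e]
      exact Subgroup.mem_sup_right (Subgroup.subset_closure ⟨i, hi, hfix, rfl⟩)
  exact Subgroup.mem_subgroupOf.mp (h2 h1)

/-! ### The centraliser of `x_r(1)` -/

/-- The table facts on the dominant root `r`, with `p_k` the only fundamental root not orthogonal to it. -/
structure HighData (D : ChevalleyDatum) (F : Type*) [Field F] (r k : ℕ) : Prop where
  hr : r < D.nroots
  hk : k < D.rank
  commU : CentU D F r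
  commL : ∀ i, i < D.rank → i ≠ k → ∀ a c : F,
    D.x F (D.neg (D.simple i)) c * D.x F r a = D.x F r a * D.x F (D.neg (D.simple i)) c
  refl : D.reflectRoot k r ≠ r
  cartan : ∀ i, i < D.rank → cartanZ D i r = if i = k then 1 else 0

/-- The subgroup generated by `U` and the root subgroups `X_s`, `s ∈ L`. -/
def lowSub (D : ChevalleyDatum) (F : Type*) [Field F] (L : List ℕ) : Subgroup (GL D.Idx F) :=
  D.posUnipotent F ⊔
    Subgroup.closure {g : GL D.Idx F | ∃ s ∈ L, ∃ c : F, (g : Matrix D.Idx D.Idx F) = D.x F s c}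

theorem lowSub_def (L : List ℕ) : lowSub D F L = D.posUnipotent F ⊔
    Subgroup.closure {g : GL D.Idx F | ∃ s ∈ L, ∃ c : F, (g : Matrix D.Idx D.Idx F) = D.x F s c} := rfl

theorem xGL_pos_mem_lowSub (I : BNInput D F η) (L : List ℕ) {s : ℕ} (hs : s < D.nroots)
    (hpos : D.nroots / 2 ≤ s) (t : F) : xGL I.hSD' s t ∈ lowSub D F L :=
  Subgroup.mem_sup_left (x_mem_pos I hs hpos (xGL_coe I.hSD' s t))

theorem xGL_low_mem_lowSub (hSD : ∀ r : Fin D.nroots, Nonempty (StringData D r)) {L : List ℕ} {s : ℕ}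
    (hs : s ∈ L) (t : F) : xGL hSD s t ∈ lowSub D F L :=
  Subgroup.mem_sup_right (Subgroup.subset_closure ⟨s, hs, t, xGL_coe hSD s t⟩)

theorem lowSub_le_group {L : List ℕ} (hL : ∀ s ∈ L, s < D.nroots) :
    lowSub D F L ≤ D.group F := by
  refine sup_le (posUnipotent_le_group D F) ?_
  rw [Subgroup.closure_le]
  rintro g ⟨s, hs, c, hg⟩
  unfold ChevalleyDatum.group
  exact Subgroup.subset_closure ⟨⟨s, hL s hs⟩, c, by rw [hg, x_eq D F ⟨s, hL s hs⟩]⟩

theorem lowSub_le_centralizer (I : BNInput D F η) {r : ℕ} (hcU : CentU D F r) {L : List ℕ}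
    (hcL : ∀ s ∈ L, ∀ a c : F, D.x F s c * D.x F r a = D.x F r a * D.x F s c) (a : F) :
    lowSub D F L ≤ Subgroup.centralizer {xGL I.hSD' r a} := by
  refine sup_le (pos_le_centralizer I hcU a) ?_
  rw [Subgroup.closure_le]
  rintro g ⟨s, hs, c, hg⟩
  show g ∈ Subgroup.centralizer {xGL I.hSD' r a}
  rw [Subgroup.mem_centralizer_iff]
  intro y hy
  rw [Set.mem_singleton_iff] at hy
  subst hy
  apply Units.ext
  rw [Units.val_mul, Units.val_mul, hg, xGL_coe]
  exact (hcL s hs a c).symm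

/-- `H` normalises `⟨U, X_s (s ∈ L)⟩`. -/
theorem diag_conj_lowSub (I : BNInput D F η) {L : List ℕ} (hL : ∀ s ∈ L, s < D.nroots) {h : GL D.Idx F}
    (hh : h ∈ D.diagonalSubgroup F) {a : GL D.Idx F} (ha : a ∈ lowSub D F L) :
    h * a * h⁻¹ ∈ lowSub D F L := by
  have h1 : (lowSub D F L).map (MulAut.conj h).toMonoidHom ≤ lowSub D F L := by
    rw [lowSub_def, Subgroup.map_sup]
    refine sup_le ?_ ?_
    · refine le_trans ?_ le_sup_left
      rw [map_conj_le_iff]
      exact fun z hz => diag_conj_mem_pos I hh hz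
    · refine le_trans ?_ le_sup_right
      rw [map_conj_le_iff]
      apply conj_mem_closure
      rintro x ⟨s, hs, c, hx⟩
      obtain ⟨χ, hχ⟩ := rootAct_diag I hh
      exact Subgroup.subset_closure ⟨s, hs, χ s * c, rootAct_conj hχ (hL s hs) hx⟩
  exact (map_conj_le_iff _ _ h).mp h1 a ha

theorem hi_rootAct_torusHom (I : BNInput D F η) (c : Fin D.rank → Fˣ) :
    RootAct D F ((torusHom D F c : GL D.Idx F) : Matrix D.Idx D.Idx F) (fun s => s)
      (fun s => torusChar D F (fun i => (c i : F)) s) := by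
  intro s hs
  refine ⟨hs, rfl, fun t => ?_⟩
  obtain ⟨S, hS⟩ := I.hSD ⟨s, hs⟩
  rw [torusHom_coe, x_eq D F ⟨s, hs⟩ t, x_eq D F ⟨s, hs⟩]
  exact torusMat_mul_xMat S hS _ (fun i => (c i).ne_zero) t

/-- `h_{p_i}(t)` is the torus element with the parameter `t` at `i`. -/
theorem hi_sl2h_eq_torusHom (I : BNInput D F η) (i : Fin D.rank) {hp : D.simple i.val < D.nroots}
    (S : StringData D ⟨D.simple i.val, hp⟩) (t : Fˣ) :
    sl2Hom S (sl2h (t : F) t.ne_zero) = torusHom D F (Pi.mulSingle i t) := by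
  apply Units.ext
  rw [sl2Hom_sl2h, torusHom_coe]
  have h1 := hMat_eq_torusMat S (t : F) t.ne_zero
  rw [show D.hMat F (D.simple i.val) (t : F) = _ from h1]
  congr 1
  funext j
  rw [(I.hS i).2 j]
  by_cases h : i = j
  · subst h
    simp
  · rw [if_neg h, zpow_zero, Pi.mulSingle_eq_of_ne (Ne.symm h)]
    rfl

/-- The torus elements with trivial parameter at `k` lie in every subgroup containing the root subgroups of the
fundamental roots other than `p_k` and of their negatives. -/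
theorem torusHom_mem_of_rk (I : BNInput D F η) {k : ℕ} (hk : k < D.rank) (C₀ : Subgroup (GL D.Idx F))
    (hx : ∀ i, i < D.rank → i ≠ k → ∀ t : F,
      xGL I.hSD' (D.simple i) t ∈ C₀ ∧ xGL I.hSD' (D.neg (D.simple i)) t ∈ C₀)
    (c : Fin D.rank → Fˣ) (hc : c ⟨k, hk⟩ = 1) : torusHom D F c ∈ C₀ := by
  have : c ∈ C₀.comap (torusHom D F) := by
    apply Subgroup.pi_mem_of_mulSingle_mem c
    intro i
    rw [Subgroup.mem_comap]
    by_cases hik : i.val = k
    · have e : i = ⟨k, hk⟩ := Fin.ext hik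
      rw [e, hc, Pi.mulSingle_one, map_one]
      exact one_mem _
    · obtain ⟨S⟩ := I.hSD' ⟨D.simple i.val, (I.hS i).1⟩
      rw [← hi_sl2h_eq_torusHom I i S (c i)]
      have hu : ∀ t : F, sl2Hom S (sl2u t) ∈ C₀ := fun t => by
        rw [sl2Hom_sl2u_eq I.hSD' S]
        exact (hx i.val i.isLt hik t).1
      have hl : ∀ t : F, sl2Hom S (sl2l t) ∈ C₀ := fun t => by
        rw [sl2Hom_sl2l_eq I.hSD' S]
        exact (hx i.val i.isLt hik t).2
      have hn : ∀ (t : F) (ht : t ≠ 0), sl2Hom S (sl2n t ht) ∈ C₀ := fun t ht => by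
        rw [sl2n_eq_uLu, map_mul, map_mul]
        exact mul_mem (mul_mem (hu _) (hl _)) (hu _)
      rw [sl2h_eq_nn, map_mul]
      exact mul_mem (hn _ _) (hn _ _)
  exact this

theorem torusChar_of_cartan {r k : ℕ} (hk : k < D.rank)
    (hcart : ∀ i, i < D.rank → cartanZ D i r = if i = k then 1 else 0) (c : Fin D.rank → F) :
    torusChar D F c r = c ⟨k, hk⟩ := by
  unfold torusChar
  rw [Finset.prod_eq_single (⟨k, hk⟩ : Fin D.rank)]
  · rw [hcart k hk, if_pos rfl, zpow_one]
  · intro b _ hb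
    have hbk : b.val ≠ k := fun h => hb (Fin.ext h)
    rw [hcart b.val b.isLt, if_neg hbk, zpow_zero]
  · intro h
    exact absurd (Finset.mem_univ _) h

/-- The centraliser of `x_r(1)` in the Chevalley group, for a dominant root `r`: it is generated by `U` and the root
subgroups of the negatives of the fundamental roots orthogonal to `r`. -/
theorem centralizer_high (I : BNInput D F η) (hBG : D.borelSubgroup F ≤ D.group F)
    (hNG : D.monomialSubgroup F ≤ D.group F) (hG : D.group F ≤ D.borelSubgroup F ⊔ D.monomialSubgroup F)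
    {r k : ℕ} (Hd : HighData D F r k) (L : List ℕ)
    (hL : ∀ s, s ∈ L ↔ ∃ i, i < D.rank ∧ i ≠ k ∧ s = D.neg (D.simple i)) :
    D.group F ⊓ Subgroup.centralizer {xGL I.hSD' r 1} = lowSub D F L := by
  have hr := Hd.hr
  have hLlt : ∀ s ∈ L, s < D.nroots := by
    intro s hs
    obtain ⟨i, hi, _, rfl⟩ := (hL s).mp hs
    exact I.neg_lt (I.hS ⟨i, hi⟩).1
  have hcL : ∀ s ∈ L, ∀ a c : F, D.x F s c * D.x F r a = D.x F r a * D.x F s c := by
    intro s hs
    obtain ⟨i, hi, hik, rfl⟩ := (hL s).mp hs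
    exact Hd.commL i hi hik
  have hcent := lowSub_le_centralizer I Hd.commU hcL (1 : F)
  apply le_antisymm
  · rintro g ⟨hgG, hgC⟩
    have hgG' : g ∈ D.group F := hgG
    have hc : g * xGL I.hSD' r 1 = xGL I.hSD' r 1 * g :=
      ((Subgroup.mem_centralizer_iff.mp hgC) _ rfl).symm
    have h1 := stabX_inf_group_le I hBG hNG hG hr Hd.commU hgG' (cent_le_stabX I hG hr Hd.commU hgG' hc)
    -- `g ∈ lowSub ⊔ H`
    have h2 : D.borelSubgroup F ⊔ Subgroup.closure {y : GL D.Idx F | ∃ i, i < D.rank ∧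
        D.reflectRoot i r = r ∧ y = nGL I.hSD' i} ≤ lowSub D F L ⊔ D.diagonalSubgroup F := by
      refine sup_le ?_ ?_
      · unfold ChevalleyDatum.borelSubgroup
        exact sup_le (le_trans le_sup_left le_sup_left) le_sup_right
      · refine le_trans ?_ le_sup_left
        rw [Subgroup.closure_le]
        rintro y ⟨i, hi, hfix, rfl⟩
        have hik : i ≠ k := fun h => Hd.refl (h ▸ hfix)
        have hp := (I.hS ⟨i, hi⟩).1
        have hx1 : xGL I.hSD' (D.simple i) (1 : F) ∈ lowSub D F L :=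
          xGL_pos_mem_lowSub I L hp (simple_pos I hi) 1
        have hx2 : xGL I.hSD' (D.neg (D.simple i)) (-1 : F) ∈ lowSub D F L :=
          xGL_low_mem_lowSub I.hSD' ((hL _).mpr ⟨i, hi, hik, rfl⟩) (-1)
        exact mul_mem (mul_mem hx1 hx2) hx1
    obtain ⟨a, ha, h, hh, rfl⟩ := hi_sup_decomp (lowSub D F L) (D.diagonalSubgroup F)
      (fun h hh a ha => diag_conj_lowSub I hLlt hh ha) (h2 h1)
    refine mul_mem ha ?_
    -- `h` centralises `x_r(1)`
    have hac : xGL I.hSD' r 1 * a = a * xGL I.hSD' r 1 := (Subgroup.mem_centralizer_iff.mp (hcent ha)) _ rfl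
    have hhc : h * xGL I.hSD' r 1 * h⁻¹ = xGL I.hSD' r 1 := by
      calc h * xGL I.hSD' r 1 * h⁻¹ = a⁻¹ * (a * h * xGL I.hSD' r 1) * h⁻¹ := by group
        _ = a⁻¹ * (xGL I.hSD' r 1 * (a * h)) * h⁻¹ := by rw [hc]
        _ = a⁻¹ * (xGL I.hSD' r 1 * a) := by group
        _ = xGL I.hSD' r 1 := by rw [hac]; group
    have hh' := hh
    rw [diagonalSubgroup_eq_torus I.hS I.hSD', torus_eq_range] at hh'
    obtain ⟨c, rfl⟩ := hh'
    have e2 : torusHom D F c * xGL I.hSD' r 1 * (torusHom D F c)⁻¹ =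
        xGL I.hSD' r (torusChar D F (fun i => (c i : F)) r * 1) :=
      Units.ext (rootAct_conj (hi_rootAct_torusHom I c) hr (xGL_coe I.hSD' r 1))
    have e3 := xGL_inj I hr (e2.symm.trans hhc)
    rw [mul_one, torusChar_of_cartan Hd.hk Hd.cartan] at e3
    have hck : c ⟨k, Hd.hk⟩ = 1 := Units.ext e3
    apply torusHom_mem_of_rk I Hd.hk (lowSub D F L) _ c hck
    intro i hi hik t
    exact ⟨xGL_pos_mem_lowSub I L (I.hS ⟨i, hi⟩).1 (simple_pos I hi) t,
      xGL_low_mem_lowSub I.hSD' ((hL _).mpr ⟨i, hi, hik, rfl⟩) t⟩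
  · exact le_inf (lowSub_le_group hLlt) hcent

/-! ### The table checks in characteristic two -/

/-- Boolean check: `r` is a positive root and the commutator constants of `r` with all positive roots are even. -/
def centUOK (D : ChevalleyDatum) (r : ℕ) : Bool :=
  decide (D.nroots / 2 ≤ r) && (decide (r < D.nroots) &&
    (List.range' (D.nroots / 2) (D.nroots / 2)).all (fun s => commEven D r s))

theorem centU_of_ok [CharP F 2] (I : BNInput D F η) {r : ℕ} (h : centUOK D r = true) :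
    D.nroots / 2 ≤ r ∧ r < D.nroots ∧ CentU D F r := by
  unfold centUOK at h
  rw [Bool.and_eq_true, Bool.and_eq_true, decide_eq_true_eq, decide_eq_true_eq, List.all_eq_true] at h
  obtain ⟨h1, h2, h3⟩ := h
  refine ⟨h1, h2, ?_⟩
  intro s hs1 hs2 a c
  have hmem : s ∈ List.range' (D.nroots / 2) (D.nroots / 2) := by
    rw [List.mem_range'_1]
    have := I.hU.even
    omega
  have hne : s ≠ D.neg r := by
    have := I.hU.negrev r h2
    have := I.hU.even
    omega
  exact x_comm_of_even I h2 hs2 hne (h3 s hmem) a c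

/-- Boolean check of the table facts for the centraliser of `x_r(1)`. -/
def highOK (D : ChevalleyDatum) (r k : ℕ) : Bool :=
  centUOK D r && (decide (k < D.rank) &&
    ((List.range D.rank).all (fun i => i == k || (commEven D r (D.neg (D.simple i)) && D.simple i != r)) &&
      (decide (D.reflectRoot k r ≠ r) &&
        (List.range D.rank).all (fun i => cartanZ D i r == if i = k then 1 else 0))))

theorem highData_of_ok [CharP F 2] (I : BNInput D F η) {r k : ℕ} (h : highOK D r k = true) :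
    HighData D F r k := by
  unfold highOK at h
  rw [Bool.and_eq_true, Bool.and_eq_true, Bool.and_eq_true, Bool.and_eq_true, decide_eq_true_eq,
    decide_eq_true_eq, List.all_eq_true, List.all_eq_true] at h
  obtain ⟨h1, h2, h3, h4, h5⟩ := h
  obtain ⟨hr1, hr2, hcU⟩ := centU_of_ok (F := F) I h1
  refine ⟨hr2, h2, hcU, ?_, h4, ?_⟩
  · intro i hi hik a c
    have h6 := h3 i (List.mem_range.mpr hi)
    rw [Bool.or_eq_true, beq_iff_eq, Bool.and_eq_true, bne_iff_ne] at h6
    rcases h6 with h6 | ⟨h6, h7⟩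
    · exact absurd h6 hik
    · have hp := (I.hS ⟨i, hi⟩).1
      have hne : D.neg (D.simple i) ≠ D.neg r := by
        have e1 := I.hU.negrev r hr2
        have e2 := I.hU.negrev (D.simple i) hp
        intro e
        apply h7
        omega
      exact x_comm_of_even I hr2 (I.neg_lt hp) hne h6 a c
  · intro i hi
    have h6 := h5 i (List.mem_range.mpr hi)
    rwa [beq_iff_eq] at h6

/-! ### Two conjugates of a root subgroup -/

theorem mem_rootSubgroup_iff (I : BNInput D F η) {q : ℕ} (hq : q < D.nroots) (y : GL D.Idx F) :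
    y ∈ D.rootSubgroup F q ↔ ∃ t : F, y = xGL I.hSD' q t := by
  constructor
  · intro hy
    obtain ⟨S⟩ := I.hSD' ⟨q, hq⟩
    obtain ⟨t, ht⟩ := rootSubgroup_elt S hy
    exact ⟨t, by rw [ht, sl2Hom_sl2u_eq I.hSD' S]⟩
  · rintro ⟨t, rfl⟩
    unfold ChevalleyDatum.rootSubgroup
    exact Subgroup.subset_closure ⟨t, xGL_coe I.hSD' q t⟩

theorem rootSubgroup_le_pos (I : BNInput D F η) {q : ℕ} (hq : q < D.nroots) (hpos : D.nroots / 2 ≤ q) :
    D.rootSubgroup F q ≤ D.posUnipotent F := by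
  unfold ChevalleyDatum.rootSubgroup
  rw [Subgroup.closure_le]
  rintro g ⟨t, hg⟩
  exact x_mem_pos I hq hpos hg

/-- An element acting on the root elements conjugates `X_q` to `X_{π q}`. -/
theorem map_conj_root (I : BNInput D F η) {n : GL D.Idx F} {π : ℕ → ℕ} {c : ℕ → F}
    (h : RootAct D F (n : Matrix D.Idx D.Idx F) π c) {q : ℕ} (hq : q < D.nroots) :
    (D.rootSubgroup F q).map (MulAut.conj n).toMonoidHom = D.rootSubgroup F (π q) := by
  have hπq := (h q hq).1
  have hc := rootAct_ne_zero' I h hq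
  have key : ∀ t : F, n * xGL I.hSD' q t * n⁻¹ = xGL I.hSD' (π q) (c q * t) := fun t =>
    Units.ext (rootAct_conj h hq (xGL_coe I.hSD' q t))
  ext y
  rw [hi_mem_map_conj, mem_rootSubgroup_iff I hq, mem_rootSubgroup_iff I hπq]
  constructor
  · rintro ⟨t, ht⟩
    refine ⟨c q * t, ?_⟩
    rw [← key t, ← ht]
    group
  · rintro ⟨t, rfl⟩
    refine ⟨(c q)⁻¹ * t, ?_⟩
    have e := key ((c q)⁻¹ * t)
    rw [← mul_assoc, mul_inv_cancel₀ hc, one_mul] at e
    rw [← e]
    group

/-- The elements of the normaliser of `X_r` conjugate `X_r` to itself. -/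
theorem map_conj_stab (I : BNInput D F η) {b : GL D.Idx F} {r : ℕ} (hr : r < D.nroots)
    (hb : b ∈ stabX I.hSD' r) :
    (D.rootSubgroup F r).map (MulAut.conj b).toMonoidHom = D.rootSubgroup F r := by
  rw [mem_stabX] at hb
  ext y
  rw [hi_mem_map_conj, mem_rootSubgroup_iff I hr, mem_rootSubgroup_iff I hr]
  constructor
  · rintro ⟨t, ht⟩
    obtain ⟨a', e⟩ := hb.1 t
    refine ⟨a', ?_⟩
    rw [← e, ← ht]
    group
  · rintro ⟨t, rfl⟩
    exact hb.2 t

theorem isPGroup_pos [Fintype F] [CharP F 2] (I : BNInput D F η) : IsPGroup 2 ↥(D.posUnipotent F) := by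
  obtain ⟨n, _, hn⟩ := FiniteField.card F 2
  have h1 := card_posUnipotent I.hSD' I.hU I.hcomm (F := F)
  rw [hn, ← pow_mul] at h1
  exact IsPGroup.of_card h1

/-- The image of a root under a word of fundamental reflections (the last letter acts first). -/
def hiRefl (D : ChevalleyDatum) : List ℕ → ℕ → ℕ
  | [], s => s
  | i :: w, s => D.reflectRoot i (hiRefl D w s)

theorem hiRefl_nil (D : ChevalleyDatum) (s : ℕ) : hiRefl D [] s = s := rfl

theorem hiRefl_cons (D : ChevalleyDatum) (i : ℕ) (w : List ℕ) (s : ℕ) :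
    hiRefl D (i :: w) s = D.reflectRoot i (hiRefl D w s) := rfl

/-- A word of fundamental reflections is realised by an element of `N`. -/
theorem exists_rootAct_word (I : BNInput D F η) (w : List ℕ) (hw : ∀ i ∈ w, i < D.rank) :
    ∃ (m : GL D.Idx F) (π : ℕ → ℕ) (c : ℕ → F), m ∈ D.monomialSubgroup F ∧
      RootAct D F (m : Matrix D.Idx D.Idx F) π c ∧ ∀ s, π s = hiRefl D w s := by
  induction w with
  | nil =>
    refine ⟨1, fun s => s, fun _ => 1, one_mem _, ?_, fun s => rfl⟩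
    rw [Units.val_one]
    exact rootAct_one
  | cons i w ih =>
    obtain ⟨m, π, c, hm, hπ, he⟩ := ih fun j hj => hw j (List.mem_cons_of_mem _ hj)
    have hi := hw i List.mem_cons_self
    refine ⟨nGL I.hSD' i * m, fun s => D.reflectRoot i (π s), fun s => (η i (π s) : F) * c s,
      mul_mem (nGL_mem I hi) hm, ?_, fun s => ?_⟩
    · rw [Units.val_mul]
      exact (rootAct_nGL I hi).mul hπ
    · show D.reflectRoot i (π s) = hiRefl D (i :: w) s
      rw [he s, hiRefl_cons]

/-- The check of `pairOK` at the root `s`: the word of the table moves `r` and `s` to positive roots. -/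
def pairCell (D : ChevalleyDatum) (r : ℕ) (tab : List (List ℕ)) (s : ℕ) : Bool :=
  s == D.neg r ||
    ((tab.getD s []).all (fun i => decide (i < D.rank)) &&
      (decide (D.nroots / 2 ≤ hiRefl D (tab.getD s []) r) && decide (D.nroots / 2 ≤ hiRefl D (tab.getD s []) s)))

/-- Boolean check of a table of words moving `r` and each root other than `-r` to positive roots. -/
def pairOK (D : ChevalleyDatum) (r : ℕ) (tab : List (List ℕ)) : Bool :=
  (List.range D.nroots).all (pairCell D r tab)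

/-- `pairOK` from chunks. -/
theorem pairOK_of_chunks {r : ℕ} {tab : List (List ℕ)} (c k : ℕ) (hk : k * c = D.nroots)
    (h : ∀ j, j < k → (List.range' (j * c) c).all (pairCell D r tab) = true) : pairOK D r tab = true := by
  have h3 := all_range_chunks (pairCell D r tab) c k h
  rw [hk] at h3
  exact h3

theorem pair_of_ok {r : ℕ} {tab : List (List ℕ)} (h : pairOK D r tab = true) :
    ∀ s, s < D.nroots → s ≠ D.neg r → ∃ w : List ℕ, (∀ i ∈ w, i < D.rank) ∧
      D.nroots / 2 ≤ hiRefl D w r ∧ D.nroots / 2 ≤ hiRefl D w s := by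
  unfold pairOK at h
  rw [List.all_eq_true] at h
  intro s hs hne
  have h1 := h s (List.mem_range.mpr hs)
  unfold pairCell at h1
  rw [Bool.or_eq_true, beq_iff_eq, Bool.and_eq_true, Bool.and_eq_true, decide_eq_true_eq, decide_eq_true_eq,
    List.all_eq_true] at h1
  rcases h1 with h1 | ⟨h1, h2, h3⟩
  · exact absurd h1 hne
  · exact ⟨tab.getD s [], fun i hi => of_decide_eq_true (h1 i hi), h2, h3⟩

/-- Two conjugates of the root subgroup of a dominant root generate a `2`-group, or a conjugate of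
`⟨X_r, X_{-r}⟩`. -/
theorem high_pair [Fintype F] [CharP F 2] (I : BNInput D F η) (hBG : D.borelSubgroup F ≤ D.group F)
    (hG : D.group F ≤ D.borelSubgroup F ⊔ D.monomialSubgroup F) {r : ℕ} (hr : r < D.nroots)
    (hcU : CentU D F r)
    (hw : ∀ s, s < D.nroots → s ≠ D.neg r → ∃ w : List ℕ, (∀ i ∈ w, i < D.rank) ∧
      D.nroots / 2 ≤ hiRefl D w r ∧ D.nroots / 2 ≤ hiRefl D w s)
    {g : GL D.Idx F} (hg : g ∈ D.group F) :
    IsPGroup 2 ↥(D.rootSubgroup F r ⊔ (D.rootSubgroup F r).map (MulAut.conj g).toMonoidHom) ∨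
    ∃ h ∈ D.group F, (D.rootSubgroup F r ⊔
      (D.rootSubgroup F r).map (MulAut.conj g).toMonoidHom).map (MulAut.conj h).toMonoidHom =
        D.rootSubgroup F r ⊔ D.rootSubgroup F (D.neg r) := by
  obtain ⟨b₁, hb₁, n, hn, b₂, hb₂, rfl, π, π', c, c', hπ, hπ'⟩ := bruhat_root I hG hg
  have hB := borel_le_stabX I hr hcU
  have hπr := (hπ r hr).1
  have e1 : (D.rootSubgroup F r).map (MulAut.conj (b₁ * n * b₂)).toMonoidHom =
      (D.rootSubgroup F (π r)).map (MulAut.conj b₁).toMonoidHom := by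
    rw [← hi_map_conj_map_conj, ← hi_map_conj_map_conj, map_conj_stab I hr (hB hb₂), map_conj_root I hπ hr]
  have e2 : D.rootSubgroup F r ⊔ (D.rootSubgroup F r).map (MulAut.conj (b₁ * n * b₂)).toMonoidHom =
      (D.rootSubgroup F r ⊔ D.rootSubgroup F (π r)).map (MulAut.conj b₁).toMonoidHom := by
    rw [Subgroup.map_sup, map_conj_stab I hr (hB hb₁), e1]
  by_cases hs : π r = D.neg r
  · right
    refine ⟨b₁⁻¹, inv_mem (hBG hb₁), ?_⟩
    rw [e2, hi_map_conj_map_conj, inv_mul_cancel, hi_map_conj_one, hs]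
  · left
    obtain ⟨w, hw1, hw2, hw3⟩ := hw (π r) hπr hs
    obtain ⟨m, ρ, d, _, hρ, hρe⟩ := exists_rootAct_word (F := F) I w hw1
    have h3 : (D.rootSubgroup F r ⊔ D.rootSubgroup F (π r)).map (MulAut.conj m).toMonoidHom ≤
        D.posUnipotent F := by
      rw [Subgroup.map_sup, map_conj_root I hρ hr, map_conj_root I hρ hπr]
      refine sup_le (rootSubgroup_le_pos I (hρ r hr).1 ?_) (rootSubgroup_le_pos I (hρ (π r) hπr).1 ?_)
      · rw [hρe]
        exact hw2
      · rw [hρe]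
        exact hw3
    have h4 : D.rootSubgroup F r ⊔ (D.rootSubgroup F r).map (MulAut.conj (b₁ * n * b₂)).toMonoidHom ≤
        (D.posUnipotent F).map (MulAut.conj (b₁ * m⁻¹)).toMonoidHom := by
      rw [e2, ← hi_map_conj_map_conj]
      apply Subgroup.map_mono
      intro y hy
      rw [hi_mem_map_conj, inv_inv]
      exact h3 (Subgroup.mem_map_of_mem _ hy)
    exact ((isPGroup_pos I).map _).to_le h4

end High

end Cfsg.Agent.Lib.helper22
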