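/-
helper22: the centraliser of the root element of a dominant root and the pairs of conjugates of the highest root
subgroup, for the tabulated Chevalley data (characteristic two).
-/
import Cfsg.Agent.Lib.helper22.ChevHigh
import Cfsg.Agent.Lib.helper22.ChevBNAll
import Cfsg.Agent.S1043

set_option autoImplicit false

namespace Cfsg.Agent.Lib.helper22

open Cfsg.Lie

universe u

section HighAll

variable {F : Type u} [Field F]

/-- The centraliser of `x_r(1)`, `r` a dominant root with `p_k` the only fundamental root not orthogonal to it: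
it is generated by `U` and the root subgroups `X_s`, `s ∈ L`, where `L` lists the negatives of the fundamental
roots other than `p_k`. -/
theorem centralizer_high_all [CharP F 2] (D : ChevalleyDatum)
    (hD : D ∈ [chevG2, chevB2, chevD4, chevF4, chevE6, chevE7, chevE8]) {r k : ℕ}
    (hok : highOK D r k = true) (L : List ℕ)
    (hL : L.Perm (((List.range D.rank).filter (fun i => i != k)).map (fun i => D.neg (D.simple i))))
    (t : GL D.Idx F) (ht : (t : Matrix D.Idx D.Idx F) = D.x F r 1) :
    D.group F ⊓ Subgroup.centralizer {t} = D.posUnipotent F ⊔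
      Subgroup.closure {g : GL D.Idx F | ∃ s ∈ L, ∃ c : F, (g : Matrix D.Idx D.Idx F) = D.x F s c} := by
  obtain ⟨η, I⟩ := bnInput_all D hD F
  obtain ⟨hBG, hNG, hG⟩ := Cfsg.Agent.S1043.result (F := F) D hD
  have Hd : HighData D F r k := highData_of_ok I hok
  have hL' : ∀ s, s ∈ L ↔ ∃ i, i < D.rank ∧ i ≠ k ∧ s = D.neg (D.simple i) := by
    intro s
    rw [hL.mem_iff, List.mem_map]
    constructor
    · rintro ⟨i, hi, rfl⟩
      rw [List.mem_filter, List.mem_range, bne_iff_ne] at hi
      exact ⟨i, hi.1, hi.2, rfl⟩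
    · rintro ⟨i, hi, hik, rfl⟩
      refine ⟨i, ?_, rfl⟩
      rw [List.mem_filter, List.mem_range, bne_iff_ne]
      exact ⟨hi, hik⟩
  have e : t = xGL I.hSD' r 1 := eq_xGL I.hSD' ht
  rw [e]
  exact centralizer_high I hBG hNG hG.ge Hd L hL'

/-- Two conjugates of the root subgroup of the last root generate a `2`-group or a conjugate of `⟨X_r, X_{-r}⟩`. -/
theorem high_pair_all [Fintype F] [CharP F 2] (D : ChevalleyDatum)
    (hD : D ∈ [chevG2, chevB2, chevD4, chevF4, chevE6, chevE7, chevE8]) {tab : List (List ℕ)}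
    (hok : centUOK D (D.nroots - 1) = true) (htab : pairOK D (D.nroots - 1) tab = true)
    {g : GL D.Idx F} (hg : g ∈ D.group F) :
    IsPGroup 2 ↥(D.rootSubgroup F (D.nroots - 1) ⊔
      (D.rootSubgroup F (D.nroots - 1)).map (MulAut.conj g).toMonoidHom) ∨
    ∃ h ∈ D.group F, (D.rootSubgroup F (D.nroots - 1) ⊔
      (D.rootSubgroup F (D.nroots - 1)).map (MulAut.conj g).toMonoidHom).map (MulAut.conj h).toMonoidHom =
        D.rootSubgroup F (D.nroots - 1) ⊔ D.rootSubgroup F 0 := by
  obtain ⟨η, I⟩ := bnInput_all D hD F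
  obtain ⟨hBG, hNG, hG⟩ := Cfsg.Agent.S1043.result (F := F) D hD
  obtain ⟨_, hr, hcU⟩ := centU_of_ok (F := F) I hok
  have hneg : D.neg (D.nroots - 1) = 0 := by
    have := I.hU.negrev _ hr
    omega
  have key := high_pair I hBG hG.ge hr hcU (pair_of_ok htab) hg
  rw [hneg] at key
  exact key

/-- The subgroup generated by the root elements of the roots of a list, as a join of root subgroups. -/
theorem lowClosure_cons (D : ChevalleyDatum) (a : ℕ) (L : List ℕ) :
    Subgroup.closure {g : GL D.Idx F | ∃ s ∈ a :: L, ∃ c : F, (g : Matrix D.Idx D.Idx F) = D.x F s c} =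
      D.rootSubgroup F a ⊔
        Subgroup.closure {g : GL D.Idx F | ∃ s ∈ L, ∃ c : F, (g : Matrix D.Idx D.Idx F) = D.x F s c} := by
  unfold ChevalleyDatum.rootSubgroup
  rw [← Subgroup.closure_union]
  congr 1
  ext g
  constructor
  · rintro ⟨s, hs, c, hg⟩
    rcases List.mem_cons.mp hs with rfl | hs
    · exact Or.inl ⟨c, hg⟩
    · exact Or.inr ⟨s, hs, c, hg⟩
  · rintro (⟨c, hg⟩ | ⟨s, hs, c, hg⟩)
    · exact ⟨a, List.mem_cons_self, c, hg⟩
    · exact ⟨s, List.mem_cons_of_mem _ hs, c, hg⟩

theorem lowClosure_nil (D : ChevalleyDatum) :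
    Subgroup.closure {g : GL D.Idx F | ∃ s ∈ ([] : List ℕ), ∃ c : F,
      (g : Matrix D.Idx D.Idx F) = D.x F s c} = ⊥ := by
  rw [Subgroup.closure_eq_bot_iff]
  rintro g ⟨s, hs, _⟩
  exact absurd hs List.not_mem_nil

end HighAll

end Cfsg.Agent.Lib.helper22
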