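/-
helper22: the centraliser of the short root involution `x_{2a+b}(1)` in the Chevalley group of type `G₂` in
characteristic two (general lemmas: words of reflections, leading coefficients of ordered products).
-/
import Cfsg.Agent.Lib.helper22.ChevHighAll

set_option autoImplicit false

namespace Cfsg.Agent.Lib.helper22

open Cfsg.Lie

section G2Gen

variable {D : ChevalleyDatum} {F : Type*} [Field F] {η : ℕ → ℕ → ℤ}

theorem hiRefl_append (D : ChevalleyDatum) (w w' : List ℕ) (s : ℕ) :
    hiRefl D (w ++ w') s = hiRefl D w (hiRefl D w' s) := by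
  induction w with
  | nil => rfl
  | cons i w ih =>
    show D.reflectRoot i (hiRefl D (w ++ w') s) = D.reflectRoot i (hiRefl D w (hiRefl D w' s))
    rw [ih]

/-- Every element of `N` acts on the root elements through a word of fundamental reflections. -/
theorem rootAct_word (I : BNInput D F η) {n : GL D.Idx F} (hn : n ∈ D.monomialSubgroup F) :
    ∃ (π : ℕ → ℕ) (c : ℕ → F) (w : List ℕ), RootAct D F (n : Matrix D.Idx D.Idx F) π c ∧
      (∀ i ∈ w, i < D.rank) ∧ ∀ s, π s = hiRefl D w s := by
  have hHT : D.diagonalSubgroup F ≤ torus D F := diagonalSubgroup_le_torus I.hSD'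
  have h1 := monomial_le_simple I hn
  have h2 : Subgroup.closure (simpleNSet D F) ⊔ D.diagonalSubgroup F =
      Subgroup.closure (simpleNSet D F ∪ (D.diagonalSubgroup F : Set (GL D.Idx F))) := by
    rw [Subgroup.closure_union, Subgroup.closure_eq]
  rw [h2] at h1
  clear hn
  induction h1 using Subgroup.closure_induction'' with
  | mem x hx =>
    rcases hx with ⟨i, hi, hx⟩ | hx
    · refine ⟨_, _, [i], hx ▸ rootAct_simple I.R i hi, ?_, fun s => rfl⟩
      intro j hj
      rw [List.mem_singleton] at hj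
      rw [hj]
      exact hi
    · obtain ⟨c, hc⟩ := rootAct_torus I.hSD (hHT hx)
      exact ⟨_, c, [], hc, fun j hj => absurd hj List.not_mem_nil, fun s => rfl⟩
  | inv_mem x hx =>
    rcases hx with ⟨i, hi, hx⟩ | hx
    · obtain ⟨Si⟩ := I.hSD' ⟨D.simple i, (I.hS ⟨i, hi⟩).1⟩
      have hx' : x = sl2Hom Si (sl2n 1 one_ne_zero) :=
        Units.ext (hx.trans (sl2Hom_sl2n Si 1 one_ne_zero).symm)
      have hinv : x⁻¹ = sl2Hom Si (sl2h (-1) (neg_ne_zero.mpr one_ne_zero)) * x := by
        rw [hx', ← map_inv, sl2n_inv, sl2n_eq_sl2h_mul_sl2n, map_mul]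
      have hh : sl2Hom Si (sl2h (-1 : F) (neg_ne_zero.mpr one_ne_zero)) ∈ D.diagonalSubgroup F := by
        unfold ChevalleyDatum.diagonalSubgroup
        exact Subgroup.subset_closure ⟨D.simple i, _, (I.hS ⟨i, hi⟩).1, neg_ne_zero.mpr one_ne_zero,
          sl2Hom_sl2h Si _ _⟩
      obtain ⟨c, hc⟩ := rootAct_torus I.hSD (hHT hh)
      have := hc.mul (hx ▸ rootAct_simple I.R i hi)
      rw [hinv, Units.val_mul]
      refine ⟨_, _, [i], this, ?_, fun s => rfl⟩
      intro j hj
      rw [List.mem_singleton] at hj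
      rw [hj]
      exact hi
    · obtain ⟨c, hc⟩ := rootAct_torus I.hSD (hHT (inv_mem hx))
      exact ⟨_, c, [], hc, fun j hj => absurd hj List.not_mem_nil, fun s => rfl⟩
  | one =>
    rw [Units.val_one]
    exact ⟨_, _, [], rootAct_one, fun j hj => absurd hj List.not_mem_nil, fun s => rfl⟩
  | mul x y _ _ hx hy =>
    obtain ⟨π, c, w, h, hw, he⟩ := hx
    obtain ⟨π', c', w', h', hw', he'⟩ := hy
    rw [Units.val_mul]
    refine ⟨_, _, w ++ w', h.mul h', ?_, fun s => ?_⟩
    · intro j hj
      rcases List.mem_append.mp hj with hj | hj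
      · exact hw j hj
      · exact hw' j hj
    · show π (π' s) = hiRefl D (w ++ w') s
      rw [hiRefl_append, he, he']

/-- Boolean check: the list `orb` of tuples of roots contains `base` and is closed under the fundamental
reflections. -/
def tupOK (D : ChevalleyDatum) (orb : List (List ℕ)) (base : List ℕ) : Bool :=
  orb.contains base &&
    orb.all (fun t => (List.range D.rank).all (fun i => orb.contains (t.map (D.reflectRoot i))))

theorem tup_of_ok {orb : List (List ℕ)} {base : List ℕ} (h : tupOK D orb base = true) (w : List ℕ)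
    (hw : ∀ i ∈ w, i < D.rank) : base.map (hiRefl D w) ∈ orb := by
  unfold tupOK at h
  rw [Bool.and_eq_true, List.contains_iff_mem, List.all_eq_true] at h
  obtain ⟨h1, h2⟩ := h
  induction w with
  | nil =>
    have : base.map (hiRefl D []) = base := by
      have : hiRefl D [] = id := rfl
      rw [this, List.map_id]
    rw [this]
    exact h1
  | cons i w ih =>
    have h3 := ih fun j hj => hw j (List.mem_cons_of_mem _ hj)
    have h4 := h2 _ h3
    rw [List.all_eq_true] at h4
    have h5 := h4 i (List.mem_range.mpr (hw i List.mem_cons_self))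
    rw [List.contains_iff_mem, List.map_map] at h5
    exact h5

/-- Ordered products over a later final segment are ordered products over an earlier one. -/
theorem prodSet_mono (I : BNInput D F η) {m m' len len' : ℕ} (hm : m + len = D.nroots)
    (hm' : m' + len' = D.nroots) (hmN : D.nroots / 2 ≤ m) (hmm : m ≤ m') :
    ProdSet D F m' len' ⊆ ProdSet D F m len := by
  obtain ⟨hgen, hmul⟩ := prodSet_closed I.hSD' I.hcomm (fun r h1 h2 => (I.hU.posOK r h1 h2).2.1) I.hU.terms
    len m hm hmN
  rintro M ⟨t, rfl⟩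
  unfold ordProd
  apply wordMat_mem_of_closed (one_mem_prodSet I.hSD' _ _) hmul
  intro p hp
  rw [List.mem_map] at hp
  obtain ⟨r, hr, rfl⟩ := hp
  rw [List.mem_range'_1] at hr
  exact hgen r (t r) (by omega) (by omega)

/-- The coefficient of the first root of an ordered product over a final segment is determined: if
`x_m(α) u` is an ordered product over the roots after `m`, for such a product `u`, then `α = 0`. -/
theorem lead_coeff_zero (I : BNInput D F η) {m len : ℕ} (hm : m + 1 + len = D.nroots)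
    (hmN : D.nroots / 2 ≤ m) {u u' : Matrix D.Idx D.Idx F} (hu : u ∈ ProdSet D F (m + 1) len)
    (hu' : u' ∈ ProdSet D F (m + 1) len) {α : F} (h : D.x F m α * u = u') : α = 0 := by
  obtain ⟨t, rfl⟩ := hu
  obtain ⟨t', rfl⟩ := hu'
  have hL : List.range' m (len + 1) = m :: List.range' (m + 1) len := List.range'_succ
  have hmem : ∀ r ∈ List.range' (m + 1) len, r ≠ m := by
    intro r hr
    rw [List.mem_range'_1] at hr
    omega
  have e1 : D.x F m α * ordProd D F (List.range' (m + 1) len) t =
      ordProd D F (List.range' m (len + 1)) (fun r => if r = m then α else t r) := by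
    rw [hL, ordProd_cons, if_pos rfl]
    congr 1
    apply ordProd_congr
    intro r hr
    rw [if_neg (hmem r hr)]
  have e2 : ordProd D F (List.range' (m + 1) len) t' =
      ordProd D F (List.range' m (len + 1)) (fun r => if r = m then 0 else t' r) := by
    rw [hL, ordProd_cons, if_pos rfl, x_zero I.hSD', one_mul]
    apply ordProd_congr
    intro r hr
    rw [if_neg (hmem r hr)]
  rw [e1, e2] at h
  have h3 := ordProd_unique I.hSD' I.hU.posOK I.hU.negrev (I.hU.unitF F) (len + 1) m (by omega) hmN _ _ h m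
    (by rw [hL]; exact List.mem_cons_self)
  simpa using h3

/-- Commuting root elements in characteristic two. -/
theorem xGL_comm_of_even [CharP F 2] (I : BNInput D F η) {r s : ℕ} (hr : r < D.nroots) (hs : s < D.nroots)
    (hne : s ≠ D.neg r) (h : commEven D r s = true) (a b : F) :
    xGL I.hSD' r a * xGL I.hSD' s b = xGL I.hSD' s b * xGL I.hSD' r a := by
  apply Units.ext
  rw [Units.val_mul, Units.val_mul, xGL_coe, xGL_coe]
  exact (x_comm_of_even I hr hs hne h a b).symm

/-- A conjugation formula in characteristic two: the commutator word of `(q, s)` has the single term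
`(k, C, 1, 1)` with `C` odd. -/
theorem xGL_conj_single [CharP F 2] (I : BNInput D F η) {q s k : ℕ} {C : ℤ} (hq : q < D.nroots)
    (hs : s < D.nroots) (hsq : s ≠ q) (hneg : s ≠ D.neg q) (hT : D.commTerms q s = [(k, C, 1, 1)])
    (hC : C % 2 = 1) (t u : F) :
    xGL I.hSD' q t * xGL I.hSD' s u * (xGL I.hSD' q t)⁻¹ = xGL I.hSD' s u * xGL I.hSD' k (t * u) := by
  apply Units.ext
  rw [xGL_inv, Units.val_mul, Units.val_mul, Units.val_mul, xGL_coe, xGL_coe, xGL_coe, xGL_coe,
    conj_x_eq I.hSD' I.hcomm hq hs hsq hneg]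
  congr 1
  unfold ChevalleyDatum.commWord
  rw [hT, List.map_cons, List.map_nil, wordMat_cons, wordMat_nil, mul_one]
  congr 1
  have hC' : ((C : ℤ) : F) = 1 := by
    have h2 : (2 : F) = 0 := CharTwo.two_eq_zero
    have e : C = 2 * (C / 2) + 1 := by omega
    rw [e]
    push_cast
    rw [h2, zero_mul, zero_add]
  show (C : F) * (- -t) ^ 1 * u ^ 1 = t * u
  rw [hC']
  ring

/-- Boolean check: the root elements of the pairs of the list commute in characteristic two. -/
def commPairsOK (D : ChevalleyDatum) (L : List (ℕ × ℕ)) : Bool :=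
  L.all fun p => decide (p.1 < D.nroots) && (decide (p.2 < D.nroots) &&
    (decide (p.2 ≠ D.neg p.1) && commEven D p.1 p.2))

theorem comm_of_pairsOK [CharP F 2] (I : BNInput D F η) {L : List (ℕ × ℕ)} (h : commPairsOK D L = true)
    {r s : ℕ} (hp : (r, s) ∈ L) (a b : F) :
    xGL I.hSD' r a * xGL I.hSD' s b = xGL I.hSD' s b * xGL I.hSD' r a := by
  unfold commPairsOK at h
  rw [List.all_eq_true] at h
  have h1 := h (r, s) hp
  rw [Bool.and_eq_true, Bool.and_eq_true, Bool.and_eq_true, decide_eq_true_eq, decide_eq_true_eq,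
    decide_eq_true_eq] at h1
  exact xGL_comm_of_even I h1.1 h1.2.1 h1.2.2.1 h1.2.2.2 a b

/-! ### Leading terms of products of root elements -/

variable (D F) in
/-- `g = x_m(α) u` with `α ≠ 0` and `u` an ordered product over the roots after the positive root `m`. -/
def LeadAt (g : GL D.Idx F) (m : ℕ) : Prop :=
  D.nroots / 2 ≤ m ∧ m < D.nroots ∧ ∃ α : F, α ≠ 0 ∧
    ∃ u ∈ ProdSet D F (m + 1) (D.nroots - (m + 1)), (g : Matrix D.Idx D.Idx F) = D.x F m α * u

theorem prodSet_closed' (I : BNInput D F η) {m : ℕ} (hm : m ≤ D.nroots) (hmN : D.nroots / 2 ≤ m) :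
    (∀ q (c : F), m ≤ q → q < D.nroots → D.x F q c ∈ ProdSet D F m (D.nroots - m)) ∧
      (∀ A B, A ∈ ProdSet D F m (D.nroots - m) → B ∈ ProdSet D F m (D.nroots - m) →
        A * B ∈ ProdSet D F m (D.nroots - m)) :=
  prodSet_closed I.hSD' I.hcomm (fun r h1 h2 => (I.hU.posOK r h1 h2).2.1) I.hU.terms
    (D.nroots - m) m (by omega) hmN

theorem leadAt_not_lt (I : BNInput D F η) {g : GL D.Idx F} {m m' : ℕ} (h : LeadAt D F g m)
    (h' : LeadAt D F g m') : ¬ m < m' := by
  intro hlt
  obtain ⟨hm1, hm2, α, hα, u, hu, e⟩ := h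
  obtain ⟨_, hm2', α', _, u', hu', e'⟩ := h'
  obtain ⟨hgen, hmul⟩ := prodSet_closed' I (m := m + 1) (by omega) (by omega) (F := F)
  have h1 : D.x F m' α' * u' ∈ ProdSet D F (m + 1) (D.nroots - (m + 1)) :=
    hmul _ _ (hgen m' α' (by omega) hm2')
      (prodSet_mono I (by omega) (by omega) (by omega) (by omega) hu')
  exact hα (lead_coeff_zero I (by omega) hm1 hu h1 (e.symm.trans e'))

theorem leadAt_unique (I : BNInput D F η) {g : GL D.Idx F} {m m' : ℕ} (h : LeadAt D F g m)
    (h' : LeadAt D F g m') : m = m' := by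
  have h1 := leadAt_not_lt I h h'
  have h2 := leadAt_not_lt I h' h
  omega

theorem leadAt_ne_one (I : BNInput D F η) {g : GL D.Idx F} {m : ℕ} (h : LeadAt D F g m) : g ≠ 1 := by
  rintro rfl
  obtain ⟨hm1, hm2, α, hα, u, hu, e⟩ := h
  rw [Units.val_one] at e
  exact hα (lead_coeff_zero I (by omega) hm1 hu (one_mem_prodSet I.hSD' _ _) e.symm)

variable (D F) in
/-- `g` is trivial or has its leading term at a root of `M`. -/
def LeadIn (g : GL D.Idx F) (M : Set ℕ) : Prop := g = 1 ∨ ∃ m ∈ M, LeadAt D F g m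

theorem leadIn_mul (I : BNInput D F η) {r : ℕ} (hr : r < D.nroots) {α : F}
    (h : α = 0 ∨ D.nroots / 2 ≤ r) {g : GL D.Idx F} {M : Set ℕ} (hrM : r ∉ M)
    (hcomm : xGL I.hSD' r α * g = g * xGL I.hSD' r α) (hg : LeadIn D F g M) :
    LeadIn D F (xGL I.hSD' r α * g) (insert r M) := by
  by_cases hα : α = 0
  · rw [hα, xGL_zero, one_mul]
    rcases hg with h1 | ⟨m, hm, hl⟩
    · exact Or.inl h1
    · exact Or.inr ⟨m, Set.mem_insert_of_mem _ hm, hl⟩
  · have hpos := h.resolve_left hα
    rcases hg with rfl | ⟨m, hm, hm1, hm2, β, hβ, u, hu, e⟩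
    · rw [mul_one]
      exact Or.inr ⟨r, Set.mem_insert _ _, hpos, hr, α, hα, 1, one_mem_prodSet I.hSD' _ _,
        by rw [xGL_coe, mul_one]⟩
    · have hne : r ≠ m := fun h => hrM (h ▸ hm)
      rcases Nat.lt_or_gt_of_ne hne with hlt | hgt
      · obtain ⟨hgen, hmul⟩ := prodSet_closed' I (m := r + 1) (by omega) (by omega) (F := F)
        refine Or.inr ⟨r, Set.mem_insert _ _, hpos, hr, α, hα, (g : Matrix D.Idx D.Idx F), ?_,
          by rw [Units.val_mul, xGL_coe]⟩
        rw [e]
        exact hmul _ _ (hgen m β (by omega) hm2)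
          (prodSet_mono I (by omega) (by omega) (by omega) (by omega) hu)
      · obtain ⟨hgen, hmul⟩ := prodSet_closed' I (m := m + 1) (by omega) (by omega) (F := F)
        refine Or.inr ⟨m, Set.mem_insert_of_mem _ hm, hm1, hm2, β, hβ, u * D.x F r α, ?_, ?_⟩
        · exact hmul _ _ hu (hgen r α (by omega) hr)
        · rw [hcomm, Units.val_mul, e, xGL_coe, mul_assoc]

theorem leadIn_one (M : Set ℕ) : LeadIn D F (1 : GL D.Idx F) M := Or.inl rfl

end G2Gen

end Cfsg.Agent.Lib.helper22
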