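/-
helper22: the centraliser of the short root involution `x_{2a+b}(1)` in the Chevalley group of type `G₂` in
characteristic two (roots: `a = 7`, `b = 6`, `a + b = 8`, `2a + b = 9`, `3a + b = 10`, `3a + 2b = 11`, `-b = 5`).
-/
import Cfsg.Agent.Lib.helper22.ChevG2Inv

set_option autoImplicit false

namespace Cfsg.Agent.Lib.helper22

open Cfsg.Lie

/-! ### Table facts -/

theorem g2_nroots : chevG2.nroots = 12 := by decide +kernel

theorem g2_rank : chevG2.rank = 2 := by decide +kernel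

/-- Pairs of roots whose root elements commute in characteristic two. -/
def g2Pairs : List (ℕ × ℕ) := [(9, 10), (9, 11), (10, 11), (9, 6), (9, 5), (7, 11), (6, 9), (6, 11)]

theorem g2_pairsOK : commPairsOK chevG2 g2Pairs = true := by decide +kernel

theorem g2_terms_8_9 : chevG2.commTerms 8 9 = [(11, 3, 1, 1)] := by decide +kernel

theorem g2_terms_7_9 : chevG2.commTerms 7 9 = [(10, 3, 1, 1)] := by decide +kernel

theorem g2_terms_6_10 : chevG2.commTerms 6 10 = [(11, 1, 1, 1)] := by decide +kernel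

/-- The images of the tuple of the positive roots under the Weyl group. -/
def g2Orb : List (List ℕ) :=
  [[0, 8, 2, 4, 6, 1], [0, 9, 3, 7, 10, 5], [1, 7, 2, 3, 5, 0], [1, 9, 4, 8, 11, 6], [5, 4, 3, 2, 1, 0],
    [5, 8, 7, 9, 11, 10], [6, 3, 4, 2, 0, 1], [6, 7, 8, 9, 10, 11], [10, 2, 7, 3, 0, 5], [10, 4, 9, 8, 6, 11],
    [11, 2, 8, 4, 1, 6], [11, 3, 9, 7, 5, 10]]

theorem g2_tupOK : tupOK chevG2 g2Orb [6, 7, 8, 9, 10, 11] = true := by decide +kernel

theorem g2_orb_prop : g2Orb.all (fun t => (t.getD 3 0 != 9 || (t == [6, 7, 8, 9, 10, 11] ||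
    t == [5, 8, 7, 9, 11, 10])) && (t.getD 4 0 != 9 && t.getD 5 0 != 9)) = true := by decide +kernel

theorem g2_misc : chevG2.simple 0 = 7 ∧ chevG2.simple 1 = 6 ∧ chevG2.neg 6 = 5 ∧ chevG2.neg 5 = 6 ∧
    chevG2.neg 7 = 4 ∧ cartanZ chevG2 0 9 = 1 ∧ cartanZ chevG2 1 9 = 0 ∧ chevG2.neg 8 = 3 ∧
    chevG2.neg 9 = 2 := by decide +kernel

theorem g2_refl1 : chevG2.reflectRoot 1 6 = 5 ∧ chevG2.reflectRoot 1 7 = 8 ∧ chevG2.reflectRoot 1 8 = 7 ∧
    chevG2.reflectRoot 1 9 = 9 ∧ chevG2.reflectRoot 1 10 = 11 ∧ chevG2.reflectRoot 1 11 = 10 := by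
  decide +kernel

theorem highOK_G2 : highOK chevG2 11 1 = true := by decide +kernel

theorem g2_lt {s : ℕ} (hs : s < 12) : s < chevG2.nroots := by
  rw [g2_nroots]
  exact hs

theorem g2_pos {s : ℕ} (hs : 6 ≤ s) : chevG2.nroots / 2 ≤ s := by
  rw [g2_nroots]
  exact hs

/-! ### Group lemmas -/

theorem hi_triple_mul {G : Type*} [Group G] (x y z x' y' z' : G) (h1 : z * x' = x' * z)
    (h2 : z * y' = y' * z) (h3 : y * x' = x' * y) :
    x * y * z * (x' * y' * z') = x * x' * (y * y') * (z * z') := by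
  calc x * y * z * (x' * y' * z') = x * y * (z * x') * y' * z' := by group
    _ = x * y * (x' * z) * y' * z' := by rw [h1]
    _ = x * (y * x') * (z * y') * z' := by group
    _ = x * (x' * y) * (y' * z) * z' := by rw [h3, h2]
    _ = x * x' * (y * y') * (z * z') := by group

theorem hi_conj_of_comm {G : Type*} [Group G] {a b : G} (h : a * b = b * a) : a * b * a⁻¹ = b := by
  rw [h, mul_inv_cancel_right]

theorem hi_conj_comm {G : Type*} [Group G] (n : G) {x y : G} (h : x * y = y * x) :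
    (n * x * n⁻¹) * (n * y * n⁻¹) = (n * y * n⁻¹) * (n * x * n⁻¹) := by
  calc (n * x * n⁻¹) * (n * y * n⁻¹) = n * (x * y) * n⁻¹ := by group
    _ = n * (y * x) * n⁻¹ := by rw [h]
    _ = (n * y * n⁻¹) * (n * x * n⁻¹) := by group

section Para

variable {D : ChevalleyDatum} {F : Type*} [Field F] {η : ℕ → ℕ → ℤ}

theorem rootSubgroup_le_group' (D : ChevalleyDatum) (F : Type*) [Field F] {s : ℕ} (hs : s < D.nroots) :
    D.rootSubgroup F s ≤ D.group F := by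
  unfold ChevalleyDatum.rootSubgroup ChevalleyDatum.group
  rw [Subgroup.closure_le]
  rintro g ⟨t, hg⟩
  exact Subgroup.subset_closure ⟨⟨s, hs⟩, t, by rw [hg, x_eq D F ⟨s, hs⟩]⟩

theorem xGL_mem_rootSubgroup (I : BNInput D F η) {s : ℕ} (hs : s < D.nroots) (t : F) :
    xGL I.hSD' s t ∈ D.rootSubgroup F s :=
  (mem_rootSubgroup_iff I hs _).mpr ⟨t, rfl⟩

theorem diag_conj_rootSubgroup (I : BNInput D F η) {r : ℕ} (hr : r < D.nroots) {h : GL D.Idx F}
    (hh : h ∈ D.diagonalSubgroup F) {y : GL D.Idx F} (hy : y ∈ D.rootSubgroup F r) :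
    h * y * h⁻¹ ∈ D.rootSubgroup F r := by
  obtain ⟨χ, hχ⟩ := rootAct_diag I hh
  rw [mem_rootSubgroup_iff I hr] at hy ⊢
  obtain ⟨t, rfl⟩ := hy
  exact ⟨χ r * t, Units.ext (rootAct_conj hχ hr (xGL_coe I.hSD' r t))⟩

theorem diag_conj_up (I : BNInput D F η) (p : ℕ) {h : GL D.Idx F} (hh : h ∈ D.diagonalSubgroup F)
    {y : GL D.Idx F} (hy : y ∈ Subgroup.closure (upSet D F p)) :
    h * y * h⁻¹ ∈ Subgroup.closure (upSet D F p) := by
  obtain ⟨χ, hχ⟩ := rootAct_diag I hh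
  refine conj_mem_closure _ h ?_ y hy
  rintro x ⟨s, t, hs, hsp, hx⟩
  exact Subgroup.subset_closure ⟨s, χ s * t, hs, hsp, rootAct_conj hχ hs.1 hx⟩

/-- The elements of `⟨U_p, X_p, X_{-p}, H⟩`, `p` fundamental, as products. -/
theorem para_decomp (I : BNInput D F η) {i : ℕ} (hi : i < D.rank) {g : GL D.Idx F}
    (hg : g ∈ (Subgroup.closure (upSet D F (D.simple i)) ⊔
      (D.rootSubgroup F (D.simple i) ⊔ D.rootSubgroup F (D.neg (D.simple i)))) ⊔ D.diagonalSubgroup F) :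
    ∃ v ∈ Subgroup.closure (upSet D F (D.simple i)),
      ∃ l ∈ D.rootSubgroup F (D.simple i) ⊔ D.rootSubgroup F (D.neg (D.simple i)),
        ∃ h ∈ D.diagonalSubgroup F, g = v * l * h := by
  have hp := (I.hS ⟨i, hi⟩).1
  have hnp := I.neg_lt hp
  obtain ⟨hnorm, _⟩ := up_normal I.hSD' I.hU I.hNorm I.hcomm i hi (F := F)
  have hH : ∀ h ∈ D.diagonalSubgroup F, ∀ a ∈ Subgroup.closure (upSet D F (D.simple i)) ⊔
      (D.rootSubgroup F (D.simple i) ⊔ D.rootSubgroup F (D.neg (D.simple i))),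
      h * a * h⁻¹ ∈ Subgroup.closure (upSet D F (D.simple i)) ⊔
        (D.rootSubgroup F (D.simple i) ⊔ D.rootSubgroup F (D.neg (D.simple i))) := by
    intro h hh a ha
    have h1 : (Subgroup.closure (upSet D F (D.simple i)) ⊔
        (D.rootSubgroup F (D.simple i) ⊔ D.rootSubgroup F (D.neg (D.simple i)))).map
          (MulAut.conj h).toMonoidHom ≤ Subgroup.closure (upSet D F (D.simple i)) ⊔
        (D.rootSubgroup F (D.simple i) ⊔ D.rootSubgroup F (D.neg (D.simple i))) := by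
      rw [Subgroup.map_sup, Subgroup.map_sup]
      refine sup_le (le_trans ?_ le_sup_left) (sup_le (le_trans ?_ (le_trans le_sup_left le_sup_right))
        (le_trans ?_ (le_trans le_sup_right le_sup_right)))
      · rw [map_conj_le_iff]
        exact fun z hz => diag_conj_up I _ hh hz
      · rw [map_conj_le_iff]
        exact fun z hz => diag_conj_rootSubgroup I hp hh hz
      · rw [map_conj_le_iff]
        exact fun z hz => diag_conj_rootSubgroup I hnp hh hz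
    exact (map_conj_le_iff _ _ h).mp h1 a ha
  obtain ⟨k, hk, h, hh, rfl⟩ := hi_sup_decomp _ _ hH hg
  have hL : ∀ l ∈ D.rootSubgroup F (D.simple i) ⊔ D.rootSubgroup F (D.neg (D.simple i)),
      ∀ a ∈ Subgroup.closure (upSet D F (D.simple i)),
        l * a * l⁻¹ ∈ Subgroup.closure (upSet D F (D.simple i)) := by
    intro l hl a ha
    exact (Subgroup.mem_normalizer_iff.mp (hnorm hl) a).mp ha
  obtain ⟨v, hv, l, hl, rfl⟩ := hi_sup_decomp _ _ hL hk
  exact ⟨v, hv, l, hl, h, hh, rfl⟩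

theorem borel_le_para (I : BNInput D F η) {i : ℕ} (hi : i < D.rank) :
    D.borelSubgroup F ≤ (Subgroup.closure (upSet D F (D.simple i)) ⊔
      (D.rootSubgroup F (D.simple i) ⊔ D.rootSubgroup F (D.neg (D.simple i)))) ⊔ D.diagonalSubgroup F := by
  obtain ⟨_, hU⟩ := up_normal I.hSD' I.hU I.hNorm I.hcomm i hi (F := F)
  unfold ChevalleyDatum.borelSubgroup
  rw [← hU]
  exact sup_le_sup_right (sup_le_sup_left le_sup_left _) _

theorem nGL_mem_para (I : BNInput D F η) {i : ℕ} (hi : i < D.rank) :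
    nGL I.hSD' i ∈ D.rootSubgroup F (D.simple i) ⊔ D.rootSubgroup F (D.neg (D.simple i)) := by
  have hp := (I.hS ⟨i, hi⟩).1
  have hnp := I.neg_lt hp
  unfold nGL
  exact mul_mem (mul_mem (Subgroup.mem_sup_left (xGL_mem_rootSubgroup I hp _))
    (Subgroup.mem_sup_right (xGL_mem_rootSubgroup I hnp _))) (Subgroup.mem_sup_left (xGL_mem_rootSubgroup I hp _))

end Para

section G2

variable {F : Type*} [Field F] {η : ℕ → ℕ → ℤ}

/-- The elements `x_9(a) x_10(b) x_11(c)`. -/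
def g2z (I : BNInput chevG2 F η) (a b c : F) : GL chevG2.Idx F :=
  xGL I.hSD' 9 a * xGL I.hSD' 10 b * xGL I.hSD' 11 c

theorem g2z_def (I : BNInput chevG2 F η) (a b c : F) :
    g2z I a b c = xGL I.hSD' 9 a * xGL I.hSD' 10 b * xGL I.hSD' 11 c := rfl

theorem g2z_zero (I : BNInput chevG2 F η) : g2z I 0 0 0 = 1 := by
  rw [g2z_def, xGL_zero, xGL_zero, xGL_zero, mul_one, mul_one]

theorem g2z_single (I : BNInput chevG2 F η) (a : F) : g2z I a 0 0 = xGL I.hSD' 9 a := by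
  rw [g2z_def, xGL_zero, xGL_zero, mul_one, mul_one]

theorem g2z_coe (I : BNInput chevG2 F η) (a b c : F) :
    ((g2z I a b c : GL chevG2.Idx F) : Matrix chevG2.Idx chevG2.Idx F) =
      ordProd chevG2 F (List.range' 9 3) (fun r => if r = 9 then a else if r = 10 then b else c) := by
  have hL : List.range' 9 3 = [9, 10, 11] := rfl
  rw [hL, ordProd_cons, ordProd_cons, ordProd_cons, ordProd_nil, mul_one, g2z_def, Units.val_mul,
    Units.val_mul, xGL_coe, xGL_coe, xGL_coe, mul_assoc]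
  simp

theorem g2z_inj (I : BNInput chevG2 F η) {a b c a' b' c' : F} (h : g2z I a b c = g2z I a' b' c') :
    a = a' ∧ b = b' ∧ c = c' := by
  have h1 := congrArg (fun g : GL chevG2.Idx F => (g : Matrix chevG2.Idx chevG2.Idx F)) h
  simp only [g2z_coe] at h1
  have key := ordProd_unique I.hSD' I.hU.posOK I.hU.negrev (I.hU.unitF F) 3 9 (by rw [g2_nroots])
    (by rw [g2_nroots]; norm_num) _ _ h1
  refine ⟨?_, ?_, ?_⟩
  · simpa using key 9 (by decide)
  · simpa using key 10 (by decide)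
  · simpa using key 11 (by decide)

theorem g2z_mem_pos (I : BNInput chevG2 F η) (a b c : F) : g2z I a b c ∈ chevG2.posUnipotent F := by
  rw [g2z_def]
  exact mul_mem (mul_mem (x_mem_pos I (g2_lt (by norm_num)) (g2_pos (by norm_num)) (xGL_coe _ _ _))
    (x_mem_pos I (g2_lt (by norm_num)) (g2_pos (by norm_num)) (xGL_coe _ _ _)))
    (x_mem_pos I (g2_lt (by norm_num)) (g2_pos (by norm_num)) (xGL_coe _ _ _))

theorem g2z_leadAt (I : BNInput chevG2 F η) {a : F} (ha : a ≠ 0) (b c : F) :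
    LeadAt chevG2 F (g2z I a b c) 9 := by
  obtain ⟨hgen, hmul⟩ := prodSet_closed' I (m := 9 + 1) (by rw [g2_nroots]; norm_num)
    (by rw [g2_nroots]; norm_num) (F := F)
  refine ⟨g2_pos (by norm_num), g2_lt (by norm_num), a, ha, chevG2.x F 10 b * chevG2.x F 11 c,
    hmul _ _ (hgen 10 b (by norm_num) (g2_lt (by norm_num))) (hgen 11 c (by norm_num) (g2_lt (by norm_num))),
    ?_⟩
  rw [g2z_def, Units.val_mul, Units.val_mul, xGL_coe, xGL_coe, xGL_coe, mul_assoc]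

variable [CharP F 2]

theorem g2_comm (I : BNInput chevG2 F η) {r s : ℕ} (hp : (r, s) ∈ g2Pairs) (a b : F) :
    xGL I.hSD' r a * xGL I.hSD' s b = xGL I.hSD' s b * xGL I.hSD' r a :=
  comm_of_pairsOK I g2_pairsOK hp a b

theorem g2z_mul (I : BNInput chevG2 F η) (a b c a' b' c' : F) :
    g2z I a b c * g2z I a' b' c' = g2z I (a + a') (b + b') (c + c') := by
  rw [g2z_def, g2z_def, g2z_def, xGL_add, xGL_add, xGL_add]
  exact hi_triple_mul _ _ _ _ _ _ (g2_comm I (by decide : (9, 11) ∈ g2Pairs) a' c).symm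
    (g2_comm I (by decide : (10, 11) ∈ g2Pairs) b' c).symm
    (g2_comm I (by decide : (9, 10) ∈ g2Pairs) a' b).symm

theorem g2z_comm (I : BNInput chevG2 F η) (a b c a' b' c' : F) :
    g2z I a b c * g2z I a' b' c' = g2z I a' b' c' * g2z I a b c := by
  rw [g2z_mul, g2z_mul, add_comm a, add_comm b, add_comm c]

theorem g2_conj_8_9 (I : BNInput chevG2 F η) (t u : F) :
    xGL I.hSD' 8 t * xGL I.hSD' 9 u * (xGL I.hSD' 8 t)⁻¹ = xGL I.hSD' 9 u * xGL I.hSD' 11 (t * u) :=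
  xGL_conj_single I (g2_lt (by norm_num)) (g2_lt (by norm_num)) (by decide)
    (by rw [g2_misc.2.2.2.2.2.2.2.1]; decide) g2_terms_8_9 (by decide) t u

theorem g2_conj_7_9 (I : BNInput chevG2 F η) (t u : F) :
    xGL I.hSD' 7 t * xGL I.hSD' 9 u * (xGL I.hSD' 7 t)⁻¹ = xGL I.hSD' 9 u * xGL I.hSD' 10 (t * u) :=
  xGL_conj_single I (g2_lt (by norm_num)) (g2_lt (by norm_num)) (by decide)
    (by rw [g2_misc.2.2.2.2.1]; decide) g2_terms_7_9 (by decide) t u

theorem g2_conj_6_10 (I : BNInput chevG2 F η) (t u : F) :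
    xGL I.hSD' 6 t * xGL I.hSD' 10 u * (xGL I.hSD' 6 t)⁻¹ = xGL I.hSD' 10 u * xGL I.hSD' 11 (t * u) :=
  xGL_conj_single I (g2_lt (by norm_num)) (g2_lt (by norm_num)) (by decide)
    (by rw [g2_misc.2.2.1]; decide) g2_terms_6_10 (by decide) t u

/-- The elements of `U` as ordered products. -/
theorem g2_pos_form (I : BNInput chevG2 F η) {u : GL chevG2.Idx F} (hu : u ∈ chevG2.posUnipotent F) :
    ∃ t6 t7 t8 a b c : F, u = xGL I.hSD' 6 t6 * xGL I.hSD' 7 t7 * xGL I.hSD' 8 t8 * g2z I a b c := by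
  obtain ⟨τ, hτ⟩ := posUnipotent_mem_prodSet I.hSD' I.hU I.hcomm hu
  have hL : List.range' (chevG2.nroots / 2) (chevG2.nroots / 2) = [6, 7, 8, 9, 10, 11] := by
    rw [g2_nroots]
    rfl
  rw [hL, ordProd_cons, ordProd_cons, ordProd_cons, ordProd_cons, ordProd_cons, ordProd_cons, ordProd_nil,
    mul_one] at hτ
  refine ⟨τ 6, τ 7, τ 8, τ 9, τ 10, τ 11, Units.ext ?_⟩
  rw [hτ, g2z_def]
  simp only [Units.val_mul, xGL_coe, mul_assoc]

/-- Conjugation of `x_9(χ)` by an element of `U`. -/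
theorem g2_conjA (I : BNInput chevG2 F η) (t6 t7 t8 a b c χ : F) :
    (xGL I.hSD' 6 t6 * xGL I.hSD' 7 t7 * xGL I.hSD' 8 t8 * g2z I a b c) * xGL I.hSD' 9 χ *
        (xGL I.hSD' 6 t6 * xGL I.hSD' 7 t7 * xGL I.hSD' 8 t8 * g2z I a b c)⁻¹ =
      g2z I χ (t7 * χ) (t6 * (t7 * χ) + t8 * χ) := by
  have hz : g2z I a b c * xGL I.hSD' 9 χ * (g2z I a b c)⁻¹ = xGL I.hSD' 9 χ := by
    apply hi_conj_of_comm
    rw [← g2z_single I χ]
    exact g2z_comm I _ _ _ _ _ _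
  have h7' : ∀ e : F, xGL I.hSD' 7 t7 * xGL I.hSD' 11 e * (xGL I.hSD' 7 t7)⁻¹ = xGL I.hSD' 11 e :=
    fun e => hi_conj_of_comm (g2_comm I (by decide : (7, 11) ∈ g2Pairs) t7 e)
  have h6 : xGL I.hSD' 6 t6 * xGL I.hSD' 9 χ * (xGL I.hSD' 6 t6)⁻¹ = xGL I.hSD' 9 χ :=
    hi_conj_of_comm (g2_comm I (by decide : (6, 9) ∈ g2Pairs) t6 χ)
  have h6'' : ∀ e : F, xGL I.hSD' 6 t6 * xGL I.hSD' 11 e * (xGL I.hSD' 6 t6)⁻¹ = xGL I.hSD' 11 e :=
    fun e => hi_conj_of_comm (g2_comm I (by decide : (6, 11) ∈ g2Pairs) t6 e)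
  calc (xGL I.hSD' 6 t6 * xGL I.hSD' 7 t7 * xGL I.hSD' 8 t8 * g2z I a b c) * xGL I.hSD' 9 χ *
        (xGL I.hSD' 6 t6 * xGL I.hSD' 7 t7 * xGL I.hSD' 8 t8 * g2z I a b c)⁻¹
      = xGL I.hSD' 6 t6 * (xGL I.hSD' 7 t7 * (xGL I.hSD' 8 t8 *
          (g2z I a b c * xGL I.hSD' 9 χ * (g2z I a b c)⁻¹) * (xGL I.hSD' 8 t8)⁻¹) *
            (xGL I.hSD' 7 t7)⁻¹) * (xGL I.hSD' 6 t6)⁻¹ := by group
    _ = xGL I.hSD' 6 t6 * (xGL I.hSD' 7 t7 * (xGL I.hSD' 9 χ * xGL I.hSD' 11 (t8 * χ)) *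
            (xGL I.hSD' 7 t7)⁻¹) * (xGL I.hSD' 6 t6)⁻¹ := by rw [hz, g2_conj_8_9 I]
    _ = xGL I.hSD' 6 t6 * ((xGL I.hSD' 7 t7 * xGL I.hSD' 9 χ * (xGL I.hSD' 7 t7)⁻¹) *
          (xGL I.hSD' 7 t7 * xGL I.hSD' 11 (t8 * χ) * (xGL I.hSD' 7 t7)⁻¹)) * (xGL I.hSD' 6 t6)⁻¹ := by
        group
    _ = xGL I.hSD' 6 t6 * ((xGL I.hSD' 9 χ * xGL I.hSD' 10 (t7 * χ)) * xGL I.hSD' 11 (t8 * χ)) *
          (xGL I.hSD' 6 t6)⁻¹ := by rw [g2_conj_7_9 I, h7']
    _ = (xGL I.hSD' 6 t6 * xGL I.hSD' 9 χ * (xGL I.hSD' 6 t6)⁻¹) *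
          (xGL I.hSD' 6 t6 * xGL I.hSD' 10 (t7 * χ) * (xGL I.hSD' 6 t6)⁻¹) *
            (xGL I.hSD' 6 t6 * xGL I.hSD' 11 (t8 * χ) * (xGL I.hSD' 6 t6)⁻¹) := by group
    _ = xGL I.hSD' 9 χ * (xGL I.hSD' 10 (t7 * χ) * xGL I.hSD' 11 (t6 * (t7 * χ))) *
          xGL I.hSD' 11 (t8 * χ) := by rw [h6, g2_conj_6_10 I, h6'']
    _ = g2z I χ (t7 * χ) (t6 * (t7 * χ) + t8 * χ) := by
        rw [g2z_def, xGL_add]
        group

/-- An element of `N` conjugating an element `x_9(a₂) x_10(b₂) x_11(c₂)` to such an element with `a₁ ≠ 0`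
maps one of the roots `9`, `10`, `11` to the root `9`. -/
theorem g2_core (C : ChevFacts chevG2 F η) {n : GL chevG2.Idx F} {π π' : ℕ → ℕ} {c c' : ℕ → F}
    (hπ : RootAct chevG2 F (n : Matrix chevG2.Idx chevG2.Idx F) π c)
    (hπ' : RootAct chevG2 F ((n⁻¹ : GL chevG2.Idx F) : Matrix chevG2.Idx chevG2.Idx F) π' c')
    {a₂ b₂ c₂ a₁ b₁ c₁ : F} (ha₁ : a₁ ≠ 0)
    (h : n * g2z C.I a₂ b₂ c₂ * n⁻¹ = g2z C.I a₁ b₁ c₁) :
    π 9 = 9 ∨ π 10 = 9 ∨ π 11 = 9 := by
  have key : ∀ s, s < 12 → ∀ t : F, n * xGL C.I.hSD' s t * n⁻¹ = xGL C.I.hSD' (π s) (c s * t) :=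
    fun s hs t => Units.ext (rootAct_conj hπ (g2_lt hs) (xGL_coe C.I.hSD' s t))
  have hlt : ∀ s, s < 12 → π s < chevG2.nroots := fun s hs => (hπ s (g2_lt hs)).1
  have hA : ∀ x y z : F, n * g2z C.I x y z * n⁻¹ = xGL C.I.hSD' (π 9) (c 9 * x) *
      (xGL C.I.hSD' (π 10) (c 10 * y) * (xGL C.I.hSD' (π 11) (c 11 * z) * 1)) := by
    intro x y z
    rw [g2z_def, ← key 9 (by norm_num) x, ← key 10 (by norm_num) y, ← key 11 (by norm_num) z]
    group
  have hP : ∀ s, s < 12 → ∀ t : F, (chevG2.nroots / 2 ≤ π s ∨ t = 0) →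
      xGL C.I.hSD' (π s) (c s * t) ∈ chevG2.posUnipotent F := by
    intro s hs t ht
    rcases ht with ht | ht
    · exact x_mem_pos C.I (hlt s hs) ht (xGL_coe _ _ _)
    · rw [ht, mul_zero, xGL_zero]
      exact one_mem _
  have hM : ∀ s, s < 12 → ∀ t : F, (π s < chevG2.nroots / 2 ∨ t = 0) →
      xGL C.I.hSD' (π s) (c s * t) ∈ chevG2.negUnipotent F := by
    intro s hs t ht
    rcases ht with ht | ht
    · exact x_mem_neg C.I C.hpn (hlt s hs) ht (xGL_coe _ _ _)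
    · rw [ht, mul_zero, xGL_zero]
      exact one_mem _
  have hsplit : g2z C.I a₂ b₂ c₂ =
      g2z C.I (if chevG2.nroots / 2 ≤ π 9 then a₂ else 0) (if chevG2.nroots / 2 ≤ π 10 then b₂ else 0)
          (if chevG2.nroots / 2 ≤ π 11 then c₂ else 0) *
        g2z C.I (if chevG2.nroots / 2 ≤ π 9 then 0 else a₂) (if chevG2.nroots / 2 ≤ π 10 then 0 else b₂)
          (if chevG2.nroots / 2 ≤ π 11 then 0 else c₂) := by
    rw [g2z_mul]
    congr 1 <;> split_ifs <;> simp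
  have hPU : n * g2z C.I (if chevG2.nroots / 2 ≤ π 9 then a₂ else 0)
      (if chevG2.nroots / 2 ≤ π 10 then b₂ else 0) (if chevG2.nroots / 2 ≤ π 11 then c₂ else 0) * n⁻¹ ∈
      chevG2.posUnipotent F := by
    rw [hA]
    refine mul_mem (hP 9 (by norm_num) _ ?_) (mul_mem (hP 10 (by norm_num) _ ?_)
      (mul_mem (hP 11 (by norm_num) _ ?_) (one_mem _)))
    · split_ifs with hh
      · exact Or.inl hh
      · exact Or.inr rfl
    · split_ifs with hh
      · exact Or.inl hh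
      · exact Or.inr rfl
    · split_ifs with hh
      · exact Or.inl hh
      · exact Or.inr rfl
  have hMV : n * g2z C.I (if chevG2.nroots / 2 ≤ π 9 then 0 else a₂)
      (if chevG2.nroots / 2 ≤ π 10 then 0 else b₂) (if chevG2.nroots / 2 ≤ π 11 then 0 else c₂) * n⁻¹ ∈
      chevG2.negUnipotent F := by
    rw [hA]
    refine mul_mem (hM 9 (by norm_num) _ ?_) (mul_mem (hM 10 (by norm_num) _ ?_)
      (mul_mem (hM 11 (by norm_num) _ ?_) (one_mem _)))
    · split_ifs with hh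
      · exact Or.inr rfl
      · exact Or.inl (by omega)
    · split_ifs with hh
      · exact Or.inr rfl
      · exact Or.inl (by omega)
    · split_ifs with hh
      · exact Or.inr rfl
      · exact Or.inl (by omega)
  have hW : n * g2z C.I (if chevG2.nroots / 2 ≤ π 9 then 0 else a₂)
      (if chevG2.nroots / 2 ≤ π 10 then 0 else b₂) (if chevG2.nroots / 2 ≤ π 11 then 0 else c₂) * n⁻¹ =
      (n * g2z C.I (if chevG2.nroots / 2 ≤ π 9 then a₂ else 0)
        (if chevG2.nroots / 2 ≤ π 10 then b₂ else 0) (if chevG2.nroots / 2 ≤ π 11 then c₂ else 0) * n⁻¹)⁻¹ *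
        g2z C.I a₁ b₁ c₁ := by
    rw [← h, hsplit]
    group
  have hW1 := borel_inf_neg C.I C.hN (by
    rw [hW]
    exact Subgroup.mem_sup_left (mul_mem (inv_mem hPU) (g2z_mem_pos C.I _ _ _))) hMV
  have hm1 : g2z C.I (if chevG2.nroots / 2 ≤ π 9 then 0 else a₂)
      (if chevG2.nroots / 2 ≤ π 10 then 0 else b₂) (if chevG2.nroots / 2 ≤ π 11 then 0 else c₂) =
      g2z C.I 0 0 0 := by
    rw [g2z_zero]
    calc g2z C.I (if chevG2.nroots / 2 ≤ π 9 then 0 else a₂)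
          (if chevG2.nroots / 2 ≤ π 10 then 0 else b₂) (if chevG2.nroots / 2 ≤ π 11 then 0 else c₂)
        = n⁻¹ * (n * g2z C.I (if chevG2.nroots / 2 ≤ π 9 then 0 else a₂)
          (if chevG2.nroots / 2 ≤ π 10 then 0 else b₂) (if chevG2.nroots / 2 ≤ π 11 then 0 else c₂) * n⁻¹) *
            n := by group
      _ = 1 := by
        rw [hW1]
        group
  obtain ⟨h9, h10, h11⟩ := g2z_inj C.I hm1
  have q9 : c 9 * a₂ = 0 ∨ chevG2.nroots / 2 ≤ π 9 := by
    by_cases hh : chevG2.nroots / 2 ≤ π 9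
    · exact Or.inr hh
    · rw [if_neg hh] at h9
      rw [h9, mul_zero]
      exact Or.inl rfl
  have q10 : c 10 * b₂ = 0 ∨ chevG2.nroots / 2 ≤ π 10 := by
    by_cases hh : chevG2.nroots / 2 ≤ π 10
    · exact Or.inr hh
    · rw [if_neg hh] at h10
      rw [h10, mul_zero]
      exact Or.inl rfl
  have q11 : c 11 * c₂ = 0 ∨ chevG2.nroots / 2 ≤ π 11 := by
    by_cases hh : chevG2.nroots / 2 ≤ π 11
    · exact Or.inr hh
    · rw [if_neg hh] at h11
      rw [h11, mul_zero]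
      exact Or.inl rfl
  have hinv : ∀ s, s < 12 → π' (π s) = s := fun s hs => rootAct_inv_comp C.I hπ hπ' (g2_lt hs)
  have n910 : π 9 ≠ π 10 := by
    intro e
    have := hinv 9 (by norm_num)
    rw [e, hinv 10 (by norm_num)] at this
    omega
  have n911 : π 9 ≠ π 11 := by
    intro e
    have := hinv 9 (by norm_num)
    rw [e, hinv 11 (by norm_num)] at this
    omega
  have n1011 : π 10 ≠ π 11 := by
    intro e
    have := hinv 10 (by norm_num)
    rw [e, hinv 11 (by norm_num)] at this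
    omega
  have c1011 : xGL C.I.hSD' (π 10) (c 10 * b₂) * (xGL C.I.hSD' (π 11) (c 11 * c₂) * 1) =
      (xGL C.I.hSD' (π 11) (c 11 * c₂) * 1) * xGL C.I.hSD' (π 10) (c 10 * b₂) := by
    rw [mul_one, ← key 10 (by norm_num) b₂, ← key 11 (by norm_num) c₂]
    exact hi_conj_comm n (g2_comm C.I (by decide : (10, 11) ∈ g2Pairs) b₂ c₂)
  have c9 : xGL C.I.hSD' (π 9) (c 9 * a₂) *
        (xGL C.I.hSD' (π 10) (c 10 * b₂) * (xGL C.I.hSD' (π 11) (c 11 * c₂) * 1)) =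
      (xGL C.I.hSD' (π 10) (c 10 * b₂) * (xGL C.I.hSD' (π 11) (c 11 * c₂) * 1)) *
        xGL C.I.hSD' (π 9) (c 9 * a₂) := by
    rw [mul_one, ← key 9 (by norm_num) a₂, ← key 10 (by norm_num) b₂, ← key 11 (by norm_num) c₂]
    have e : (n * xGL C.I.hSD' 10 b₂ * n⁻¹) * (n * xGL C.I.hSD' 11 c₂ * n⁻¹) =
        n * (xGL C.I.hSD' 10 b₂ * xGL C.I.hSD' 11 c₂) * n⁻¹ := by group
    rw [e]
    apply hi_conj_comm n
    have e1 : xGL C.I.hSD' 9 a₂ = g2z C.I a₂ 0 0 := (g2z_single C.I a₂).symm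
    have e2 : xGL C.I.hSD' 10 b₂ * xGL C.I.hSD' 11 c₂ = g2z C.I 0 b₂ c₂ := by
      rw [g2z_def, xGL_zero, one_mul]
    rw [e1, e2]
    exact g2z_comm C.I _ _ _ _ _ _
  have L11 := leadIn_mul C.I (hlt 11 (by norm_num)) q11 (M := ∅) (Set.notMem_empty _)
    (by rw [mul_one, one_mul]) (leadIn_one ∅)
  have L10 := leadIn_mul C.I (hlt 10 (by norm_num)) q10 (by
    rw [Set.mem_insert_iff]
    rintro (e | e)
    · exact n1011 e
    · exact absurd e (Set.notMem_empty _)) c1011 L11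
  have L9 := leadIn_mul C.I (hlt 9 (by norm_num)) q9 (by
    rw [Set.mem_insert_iff, Set.mem_insert_iff]
    rintro (e | e | e)
    · exact n910 e
    · exact n911 e
    · exact absurd e (Set.notMem_empty _)) c9 L10
  rw [← hA, h] at L9
  have hl := g2z_leadAt C.I ha₁ b₁ c₁
  rcases L9 with h1 | ⟨m, hm, hlm⟩
  · exact absurd h1 (leadAt_ne_one C.I hl)
  · have hm9 := leadAt_unique C.I hlm hl
    rw [hm9, Set.mem_insert_iff, Set.mem_insert_iff, Set.mem_insert_iff] at hm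
    rcases hm with e | e | e | e
    · exact Or.inl e.symm
    · exact Or.inr (Or.inl e.symm)
    · exact Or.inr (Or.inr e.symm)
    · exact absurd e (Set.notMem_empty _)

/-- An element of `N` mapping one of the roots `9`, `10`, `11` to `9` lies in `H` or in `H n_b⁻¹`. -/
theorem g2_mono_fix (C : ChevFacts chevG2 F η) {n : GL chevG2.Idx F} (hn : n ∈ chevG2.monomialSubgroup F)
    {π : ℕ → ℕ} {c : ℕ → F} (hπ : RootAct chevG2 F (n : Matrix chevG2.Idx chevG2.Idx F) π c)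
    (h : π 9 = 9 ∨ π 10 = 9 ∨ π 11 = 9) :
    n ∈ chevG2.diagonalSubgroup F ∨ n * nGL C.I.hSD' 1 ∈ chevG2.diagonalSubgroup F := by
  obtain ⟨π₀, c₀, w, hπ₀, hw, he⟩ := rootAct_word C.I hn
  have hππ : ∀ s, s < 12 → π s = π₀ s := fun s hs => (rootAct_unique C.I hπ hπ₀ (g2_lt hs)).1
  rw [hππ 9 (by norm_num), hππ 10 (by norm_num), hππ 11 (by norm_num)] at h
  have ht := tup_of_ok g2_tupOK w (by rw [g2_rank]; exact hw)
  have hp := List.all_eq_true.mp g2_orb_prop _ ht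
  simp only [List.map_cons, List.map_nil, ← he] at hp
  simp only [Bool.and_eq_true, Bool.or_eq_true, bne_iff_ne, beq_iff_eq, List.getD_cons_succ,
    List.getD_cons_zero, List.cons.injEq, and_true] at hp
  obtain ⟨hp1, hp2, hp3⟩ := hp
  have h9 : π₀ 9 = 9 := by
    rcases h with h | h | h
    · exact h
    · exact absurd h hp2
    · exact absurd h hp3
  rcases hp1 with hp1 | hp1 | hp1
  · exact absurd h9 hp1
  · -- the trivial coset
    left
    apply C.mono_pos_mem_diag n hn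
    intro π'' c'' h'' s hs hpos
    have hs12 : s < 12 := by rw [g2_nroots] at hs; exact hs
    have hs6 : 6 ≤ s := by rw [g2_nroots] at hpos; exact hpos
    have hfix : π₀ s = s := by
      obtain ⟨e6, e7, e8, e9, e10, e11⟩ := hp1
      interval_cases s <;> assumption
    have := rootAct_inv_comp C.I hπ₀ h'' hs
    rw [hfix] at this
    rw [this]
    exact hpos
  · -- the coset of `n_b`
    right
    obtain ⟨e6, e7, e8, e9, e10, e11⟩ := hp1
    obtain ⟨r6, r7, r8, r9, r10, r11⟩ := g2_refl1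
    have hi : 1 < chevG2.rank := by rw [g2_rank]; norm_num
    have hm : n * nGL C.I.hSD' 1 ∈ chevG2.monomialSubgroup F := mul_mem hn (nGL_mem C.I hi)
    have hact := hπ₀.mul (rootAct_nGL C.I hi)
    rw [← Units.val_mul] at hact
    have e5 : π₀ 5 = 6 := by
      have := (hπ₀ 6 (g2_lt (by norm_num))).2.1
      rw [g2_misc.2.2.1, e6, g2_misc.2.2.2.1] at this
      exact this
    apply C.mono_pos_mem_diag _ hm
    intro π'' c'' h'' s hs hpos
    have hs12 : s < 12 := by rw [g2_nroots] at hs; exact hs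
    have hs6 : 6 ≤ s := by rw [g2_nroots] at hpos; exact hpos
    have hfix : π₀ (chevG2.reflectRoot 1 s) = s := by
      interval_cases s
      · rw [r6, e5]
      · rw [r7, e8]
      · rw [r8, e7]
      · rw [r9, e9]
      · rw [r10, e11]
      · rw [r11, e10]
    have := rootAct_inv_comp C.I hact h'' hs
    rw [hfix] at this
    rw [this]
    exact hpos

/-- The conjugates of `x_9(1)` under `B`. -/
theorem g2_borel_conj (I : BNInput chevG2 F η) {b : GL chevG2.Idx F} (hb : b ∈ chevG2.borelSubgroup F) :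
    ∃ x y z : F, x ≠ 0 ∧ b * xGL I.hSD' 9 1 * b⁻¹ = g2z I x y z := by
  obtain ⟨u, hu, h, hh, rfl⟩ := borel_decomp I hb
  obtain ⟨χ, hχ⟩ := rootAct_diag I hh
  have e1 : h * xGL I.hSD' 9 1 * h⁻¹ = xGL I.hSD' 9 (χ 9 * 1) :=
    Units.ext (rootAct_conj hχ (g2_lt (by norm_num)) (xGL_coe I.hSD' 9 1))
  obtain ⟨t6, t7, t8, a, b, c, rfl⟩ := g2_pos_form I hu
  refine ⟨χ 9 * 1, t7 * (χ 9 * 1), t6 * (t7 * (χ 9 * 1)) + t8 * (χ 9 * 1), ?_, ?_⟩
  · rw [mul_one]
    exact rootAct_ne_zero' I hχ (g2_lt (by norm_num))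
  · calc (xGL I.hSD' 6 t6 * xGL I.hSD' 7 t7 * xGL I.hSD' 8 t8 * g2z I a b c * h) * xGL I.hSD' 9 1 *
          (xGL I.hSD' 6 t6 * xGL I.hSD' 7 t7 * xGL I.hSD' 8 t8 * g2z I a b c * h)⁻¹
        = (xGL I.hSD' 6 t6 * xGL I.hSD' 7 t7 * xGL I.hSD' 8 t8 * g2z I a b c) *
            (h * xGL I.hSD' 9 1 * h⁻¹) *
          (xGL I.hSD' 6 t6 * xGL I.hSD' 7 t7 * xGL I.hSD' 8 t8 * g2z I a b c)⁻¹ := by group
      _ = (xGL I.hSD' 6 t6 * xGL I.hSD' 7 t7 * xGL I.hSD' 8 t8 * g2z I a b c) *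
            xGL I.hSD' 9 (χ 9 * 1) *
          (xGL I.hSD' 6 t6 * xGL I.hSD' 7 t7 * xGL I.hSD' 8 t8 * g2z I a b c)⁻¹ := by rw [e1]
      _ = _ := g2_conjA I t6 t7 t8 a b c (χ 9 * 1)

theorem g2_root_cent (I : BNInput chevG2 F η) {s : ℕ} (hs : s < 12) (hp : (9, s) ∈ g2Pairs) (χ : F) :
    chevG2.rootSubgroup F s ≤ Subgroup.centralizer {xGL I.hSD' 9 χ} := by
  intro y hy
  rw [mem_rootSubgroup_iff I (g2_lt hs)] at hy
  obtain ⟨t, rfl⟩ := hy
  rw [Subgroup.mem_centralizer_iff]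
  intro z hz
  rw [Set.mem_singleton_iff] at hz
  subst hz
  exact g2_comm I hp χ t

theorem g2_root9_cent (I : BNInput chevG2 F η) (χ : F) :
    chevG2.rootSubgroup F 9 ≤ Subgroup.centralizer {xGL I.hSD' 9 χ} := by
  intro y hy
  rw [mem_rootSubgroup_iff I (g2_lt (by norm_num))] at hy
  obtain ⟨t, rfl⟩ := hy
  rw [Subgroup.mem_centralizer_iff]
  intro z hz
  rw [Set.mem_singleton_iff] at hz
  subst hz
  rw [← xGL_add, ← xGL_add, add_comm]

/-- The centraliser of `x_{2a+b}(1)` in `G₂(F)`, `F` of characteristic two. -/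
theorem g2_centralizer_short (C : ChevFacts chevG2 F η) :
    chevG2.group F ⊓ Subgroup.centralizer {xGL C.I.hSD' 9 (1 : F)} =
      chevG2.rootSubgroup F 9 ⊔ chevG2.rootSubgroup F 10 ⊔ chevG2.rootSubgroup F 11 ⊔
        chevG2.rootSubgroup F 6 ⊔ chevG2.rootSubgroup F 5 := by
  have h9 : chevG2.rootSubgroup F 9 ≤ chevG2.rootSubgroup F 9 ⊔ chevG2.rootSubgroup F 10 ⊔
      chevG2.rootSubgroup F 11 ⊔ chevG2.rootSubgroup F 6 ⊔ chevG2.rootSubgroup F 5 :=
    le_trans (le_trans (le_trans le_sup_left le_sup_left) le_sup_left) le_sup_left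
  have h10 : chevG2.rootSubgroup F 10 ≤ chevG2.rootSubgroup F 9 ⊔ chevG2.rootSubgroup F 10 ⊔
      chevG2.rootSubgroup F 11 ⊔ chevG2.rootSubgroup F 6 ⊔ chevG2.rootSubgroup F 5 :=
    le_trans (le_trans (le_trans le_sup_right le_sup_left) le_sup_left) le_sup_left
  have h11 : chevG2.rootSubgroup F 11 ≤ chevG2.rootSubgroup F 9 ⊔ chevG2.rootSubgroup F 10 ⊔
      chevG2.rootSubgroup F 11 ⊔ chevG2.rootSubgroup F 6 ⊔ chevG2.rootSubgroup F 5 :=
    le_trans (le_trans le_sup_right le_sup_left) le_sup_left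
  have h6 : chevG2.rootSubgroup F 6 ≤ chevG2.rootSubgroup F 9 ⊔ chevG2.rootSubgroup F 10 ⊔
      chevG2.rootSubgroup F 11 ⊔ chevG2.rootSubgroup F 6 ⊔ chevG2.rootSubgroup F 5 :=
    le_trans le_sup_right le_sup_left
  have h5 : chevG2.rootSubgroup F 5 ≤ chevG2.rootSubgroup F 9 ⊔ chevG2.rootSubgroup F 10 ⊔
      chevG2.rootSubgroup F 11 ⊔ chevG2.rootSubgroup F 6 ⊔ chevG2.rootSubgroup F 5 := le_sup_right
  have hx : ∀ s, s < 12 → chevG2.rootSubgroup F s ≤ chevG2.rootSubgroup F 9 ⊔ chevG2.rootSubgroup F 10 ⊔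
      chevG2.rootSubgroup F 11 ⊔ chevG2.rootSubgroup F 6 ⊔ chevG2.rootSubgroup F 5 → ∀ t : F,
      xGL C.I.hSD' s t ∈ chevG2.rootSubgroup F 9 ⊔ chevG2.rootSubgroup F 10 ⊔
        chevG2.rootSubgroup F 11 ⊔ chevG2.rootSubgroup F 6 ⊔ chevG2.rootSubgroup F 5 :=
    fun s hs hle t => hle (xGL_mem_rootSubgroup C.I (g2_lt hs) t)
  apply le_antisymm
  · rintro g ⟨hgG, hgC⟩
    have hc : g * xGL C.I.hSD' 9 1 = xGL C.I.hSD' 9 1 * g :=
      ((Subgroup.mem_centralizer_iff.mp hgC) _ rfl).symm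
    have hgG' : g ∈ chevG2.group F := hgG
    obtain ⟨b₁, hb₁, n, hn, b₂, hb₂, rfl⟩ := bruhat C.I C.hG hgG'
    obtain ⟨a₂, y₂, z₂, ha₂, e₂⟩ := g2_borel_conj C.I hb₂
    obtain ⟨a₁, y₁, z₁, ha₁, e₁⟩ := g2_borel_conj C.I (inv_mem hb₁)
    rw [inv_inv] at e₁
    have key : n * g2z C.I a₂ y₂ z₂ * n⁻¹ = g2z C.I a₁ y₁ z₁ := by
      rw [← e₂, ← e₁]
      calc n * (b₂ * xGL C.I.hSD' 9 1 * b₂⁻¹) * n⁻¹
          = b₁⁻¹ * (b₁ * n * b₂ * xGL C.I.hSD' 9 1) * b₂⁻¹ * n⁻¹ := by group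
        _ = b₁⁻¹ * (xGL C.I.hSD' 9 1 * (b₁ * n * b₂)) * b₂⁻¹ * n⁻¹ := by rw [hc]
        _ = b₁⁻¹ * xGL C.I.hSD' 9 1 * b₁ := by group
    obtain ⟨π, c, hπ⟩ := rootAct_of_mem_monomial C.I hn
    obtain ⟨π', c', hπ'⟩ := rootAct_of_mem_monomial C.I (inv_mem hn)
    have hcls := g2_mono_fix C hn hπ (g2_core C hπ hπ' ha₁ key)
    have hi : 1 < chevG2.rank := by rw [g2_rank]; norm_num
    have hBP := borel_le_para C.I hi (F := F)
    have hnP := nGL_mem_para C.I hi (F := F)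
    have hnP' : n ∈ (Subgroup.closure (upSet chevG2 F (chevG2.simple 1)) ⊔
        (chevG2.rootSubgroup F (chevG2.simple 1) ⊔ chevG2.rootSubgroup F (chevG2.neg (chevG2.simple 1)))) ⊔
        chevG2.diagonalSubgroup F := by
      rcases hcls with h | h
      · exact Subgroup.mem_sup_right h
      · have e : n = (n * nGL C.I.hSD' 1) * (nGL C.I.hSD' 1)⁻¹ := by group
        rw [e]
        exact mul_mem (Subgroup.mem_sup_right h)
          (inv_mem (Subgroup.mem_sup_left (Subgroup.mem_sup_right hnP)))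
    obtain ⟨v, hv, l, hl, h, hh, e⟩ := para_decomp C.I hi (mul_mem (mul_mem (hBP hb₁) hnP') (hBP hb₂))
    rw [e] at hc ⊢
    rw [g2_misc.2.1, g2_misc.2.2.1] at hl
    -- `l` centralises `X_9`
    have hlc : ∀ χ : F, l * xGL C.I.hSD' 9 χ * l⁻¹ = xGL C.I.hSD' 9 χ := by
      intro χ
      have h1 : chevG2.rootSubgroup F 6 ⊔ chevG2.rootSubgroup F 5 ≤
          Subgroup.centralizer {xGL C.I.hSD' 9 χ} :=
        sup_le (g2_root_cent C.I (by norm_num) (by decide) χ) (g2_root_cent C.I (by norm_num) (by decide) χ)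
      have h2 := (Subgroup.mem_centralizer_iff.mp (h1 hl)) _ rfl
      rw [← h2, mul_inv_cancel_right]
    -- the torus part
    have hh' := hh
    rw [diagonalSubgroup_eq_torus C.I.hS C.I.hSD', torus_eq_range] at hh'
    obtain ⟨cc, rfl⟩ := hh'
    have hk : 0 < chevG2.rank := by rw [g2_rank]; norm_num
    have hcart : ∀ i, i < chevG2.rank → cartanZ chevG2 i 9 = if i = 0 then 1 else 0 := by
      intro i hi'
      rw [g2_rank] at hi'
      interval_cases i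
      · exact g2_misc.2.2.2.2.2.1
      · exact g2_misc.2.2.2.2.2.2.1
    have e2 : torusHom chevG2 F cc * xGL C.I.hSD' 9 1 * (torusHom chevG2 F cc)⁻¹ =
        xGL C.I.hSD' 9 (cc ⟨0, hk⟩ : F) := by
      have := rootAct_conj (hi_rootAct_torusHom C.I cc) (g2_lt (by norm_num)) (xGL_coe C.I.hSD' 9 (1 : F))
      rw [mul_one, torusChar_of_cartan hk hcart] at this
      exact Units.ext this
    -- the unipotent part
    obtain ⟨t6, t7, t8, a, b, c₀, rfl⟩ := g2_pos_form C.I (upSet_le_pos _ hv)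
    have hmain : g2z C.I (cc ⟨0, hk⟩ : F) (t7 * (cc ⟨0, hk⟩ : F))
        (t6 * (t7 * (cc ⟨0, hk⟩ : F)) + t8 * (cc ⟨0, hk⟩ : F)) = g2z C.I 1 0 0 := by
      rw [← g2_conjA C.I t6 t7 t8 a b c₀, g2z_single, ← hlc, ← e2]
      calc xGL C.I.hSD' 6 t6 * xGL C.I.hSD' 7 t7 * xGL C.I.hSD' 8 t8 * g2z C.I a b c₀ *
            (l * (torusHom chevG2 F cc * xGL C.I.hSD' 9 1 * (torusHom chevG2 F cc)⁻¹) * l⁻¹) *
            (xGL C.I.hSD' 6 t6 * xGL C.I.hSD' 7 t7 * xGL C.I.hSD' 8 t8 * g2z C.I a b c₀)⁻¹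
          = (xGL C.I.hSD' 6 t6 * xGL C.I.hSD' 7 t7 * xGL C.I.hSD' 8 t8 * g2z C.I a b c₀ * l *
              torusHom chevG2 F cc * xGL C.I.hSD' 9 1) *
            (xGL C.I.hSD' 6 t6 * xGL C.I.hSD' 7 t7 * xGL C.I.hSD' 8 t8 * g2z C.I a b c₀ * l *
              torusHom chevG2 F cc)⁻¹ := by group
        _ = xGL C.I.hSD' 9 1 := by
          rw [hc]
          group
    obtain ⟨m1, m2, m3⟩ := g2z_inj C.I hmain
    have hck : cc ⟨0, hk⟩ = 1 := Units.ext m1
    rw [m1, mul_one] at m2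
    simp only [m2, m1, mul_one, mul_zero, zero_add] at m3
    rw [m2, m3, xGL_zero, xGL_zero, mul_one, mul_one]
    refine mul_mem (mul_mem (mul_mem (hx 6 (by norm_num) h6 t6) ?_) ?_) ?_
    · rw [g2z_def]
      exact mul_mem (mul_mem (hx 9 (by norm_num) h9 a) (hx 10 (by norm_num) h10 b))
        (hx 11 (by norm_num) h11 c₀)
    · exact (sup_le h6 h5) hl
    · apply torusHom_mem_of_rk C.I hk _ _ cc hck
      intro i hi' hi0 t
      rw [g2_rank] at hi'
      have hi1 : i = 1 := by omega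
      subst hi1
      rw [g2_misc.2.1, g2_misc.2.2.1]
      exact ⟨hx 6 (by norm_num) h6 t, hx 5 (by norm_num) h5 t⟩
  · refine le_inf ?_ ?_
    · exact sup_le (sup_le (sup_le (sup_le (rootSubgroup_le_group' chevG2 F (g2_lt (by norm_num)))
        (rootSubgroup_le_group' chevG2 F (g2_lt (by norm_num))))
        (rootSubgroup_le_group' chevG2 F (g2_lt (by norm_num))))
        (rootSubgroup_le_group' chevG2 F (g2_lt (by norm_num))))
        (rootSubgroup_le_group' chevG2 F (g2_lt (by norm_num)))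
    · exact sup_le (sup_le (sup_le (sup_le (g2_root9_cent C.I 1)
        (g2_root_cent C.I (by norm_num) (by decide) 1))
        (g2_root_cent C.I (by norm_num) (by decide) 1))
        (g2_root_cent C.I (by norm_num) (by decide) 1))
        (g2_root_cent C.I (by norm_num) (by decide) 1)

end G2

end Cfsg.Agent.Lib.helper22
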