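/-
helper22: products of commuting root elements of a Chevalley group: leading terms, coordinates in an abelian final
segment of the positive roots, and the action of the elements of `N` on the supports.
-/
import Cfsg.Agent.Lib.helper22.ChevG2Inv

set_option autoImplicit false

namespace Cfsg.Agent.Lib.helper22

open Cfsg.Lie

section Supp

variable {D : ChevalleyDatum} {F : Type*} [Field F] {η : ℕ → ℕ → ℤ}

/-- The product of the root elements of a word. -/
def wprod (hSD : ∀ r : Fin D.nroots, Nonempty (StringData D r)) (w : List (ℕ × F)) : GL D.Idx F :=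
  (w.map fun p => xGL hSD p.1 p.2).prod

theorem wprod_nil (hSD : ∀ r : Fin D.nroots, Nonempty (StringData D r)) :
    wprod hSD ([] : List (ℕ × F)) = 1 := rfl

theorem wprod_cons (hSD : ∀ r : Fin D.nroots, Nonempty (StringData D r)) (p : ℕ × F) (w : List (ℕ × F)) :
    wprod hSD (p :: w) = xGL hSD p.1 p.2 * wprod hSD w := by
  unfold wprod
  rw [List.map_cons, List.prod_cons]

theorem wprod_mem (hSD : ∀ r : Fin D.nroots, Nonempty (StringData D r)) (K : Subgroup (GL D.Idx F))
    {w : List (ℕ × F)} (h : ∀ p ∈ w, xGL hSD p.1 p.2 ∈ K) : wprod hSD w ∈ K := by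
  induction w with
  | nil => exact one_mem _
  | cons p w ih =>
    rw [wprod_cons]
    exact mul_mem (h p List.mem_cons_self) (ih fun q hq => h q (List.mem_cons_of_mem _ hq))

theorem wprod_comm (hSD : ∀ r : Fin D.nroots, Nonempty (StringData D r)) {x : GL D.Idx F}
    {w : List (ℕ × F)} (h : ∀ p ∈ w, x * xGL hSD p.1 p.2 = xGL hSD p.1 p.2 * x) :
    x * wprod hSD w = wprod hSD w * x := by
  induction w with
  | nil => rw [wprod_nil, mul_one, one_mul]
  | cons p w ih =>
    rw [wprod_cons, ← mul_assoc, h p List.mem_cons_self, mul_assoc,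
      ih (fun q hq => h q (List.mem_cons_of_mem _ hq)), mul_assoc]

theorem wprod_eq_one (hSD : ∀ r : Fin D.nroots, Nonempty (StringData D r)) {w : List (ℕ × F)}
    (h : ∀ p ∈ w, p.2 = 0) : wprod hSD w = 1 := by
  induction w with
  | nil => rfl
  | cons p w ih =>
    rw [wprod_cons, h p List.mem_cons_self, xGL_zero, one_mul,
      ih (fun q hq => h q (List.mem_cons_of_mem _ hq))]

theorem wprod_conj (hSD : ∀ r : Fin D.nroots, Nonempty (StringData D r)) {n : GL D.Idx F} {π : ℕ → ℕ}
    {c : ℕ → F} (hπ : RootAct D F (n : Matrix D.Idx D.Idx F) π c) {w : List (ℕ × F)}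
    (hw : ∀ p ∈ w, p.1 < D.nroots) :
    n * wprod hSD w * n⁻¹ = wprod hSD (w.map fun p => (π p.1, c p.1 * p.2)) := by
  induction w with
  | nil =>
    rw [wprod_nil, List.map_nil, wprod_nil, mul_one, mul_inv_cancel]
  | cons p w ih =>
    have key : n * xGL hSD p.1 p.2 * n⁻¹ = xGL hSD (π p.1) (c p.1 * p.2) :=
      Units.ext (rootAct_conj hπ (hw p List.mem_cons_self) (xGL_coe hSD p.1 p.2))
    rw [wprod_cons, List.map_cons, wprod_cons, ← ih (fun q hq => hw q (List.mem_cons_of_mem _ hq)), ← key]
    group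

/-- The product of the root elements `x_r(τ r)`, `r ∈ L`. -/
def zprod (hSD : ∀ r : Fin D.nroots, Nonempty (StringData D r)) (L : List ℕ) (τ : ℕ → F) : GL D.Idx F :=
  wprod hSD (L.map fun r => (r, τ r))

theorem zprod_nil (hSD : ∀ r : Fin D.nroots, Nonempty (StringData D r)) (τ : ℕ → F) :
    zprod hSD [] τ = 1 := rfl

theorem zprod_cons (hSD : ∀ r : Fin D.nroots, Nonempty (StringData D r)) (r : ℕ) (L : List ℕ) (τ : ℕ → F) :
    zprod hSD (r :: L) τ = xGL hSD r (τ r) * zprod hSD L τ := by
  unfold zprod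
  rw [List.map_cons, wprod_cons]

theorem zprod_coe (hSD : ∀ r : Fin D.nroots, Nonempty (StringData D r)) (L : List ℕ) (τ : ℕ → F) :
    ((zprod hSD L τ : GL D.Idx F) : Matrix D.Idx D.Idx F) = ordProd D F L τ := by
  induction L with
  | nil => rw [zprod_nil, ordProd_nil, Units.val_one]
  | cons r L ih => rw [zprod_cons, ordProd_cons, Units.val_mul, xGL_coe, ih]

theorem zprod_congr (hSD : ∀ r : Fin D.nroots, Nonempty (StringData D r)) {L : List ℕ} {τ τ' : ℕ → F}
    (h : ∀ r ∈ L, τ r = τ' r) : zprod hSD L τ = zprod hSD L τ' := by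
  induction L with
  | nil => rfl
  | cons r L ih =>
    rw [zprod_cons, zprod_cons, h r List.mem_cons_self, ih (fun q hq => h q (List.mem_cons_of_mem _ hq))]

theorem zprod_zero (hSD : ∀ r : Fin D.nroots, Nonempty (StringData D r)) {L : List ℕ} {τ : ℕ → F}
    (h : ∀ r ∈ L, τ r = 0) : zprod hSD L τ = 1 := by
  apply wprod_eq_one
  intro p hp
  rw [List.mem_map] at hp
  obtain ⟨r, hr, rfl⟩ := hp
  exact h r hr

theorem zprod_comm_x (hSD : ∀ r : Fin D.nroots, Nonempty (StringData D r)) {x : GL D.Idx F} {L : List ℕ}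
    (h : ∀ s ∈ L, ∀ b : F, x * xGL hSD s b = xGL hSD s b * x) (τ : ℕ → F) :
    x * zprod hSD L τ = zprod hSD L τ * x := by
  apply wprod_comm
  intro p hp
  rw [List.mem_map] at hp
  obtain ⟨r, hr, rfl⟩ := hp
  exact h r hr _

theorem zprod_add (hSD : ∀ r : Fin D.nroots, Nonempty (StringData D r)) {L : List ℕ}
    (hc : ∀ r ∈ L, ∀ s ∈ L, ∀ a b : F, xGL hSD r a * xGL hSD s b = xGL hSD s b * xGL hSD r a)
    (τ τ' : ℕ → F) : zprod hSD L (fun r => τ r + τ' r) = zprod hSD L τ * zprod hSD L τ' := by
  induction L with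
  | nil => rw [zprod_nil, zprod_nil, zprod_nil, mul_one]
  | cons r L ih =>
    have ih' := ih fun r hr s hs => hc r (List.mem_cons_of_mem _ hr) s (List.mem_cons_of_mem _ hs)
    have e : xGL hSD r (τ' r) * zprod hSD L τ = zprod hSD L τ * xGL hSD r (τ' r) :=
      zprod_comm_x hSD (fun s hs b => hc r List.mem_cons_self s (List.mem_cons_of_mem _ hs) _ b) τ
    rw [zprod_cons, zprod_cons, zprod_cons, ih', xGL_add]
    calc xGL hSD r (τ r) * xGL hSD r (τ' r) * (zprod hSD L τ * zprod hSD L τ')
        = xGL hSD r (τ r) * (xGL hSD r (τ' r) * zprod hSD L τ) * zprod hSD L τ' := by group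
      _ = xGL hSD r (τ r) * (zprod hSD L τ * xGL hSD r (τ' r)) * zprod hSD L τ' := by rw [e]
      _ = xGL hSD r (τ r) * zprod hSD L τ * (xGL hSD r (τ' r) * zprod hSD L τ') := by group

theorem zprod_single (hSD : ∀ r : Fin D.nroots, Nonempty (StringData D r)) {S : List ℕ} (hnd : S.Nodup)
    {r : ℕ} {a : F} (h : a = 0 ∨ r ∈ S) : zprod hSD S (fun s => if r = s then a else 0) = xGL hSD r a := by
  rcases h with h | h
  · rw [h, xGL_zero]
    apply zprod_zero
    intro s _
    simp
  · induction S with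
    | nil => exact absurd h List.not_mem_nil
    | cons s S ih =>
      rw [List.nodup_cons] at hnd
      rw [zprod_cons]
      by_cases hrs : r = s
      · subst hrs
        rw [if_pos rfl, zprod_zero, mul_one]
        intro s' hs'
        rw [if_neg]
        rintro rfl
        exact hnd.1 hs'
      · rw [if_neg hrs, xGL_zero, one_mul]
        rcases List.mem_cons.mp h with h | h
        · exact absurd h hrs
        · exact ih hnd.2 h

/-- The sum of the coefficients of a word at the root `s`. -/
def coordsW (w : List (ℕ × F)) (s : ℕ) : F := (w.map fun p => if p.1 = s then p.2 else 0).sum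

theorem coordsW_nil (s : ℕ) : coordsW ([] : List (ℕ × F)) s = 0 := rfl

theorem coordsW_cons (p : ℕ × F) (w : List (ℕ × F)) (s : ℕ) :
    coordsW (p :: w) s = (if p.1 = s then p.2 else 0) + coordsW w s := by
  unfold coordsW
  rw [List.map_cons, List.sum_cons]

theorem coords_map_not (L : List ℕ) (g : ℕ → ℕ) (f : ℕ → F) {s : ℕ} (hs : ∀ r ∈ L, g r ≠ s) :
    coordsW (L.map fun r => (g r, f r)) s = 0 := by
  induction L with
  | nil => rfl
  | cons r L ih =>
    rw [List.map_cons, coordsW_cons, if_neg (hs r List.mem_cons_self),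
      ih (fun q hq => hs q (List.mem_cons_of_mem _ hq)), add_zero]

theorem coords_map (L : List ℕ) (hnd : L.Nodup) (g : ℕ → ℕ) (f : ℕ → F)
    (hinj : ∀ r ∈ L, ∀ r' ∈ L, g r = g r' → r = r') {r₀ : ℕ} (hr₀ : r₀ ∈ L) :
    coordsW (L.map fun r => (g r, f r)) (g r₀) = f r₀ := by
  induction L with
  | nil => exact absurd hr₀ List.not_mem_nil
  | cons r L ih =>
    rw [List.nodup_cons] at hnd
    rw [List.map_cons, coordsW_cons]
    by_cases hr : r = r₀
    · subst hr
      rw [if_pos rfl, coords_map_not, add_zero]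
      intro r' hr' e
      have := hinj r' (List.mem_cons_of_mem _ hr') r List.mem_cons_self e
      rw [this] at hr'
      exact hnd.1 hr'
    · have hr₀' : r₀ ∈ L := by
        rcases List.mem_cons.mp hr₀ with h | h
        · exact absurd h.symm hr
        · exact h
      have hne : g r ≠ g r₀ := fun e => hr (hinj r List.mem_cons_self r₀ hr₀ e)
      rw [if_neg hne, zero_add]
      exact ih hnd.2 (fun a ha b hb => hinj a (List.mem_cons_of_mem _ ha) b (List.mem_cons_of_mem _ hb)) hr₀'

/-- A word whose non-trivial entries are at roots of the commuting family `S` is the product over `S` of the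
root elements with the sums of its coefficients. -/
theorem wprod_eq_zprod (hSD : ∀ r : Fin D.nroots, Nonempty (StringData D r)) {S : List ℕ} (hnd : S.Nodup)
    (hc : ∀ r ∈ S, ∀ s ∈ S, ∀ a b : F, xGL hSD r a * xGL hSD s b = xGL hSD s b * xGL hSD r a)
    {w : List (ℕ × F)} (hw : ∀ p ∈ w, p.2 = 0 ∨ p.1 ∈ S) : wprod hSD w = zprod hSD S (coordsW w) := by
  induction w with
  | nil =>
    rw [wprod_nil, zprod_zero]
    intro r _
    rfl
  | cons p w ih =>
    rw [wprod_cons, ih (fun q hq => hw q (List.mem_cons_of_mem _ hq)),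
      ← zprod_single hSD hnd (hw p List.mem_cons_self), ← zprod_add hSD hc]
    apply zprod_congr
    intro r _
    rw [coordsW_cons]

/-- The coefficients of a product over a final segment of the positive roots are determined. -/
theorem zprod_seg_inj (I : BNInput D F η) {m : ℕ} (hm : m ≤ D.nroots) (hmN : D.nroots / 2 ≤ m)
    {τ τ' : ℕ → F} (h : zprod I.hSD' (List.range' m (D.nroots - m)) τ =
      zprod I.hSD' (List.range' m (D.nroots - m)) τ') : ∀ r, m ≤ r → r < D.nroots → τ r = τ' r := by
  have h1 := congrArg (fun g : GL D.Idx F => (g : Matrix D.Idx D.Idx F)) h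
  simp only [zprod_coe] at h1
  intro r hr1 hr2
  exact ordProd_unique I.hSD' I.hU.posOK I.hU.negrev (I.hU.unitF F) (D.nroots - m) m (by omega) hmN τ τ' h1 r
    (List.mem_range'_1.mpr ⟨hr1, by omega⟩)

/-! ### Leading terms of words -/

variable (D F) in
/-- All the coefficients of the word vanish, or `g` has its leading term at the root of an entry with
non-zero coefficient, the least root of such an entry. -/
def LeadW (g : GL D.Idx F) (w : List (ℕ × F)) : Prop :=
  (∀ q ∈ w, q.2 = 0) ∨ ∃ p ∈ w, p.2 ≠ 0 ∧ LeadAt D F g p.1 ∧ ∀ q ∈ w, q.2 ≠ 0 → p.1 ≤ q.1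

theorem leadW_wprod (I : BNInput D F η) (w : List (ℕ × F))
    (hpos : ∀ p ∈ w, p.1 < D.nroots ∧ (p.2 = 0 ∨ D.nroots / 2 ≤ p.1))
    (hnd : w.Pairwise (fun p q => p.1 ≠ q.1))
    (hcomm : ∀ p ∈ w, ∀ q ∈ w, xGL I.hSD' p.1 p.2 * xGL I.hSD' q.1 q.2 =
      xGL I.hSD' q.1 q.2 * xGL I.hSD' p.1 p.2) : LeadW D F (wprod I.hSD' w) w := by
  induction w with
  | nil => exact Or.inl fun q hq => absurd hq List.not_mem_nil
  | cons p w ih =>
    rw [List.pairwise_cons] at hnd
    have ih' := ih (fun q hq => hpos q (List.mem_cons_of_mem _ hq)) hnd.2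
      (fun a ha b hb => hcomm a (List.mem_cons_of_mem _ ha) b (List.mem_cons_of_mem _ hb))
    have hc : xGL I.hSD' p.1 p.2 * wprod I.hSD' w = wprod I.hSD' w * xGL I.hSD' p.1 p.2 :=
      wprod_comm I.hSD' fun q hq => hcomm p List.mem_cons_self q (List.mem_cons_of_mem _ hq)
    obtain ⟨hp1, hp2⟩ := hpos p List.mem_cons_self
    rw [wprod_cons]
    by_cases hα : p.2 = 0
    · rw [hα, xGL_zero, one_mul]
      rcases ih' with h1 | ⟨q, hq, hq2, hl, hmin⟩
      · left
        intro q hq
        rcases List.mem_cons.mp hq with rfl | hq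
        · exact hα
        · exact h1 q hq
      · right
        refine ⟨q, List.mem_cons_of_mem _ hq, hq2, hl, fun q' hq' hne => ?_⟩
        rcases List.mem_cons.mp hq' with rfl | hq'
        · exact absurd hα hne
        · exact hmin q' hq' hne
    · have hppos := hp2.resolve_left hα
      right
      rcases ih' with h1 | ⟨q, hq, hq2, ⟨hm1, hm2, β, hβ, u, hu, e⟩, hmin⟩
      · rw [wprod_eq_one I.hSD' h1, mul_one]
        refine ⟨p, List.mem_cons_self, hα, ⟨hppos, hp1, p.2, hα, 1, one_mem_prodSet I.hSD' _ _,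
          by rw [xGL_coe, mul_one]⟩, fun q' hq' hne => ?_⟩
        rcases List.mem_cons.mp hq' with rfl | hq'
        · exact le_refl _
        · exact absurd (h1 q' hq') hne
      · have hne : p.1 ≠ q.1 := hnd.1 q hq
        rcases Nat.lt_or_gt_of_ne hne with hlt | hgt
        · obtain ⟨hgen, hmul⟩ := prodSet_closed' I (m := p.1 + 1) (by omega) (by omega) (F := F)
          refine ⟨p, List.mem_cons_self, hα, ⟨hppos, hp1, p.2, hα,
            (wprod I.hSD' w : Matrix D.Idx D.Idx F), ?_, by rw [Units.val_mul, xGL_coe]⟩,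
            fun q' hq' hne' => ?_⟩
          · rw [e]
            exact hmul _ _ (hgen q.1 β (by omega) hm2)
              (prodSet_mono I (by omega) (by omega) (by omega) (by omega) hu)
          · rcases List.mem_cons.mp hq' with rfl | hq'
            · exact le_refl _
            · have := hmin q' hq' hne'
              omega
        · obtain ⟨hgen, hmul⟩ := prodSet_closed' I (m := q.1 + 1) (by omega) (by omega) (F := F)
          refine ⟨q, List.mem_cons_of_mem _ hq, hq2, ⟨hm1, hm2, β, hβ, u * D.x F p.1 p.2,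
            hmul _ _ hu (hgen p.1 p.2 (by omega) hp1), ?_⟩, fun q' hq' hne' => ?_⟩
          · rw [hc, Units.val_mul, e, xGL_coe, mul_assoc]
          · rcases List.mem_cons.mp hq' with rfl | hq'
            · omega
            · exact hmin q' hq' hne'

end Supp

end Cfsg.Agent.Lib.helper22
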