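import Cfsg.Agent.Lib.helper22.ChevG2Cent
import Cfsg.Agent.Lib.helper22.ChevSupp

set_option autoImplicit false

namespace Cfsg.Agent.Lib.helper22

open Cfsg.Lie

section ConjWord

variable {D : ChevalleyDatum} {F : Type*} [Field F] {η : ℕ → ℕ → ℤ}

theorem wprod_coe (hSD : ∀ r : Fin D.nroots, Nonempty (StringData D r)) (w : List (ℕ × F)) :
    ((wprod hSD w : GL D.Idx F) : Matrix D.Idx D.Idx F) = D.wordMat F w := by
  induction w with
  | nil => rw [wprod_nil, wordMat_nil, Units.val_one]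
  | cons p w ih => rw [wprod_cons, wordMat_cons, Units.val_mul, xGL_coe, ih]

/-- The conjugation formula for root elements. -/
theorem xGL_conj_word (I : BNInput D F η) {q s : ℕ} (hq : q < D.nroots) (hs : s < D.nroots) (hsq : s ≠ q)
    (hneg : s ≠ D.neg q) (t u : F) :
    xGL I.hSD' q t * xGL I.hSD' s u * (xGL I.hSD' q t)⁻¹ = xGL I.hSD' s u *
      wprod I.hSD' ((D.commTerms q s).map fun c => (c.1, (c.2.1 : F) * t ^ c.2.2.1 * u ^ c.2.2.2)) := by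
  apply Units.ext
  rw [xGL_inv, Units.val_mul, Units.val_mul, Units.val_mul, xGL_coe, xGL_coe, xGL_coe, wprod_coe,
    conj_x_eq I.hSD' I.hcomm hq hs hsq hneg]
  congr 1
  unfold ChevalleyDatum.commWord
  congr 1
  apply List.map_congr_left
  intro c _
  rw [neg_neg]

theorem xGL_inv_two [CharP F 2] (hSD : ∀ r : Fin D.nroots, Nonempty (StringData D r)) (r : ℕ) (a : F) :
    (xGL hSD r a)⁻¹ = xGL hSD r a := by
  rw [xGL_inv, CharTwo.neg_eq]

theorem xGL_sq_two [CharP F 2] (hSD : ∀ r : Fin D.nroots, Nonempty (StringData D r)) (r : ℕ) (a : F) :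
    xGL hSD r a * xGL hSD r a = 1 := by
  rw [← xGL_add, CharTwo.add_self_eq_zero, xGL_zero]

end ConjWord

/-! ### Table facts for `G₂` -/

theorem g2_terms_6_7 : chevG2.commTerms 6 7 = [(8, 1, 1, 1), (9, 1, 1, 2), (10, -1, 1, 3), (11, -2, 2, 3)] := by
  decide +kernel

theorem g2_terms_7_8 : chevG2.commTerms 7 8 = [(9, -2, 1, 1), (10, -3, 2, 1), (11, 3, 1, 2)] := by
  decide +kernel

theorem g2_terms_8_7 : chevG2.commTerms 8 7 = [(9, 2, 1, 1), (11, 3, 2, 1), (10, -3, 1, 2)] := by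
  decide +kernel

theorem g2_terms_9_7 : chevG2.commTerms 9 7 = [(10, -3, 1, 1)] := by decide +kernel

theorem g2_terms_10_6 : chevG2.commTerms 10 6 = [(11, -1, 1, 1)] := by decide +kernel

theorem g2_terms_4_9 : chevG2.commTerms 4 9 = [(8, -2, 1, 1), (6, 3, 2, 1), (11, -3, 1, 2)] := by
  decide +kernel

/-- Further pairs of roots whose root elements commute in characteristic two. -/
def g2PairsB : List (ℕ × ℕ) :=
  [(6, 8), (7, 10), (8, 10), (8, 11), (4, 6), (10, 9), (10, 11), (10, 7), (9, 10), (9, 11), (8, 6), (6, 9),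
    (6, 11), (7, 11), (10, 8), (11, 10), (11, 9)]

theorem g2_pairsOKB : commPairsOK chevG2 g2PairsB = true := by decide +kernel

theorem g2_negs : chevG2.neg 4 = 7 ∧ chevG2.neg 10 = 1 ∧ chevG2.neg 11 = 0 := by decide +kernel

theorem g2_refl0 : chevG2.reflectRoot 0 6 = 10 ∧ chevG2.reflectRoot 0 8 = 9 ∧ chevG2.reflectRoot 0 9 = 8 ∧
    chevG2.reflectRoot 0 10 = 6 ∧ chevG2.reflectRoot 0 11 = 11 := by
  decide +kernel

theorem g2_cartan11 : cartanZ chevG2 0 11 = 0 ∧ cartanZ chevG2 1 11 = 1 := by decide +kernel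

section G2C

variable {F : Type*} [Field F] {η : ℕ → ℕ → ℤ} [CharP F 2]

theorem g2_commB (I : BNInput chevG2 F η) {r s : ℕ} (hp : (r, s) ∈ g2PairsB) (a b : F) :
    xGL I.hSD' r a * xGL I.hSD' s b = xGL I.hSD' s b * xGL I.hSD' r a :=
  comm_of_pairsOK I g2_pairsOKB hp a b

theorem g2_cast_m1 : ((-1 : ℤ) : F) = 1 := by
  rw [Int.cast_neg, Int.cast_one, CharTwo.neg_eq]

theorem g2_cast_m2 : ((-2 : ℤ) : F) = 0 := by
  have h2 : (2 : F) = 0 := CharTwo.two_eq_zero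
  rw [Int.cast_neg, Int.cast_ofNat, h2, neg_zero]

theorem g2_cast_2 : ((2 : ℤ) : F) = 0 := by
  have h2 : (2 : F) = 0 := CharTwo.two_eq_zero
  rw [Int.cast_ofNat, h2]

theorem g2_cast_3 : ((3 : ℤ) : F) = 1 := by
  have h2 : (2 : F) = 0 := CharTwo.two_eq_zero
  have e : ((3 : ℤ) : F) = 2 + 1 := by push_cast; norm_num
  rw [e, h2, zero_add]

theorem g2_cast_m3 : ((-3 : ℤ) : F) = 1 := by
  rw [Int.cast_neg, g2_cast_3, CharTwo.neg_eq]

theorem g2_conj_6_7 (I : BNInput chevG2 F η) (t u : F) :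
    xGL I.hSD' 6 t * xGL I.hSD' 7 u * (xGL I.hSD' 6 t)⁻¹ =
      xGL I.hSD' 7 u * (xGL I.hSD' 8 (t * u) * g2z I (t * u ^ 2) (t * u ^ 3) 0) := by
  rw [xGL_conj_word I (g2_lt (by norm_num)) (g2_lt (by norm_num)) (by decide)
    (by rw [g2_misc.2.2.1]; decide), g2_terms_6_7]
  simp only [List.map_cons, List.map_nil, wprod_cons, wprod_nil, g2_cast_m1, g2_cast_m2, Int.cast_one,
    pow_one, one_mul, zero_mul, mul_one, xGL_zero, g2z_def]

theorem g2_conj_7_8 (I : BNInput chevG2 F η) (t u : F) :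
    xGL I.hSD' 7 t * xGL I.hSD' 8 u * (xGL I.hSD' 7 t)⁻¹ =
      xGL I.hSD' 8 u * g2z I 0 (t ^ 2 * u) (t * u ^ 2) := by
  rw [xGL_conj_word I (g2_lt (by norm_num)) (g2_lt (by norm_num)) (by decide)
    (by rw [g2_misc.2.2.2.2.1]; decide), g2_terms_7_8]
  simp only [List.map_cons, List.map_nil, wprod_cons, wprod_nil, g2_cast_m3, g2_cast_m2, g2_cast_3,
    pow_one, one_mul, zero_mul, mul_one, xGL_zero, g2z_def]

theorem g2_conj_8_7 (I : BNInput chevG2 F η) (t u : F) :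
    xGL I.hSD' 8 t * xGL I.hSD' 7 u * (xGL I.hSD' 8 t)⁻¹ =
      xGL I.hSD' 7 u * g2z I 0 (t * u ^ 2) (t ^ 2 * u) := by
  rw [xGL_conj_word I (g2_lt (by norm_num)) (g2_lt (by norm_num)) (by decide)
    (by rw [g2_misc.2.2.2.2.2.2.2.1]; decide), g2_terms_8_7]
  simp only [List.map_cons, List.map_nil, wprod_cons, wprod_nil, g2_cast_m3, g2_cast_2, g2_cast_3,
    pow_one, one_mul, zero_mul, mul_one, xGL_zero, g2z_def]
  rw [g2_commB I (by decide : (11, 10) ∈ g2PairsB)]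

theorem g2_conj_9_7 (I : BNInput chevG2 F η) (t u : F) :
    xGL I.hSD' 9 t * xGL I.hSD' 7 u * (xGL I.hSD' 9 t)⁻¹ = xGL I.hSD' 7 u * xGL I.hSD' 10 (t * u) :=
  xGL_conj_single I (g2_lt (by norm_num)) (g2_lt (by norm_num)) (by decide)
    (by rw [g2_misc.2.2.2.2.2.2.2.2]; decide) g2_terms_9_7 (by decide) t u

theorem g2_conj_10_6 (I : BNInput chevG2 F η) (t u : F) :
    xGL I.hSD' 10 t * xGL I.hSD' 6 u * (xGL I.hSD' 10 t)⁻¹ = xGL I.hSD' 6 u * xGL I.hSD' 11 (t * u) :=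
  xGL_conj_single I (g2_lt (by norm_num)) (g2_lt (by norm_num)) (by decide)
    (by rw [g2_negs.2.1]; decide) g2_terms_10_6 (by decide) t u

theorem g2_conj_4_9 (I : BNInput chevG2 F η) (t u : F) :
    xGL I.hSD' 4 t * xGL I.hSD' 9 u * (xGL I.hSD' 4 t)⁻¹ =
      xGL I.hSD' 9 u * (xGL I.hSD' 6 (t ^ 2 * u) * xGL I.hSD' 11 (t * u ^ 2)) := by
  rw [xGL_conj_word I (g2_lt (by norm_num)) (g2_lt (by norm_num)) (by decide)
    (by rw [g2_negs.1]; decide), g2_terms_4_9]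
  simp only [List.map_cons, List.map_nil, wprod_cons, wprod_nil, g2_cast_m3, g2_cast_m2, g2_cast_3,
    pow_one, one_mul, zero_mul, mul_one, xGL_zero]

theorem hi_conj_mul3 {G : Type*} [Group G] (n x y z : G) :
    n * (x * y * z) * n⁻¹ = (n * x * n⁻¹) * (n * y * n⁻¹) * (n * z * n⁻¹) := by group

theorem g2z_conj6 (I : BNInput chevG2 F η) (t a b c : F) :
    xGL I.hSD' 6 t * g2z I a b c * (xGL I.hSD' 6 t)⁻¹ = g2z I a b (t * b + c) := by
  rw [g2z_def, hi_conj_mul3, hi_conj_of_comm (g2_comm I (by decide : (6, 9) ∈ g2Pairs) t a),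
    g2_conj_6_10 I, hi_conj_of_comm (g2_comm I (by decide : (6, 11) ∈ g2Pairs) t c), g2z_def, xGL_add]
  simp only [mul_assoc]

theorem g2z_conj7 (I : BNInput chevG2 F η) (t a b c : F) :
    xGL I.hSD' 7 t * g2z I a b c * (xGL I.hSD' 7 t)⁻¹ = g2z I a (t * a + b) c := by
  rw [g2z_def, hi_conj_mul3, g2_conj_7_9 I, hi_conj_of_comm (g2_commB I (by decide : (7, 10) ∈ g2PairsB) t b),
    hi_conj_of_comm (g2_comm I (by decide : (7, 11) ∈ g2Pairs) t c), g2z_def, xGL_add]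
  simp only [mul_assoc]

theorem g2z_conj8 (I : BNInput chevG2 F η) (t a b c : F) :
    xGL I.hSD' 8 t * g2z I a b c * (xGL I.hSD' 8 t)⁻¹ = g2z I a b (t * a + c) := by
  rw [g2z_def, hi_conj_mul3, g2_conj_8_9 I, hi_conj_of_comm (g2_commB I (by decide : (8, 10) ∈ g2PairsB) t b),
    hi_conj_of_comm (g2_commB I (by decide : (8, 11) ∈ g2PairsB) t c), g2z_def, xGL_add]
  calc xGL I.hSD' 9 a * xGL I.hSD' 11 (t * a) * xGL I.hSD' 10 b * xGL I.hSD' 11 c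
      = xGL I.hSD' 9 a * (xGL I.hSD' 11 (t * a) * xGL I.hSD' 10 b) * xGL I.hSD' 11 c := by
        simp only [mul_assoc]
    _ = xGL I.hSD' 9 a * (xGL I.hSD' 10 b * xGL I.hSD' 11 (t * a)) * xGL I.hSD' 11 c := by
        rw [g2_commB I (by decide : (11, 10) ∈ g2PairsB)]
    _ = _ := by simp only [mul_assoc]

theorem g2z_inv (I : BNInput chevG2 F η) (a b c : F) : (g2z I a b c)⁻¹ = g2z I a b c := by
  apply inv_eq_of_mul_eq_one_right
  rw [g2z_mul, CharTwo.add_self_eq_zero, CharTwo.add_self_eq_zero, CharTwo.add_self_eq_zero, g2z_zero]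

/-- The subgroup `X_9 X_10 X_11`. -/
def g2W (I : BNInput chevG2 F η) : Subgroup (GL chevG2.Idx F) where
  carrier := {g | ∃ a b c : F, g = g2z I a b c}
  mul_mem' := by
    rintro _ _ ⟨a, b, c, rfl⟩ ⟨a', b', c', rfl⟩
    exact ⟨_, _, _, g2z_mul I a b c a' b' c'⟩
  one_mem' := ⟨0, 0, 0, (g2z_zero I).symm⟩
  inv_mem' := by
    rintro _ ⟨a, b, c, rfl⟩
    exact ⟨a, b, c, g2z_inv I a b c⟩

theorem g2z_mem_W (I : BNInput chevG2 F η) (a b c : F) : g2z I a b c ∈ g2W I := ⟨a, b, c, rfl⟩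

theorem g2W_conj (I : BNInput chevG2 F η) {s : ℕ} (hs : s = 6 ∨ s = 7 ∨ s = 8) (t : F) {w : GL chevG2.Idx F}
    (hw : w ∈ g2W I) : xGL I.hSD' s t * w * (xGL I.hSD' s t)⁻¹ ∈ g2W I := by
  obtain ⟨a, b, c, rfl⟩ := hw
  rcases hs with rfl | rfl | rfl
  · exact ⟨_, _, _, g2z_conj6 I t a b c⟩
  · exact ⟨_, _, _, g2z_conj7 I t a b c⟩
  · exact ⟨_, _, _, g2z_conj8 I t a b c⟩

theorem g2W_swap (I : BNInput chevG2 F η) {s : ℕ} (hs : s = 6 ∨ s = 7 ∨ s = 8) (t : F) {w : GL chevG2.Idx F}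
    (hw : w ∈ g2W I) : ∃ w' ∈ g2W I, w * xGL I.hSD' s t = xGL I.hSD' s t * w' := by
  refine ⟨xGL I.hSD' s t * w * (xGL I.hSD' s t)⁻¹, g2W_conj I hs t hw, ?_⟩
  have e := xGL_sq_two I.hSD' s t
  rw [xGL_inv_two]
  calc w * xGL I.hSD' s t = (xGL I.hSD' s t * xGL I.hSD' s t) * w * xGL I.hSD' s t := by rw [e, one_mul]
    _ = _ := by simp only [mul_assoc]

/-- Products in `U` modulo `X_9 X_10 X_11`. -/
theorem g2_mul_form (I : BNInput chevG2 F η) (s6 s7 s8 t6 t7 t8 : F) {w w' : GL chevG2.Idx F}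
    (hw : w ∈ g2W I) (hw' : w' ∈ g2W I) :
    ∃ w'' ∈ g2W I, (xGL I.hSD' 6 s6 * xGL I.hSD' 7 s7 * xGL I.hSD' 8 s8 * w) *
        (xGL I.hSD' 6 t6 * xGL I.hSD' 7 t7 * xGL I.hSD' 8 t8 * w') =
      xGL I.hSD' 6 (s6 + t6) * xGL I.hSD' 7 (s7 + t7) * xGL I.hSD' 8 (t6 * s7 + s8 + t8) * w'' := by
  obtain ⟨w1, hw1, e1⟩ := g2W_swap I (Or.inl rfl) t6 hw
  obtain ⟨w2, hw2, e2⟩ := g2W_swap I (Or.inr (Or.inl rfl)) t7 hw1
  obtain ⟨w3, hw3, e3⟩ := g2W_swap I (Or.inr (Or.inr rfl)) t8 hw2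
  have hB : xGL I.hSD' 7 s7 * xGL I.hSD' 6 t6 = xGL I.hSD' 6 t6 * (xGL I.hSD' 7 s7 *
      (xGL I.hSD' 8 (t6 * s7) * g2z I (t6 * s7 ^ 2) (t6 * s7 ^ 3) 0)) := by
    rw [← g2_conj_6_7 I t6 s7, xGL_inv_two]
    calc xGL I.hSD' 7 s7 * xGL I.hSD' 6 t6
        = (xGL I.hSD' 6 t6 * xGL I.hSD' 6 t6) * xGL I.hSD' 7 s7 * xGL I.hSD' 6 t6 := by
          rw [xGL_sq_two, one_mul]
      _ = _ := by simp only [mul_assoc]
  obtain ⟨wB1, hwB1, eB1⟩ := g2W_swap I (Or.inr (Or.inr rfl)) s8 (g2z_mem_W I (t6 * s7 ^ 2) (t6 * s7 ^ 3) 0)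
  obtain ⟨wB2, hwB2, eB2⟩ := g2W_swap I (Or.inr (Or.inl rfl)) t7 hwB1
  have hC : xGL I.hSD' 8 (t6 * s7 + s8) * xGL I.hSD' 7 t7 = xGL I.hSD' 7 t7 *
      (xGL I.hSD' 8 (t6 * s7 + s8) * g2z I 0 (t7 ^ 2 * (t6 * s7 + s8)) (t7 * (t6 * s7 + s8) ^ 2)) := by
    rw [← g2_conj_7_8 I t7 (t6 * s7 + s8), xGL_inv_two]
    calc xGL I.hSD' 8 (t6 * s7 + s8) * xGL I.hSD' 7 t7
        = (xGL I.hSD' 7 t7 * xGL I.hSD' 7 t7) * xGL I.hSD' 8 (t6 * s7 + s8) * xGL I.hSD' 7 t7 := by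
          rw [xGL_sq_two, one_mul]
      _ = _ := by simp only [mul_assoc]
  obtain ⟨wD, hwD, eD⟩ := g2W_swap I (Or.inr (Or.inr rfl)) t8
    (mul_mem (g2z_mem_W I 0 (t7 ^ 2 * (t6 * s7 + s8)) (t7 * (t6 * s7 + s8) ^ 2)) hwB2)
  refine ⟨wD * w3 * w', mul_mem (mul_mem hwD hw3) hw', ?_⟩
  calc (xGL I.hSD' 6 s6 * xGL I.hSD' 7 s7 * xGL I.hSD' 8 s8 * w) *
        (xGL I.hSD' 6 t6 * xGL I.hSD' 7 t7 * xGL I.hSD' 8 t8 * w')
      = xGL I.hSD' 6 s6 * xGL I.hSD' 7 s7 * xGL I.hSD' 8 s8 * (w * xGL I.hSD' 6 t6) * xGL I.hSD' 7 t7 *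
          xGL I.hSD' 8 t8 * w' := by simp only [mul_assoc]
    _ = xGL I.hSD' 6 s6 * xGL I.hSD' 7 s7 * xGL I.hSD' 8 s8 * xGL I.hSD' 6 t6 * (w1 * xGL I.hSD' 7 t7) *
          xGL I.hSD' 8 t8 * w' := by rw [e1]; simp only [mul_assoc]
    _ = xGL I.hSD' 6 s6 * xGL I.hSD' 7 s7 * xGL I.hSD' 8 s8 * xGL I.hSD' 6 t6 * xGL I.hSD' 7 t7 *
          (w2 * xGL I.hSD' 8 t8) * w' := by rw [e2]; simp only [mul_assoc]
    _ = xGL I.hSD' 6 s6 * xGL I.hSD' 7 s7 * (xGL I.hSD' 8 s8 * xGL I.hSD' 6 t6) * xGL I.hSD' 7 t7 *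
          xGL I.hSD' 8 t8 * w3 * w' := by rw [e3]; simp only [mul_assoc]
    _ = xGL I.hSD' 6 s6 * (xGL I.hSD' 7 s7 * xGL I.hSD' 6 t6) * xGL I.hSD' 8 s8 * xGL I.hSD' 7 t7 *
          xGL I.hSD' 8 t8 * w3 * w' := by
        rw [g2_commB I (by decide : (8, 6) ∈ g2PairsB)]; simp only [mul_assoc]
    _ = xGL I.hSD' 6 s6 * xGL I.hSD' 6 t6 * xGL I.hSD' 7 s7 * xGL I.hSD' 8 (t6 * s7) *
          (g2z I (t6 * s7 ^ 2) (t6 * s7 ^ 3) 0 * xGL I.hSD' 8 s8) * xGL I.hSD' 7 t7 *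
          xGL I.hSD' 8 t8 * w3 * w' := by rw [hB]; simp only [mul_assoc]
    _ = xGL I.hSD' 6 s6 * xGL I.hSD' 6 t6 * xGL I.hSD' 7 s7 * (xGL I.hSD' 8 (t6 * s7) * xGL I.hSD' 8 s8) *
          (wB1 * xGL I.hSD' 7 t7) * xGL I.hSD' 8 t8 * w3 * w' := by rw [eB1]; simp only [mul_assoc]
    _ = xGL I.hSD' 6 s6 * xGL I.hSD' 6 t6 * xGL I.hSD' 7 s7 * (xGL I.hSD' 8 (t6 * s7 + s8) * xGL I.hSD' 7 t7) *
          wB2 * xGL I.hSD' 8 t8 * w3 * w' := by rw [eB2, ← xGL_add I.hSD' 8 (t6 * s7) s8]; simp only [mul_assoc]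
    _ = xGL I.hSD' 6 s6 * xGL I.hSD' 6 t6 * (xGL I.hSD' 7 s7 * xGL I.hSD' 7 t7) * xGL I.hSD' 8 (t6 * s7 + s8) *
          (g2z I 0 (t7 ^ 2 * (t6 * s7 + s8)) (t7 * (t6 * s7 + s8) ^ 2) * wB2 * xGL I.hSD' 8 t8) * w3 * w' := by
        rw [hC]; simp only [mul_assoc]
    _ = xGL I.hSD' 6 s6 * xGL I.hSD' 6 t6 * (xGL I.hSD' 7 s7 * xGL I.hSD' 7 t7) *
          (xGL I.hSD' 8 (t6 * s7 + s8) * xGL I.hSD' 8 t8) * wD * w3 * w' := by rw [eD]; simp only [mul_assoc]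
    _ = xGL I.hSD' 6 (s6 + t6) * xGL I.hSD' 7 (s7 + t7) * xGL I.hSD' 8 (t6 * s7 + s8 + t8) *
          (wD * w3 * w') := by
        rw [← xGL_add I.hSD' 6 s6 t6, ← xGL_add I.hSD' 7 s7 t7, ← xGL_add I.hSD' 8 (t6 * s7 + s8) t8]; simp only [mul_assoc]

theorem g2_lead8 (I : BNInput chevG2 F η) {α : F} {w : GL chevG2.Idx F} (hw : w ∈ g2W I)
    (h : xGL I.hSD' 8 α * w = 1) : α = 0 := by
  obtain ⟨a, b, c, rfl⟩ := hw
  have h1 := congrArg (fun g : GL chevG2.Idx F => (g : Matrix chevG2.Idx chevG2.Idx F)) h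
  simp only [Units.val_mul, xGL_coe, Units.val_one] at h1
  exact lead_coeff_zero I (m := 8) (len := 3) (by rw [g2_nroots]) (g2_pos (by norm_num))
    ⟨_, g2z_coe I a b c⟩ (one_mem_prodSet I.hSD' _ _) h1

theorem g2_conj6_form (I : BNInput chevG2 F η) (s t7 t8 : F) {w : GL chevG2.Idx F} (hw : w ∈ g2W I) :
    ∃ w' ∈ g2W I, xGL I.hSD' 6 s * (xGL I.hSD' 7 t7 * xGL I.hSD' 8 t8 * w) * (xGL I.hSD' 6 s)⁻¹ =
      xGL I.hSD' 7 t7 * xGL I.hSD' 8 (s * t7 + t8) * w' := by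
  have e0 : xGL I.hSD' 6 s = xGL I.hSD' 6 s * xGL I.hSD' 7 0 * xGL I.hSD' 8 0 * 1 := by
    rw [xGL_zero, xGL_zero, mul_one, mul_one, mul_one]
  have e0' : xGL I.hSD' 7 t7 * xGL I.hSD' 8 t8 * w = xGL I.hSD' 6 0 * xGL I.hSD' 7 t7 * xGL I.hSD' 8 t8 * w := by
    rw [xGL_zero, one_mul]
  obtain ⟨w1, hw1, e1⟩ := g2_mul_form I s 0 0 0 t7 t8 (one_mem _) hw
  obtain ⟨w2, hw2, e2⟩ := g2_mul_form I (s + 0) (0 + t7) (0 * 0 + 0 + t8) s 0 0 hw1 (one_mem _)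
  refine ⟨w2, hw2, ?_⟩
  have h6 : s + 0 + s = 0 := by rw [add_zero, CharTwo.add_self_eq_zero]
  have h7 : (0 : F) + t7 + 0 = t7 := by ring
  have h8 : s * (0 + t7) + (0 * 0 + 0 + t8) + 0 = s * t7 + t8 := by ring
  rw [xGL_inv_two, e0', e0, e1, e2, h6, h7, h8, xGL_zero, one_mul]

theorem g2_conj7_form (I : BNInput chevG2 F η) (s t6 t8 : F) {w : GL chevG2.Idx F} (hw : w ∈ g2W I) :
    ∃ w' ∈ g2W I, xGL I.hSD' 7 s * (xGL I.hSD' 6 t6 * xGL I.hSD' 8 t8 * w) * (xGL I.hSD' 7 s)⁻¹ =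
      xGL I.hSD' 6 t6 * xGL I.hSD' 8 (t6 * s + t8) * w' := by
  have e0 : xGL I.hSD' 7 s = xGL I.hSD' 6 0 * xGL I.hSD' 7 s * xGL I.hSD' 8 0 * 1 := by
    rw [xGL_zero, xGL_zero, mul_one, mul_one, one_mul]
  have e0' : xGL I.hSD' 6 t6 * xGL I.hSD' 8 t8 * w = xGL I.hSD' 6 t6 * xGL I.hSD' 7 0 * xGL I.hSD' 8 t8 * w := by
    rw [xGL_zero, mul_one]
  obtain ⟨w1, hw1, e1⟩ := g2_mul_form I 0 s 0 t6 0 t8 (one_mem _) hw
  obtain ⟨w2, hw2, e2⟩ := g2_mul_form I (0 + t6) (s + 0) (t6 * s + 0 + t8) 0 s 0 hw1 (one_mem _)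
  refine ⟨w2, hw2, ?_⟩
  have h6 : (0 : F) + t6 + 0 = t6 := by ring
  have h7 : s + 0 + s = 0 := by rw [add_zero, CharTwo.add_self_eq_zero]
  have h8 : 0 * (s + 0) + (t6 * s + 0 + t8) + 0 = t6 * s + t8 := by ring
  rw [xGL_inv_two, e0', e0, e1, e2, h6, h7, h8, xGL_zero, mul_one]

theorem g2_sqrt [Finite F] (c : F) : ∃ s : F, s ^ 2 = c := by
  have hinj : Function.Injective (fun s : F => s ^ 2) := by
    intro s s' h
    have h1 : (s + s') ^ 2 = 0 := by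
      rw [CharTwo.add_sq]
      show s ^ 2 + s' ^ 2 = 0
      have h' : s ^ 2 = s' ^ 2 := h
      rw [h', CharTwo.add_self_eq_zero]
    exact CharTwo.add_eq_zero.mp ((pow_eq_zero_iff two_ne_zero).mp h1)
  exact Finite.surjective_of_injective hinj c

omit [CharP F 2] in
theorem g2z_mid (I : BNInput chevG2 F η) (y : F) : g2z I 0 y 0 = xGL I.hSD' 10 y := by
  rw [g2z_def, xGL_zero, xGL_zero, one_mul, mul_one]

omit [CharP F 2] in
theorem g2z_last (I : BNInput chevG2 F η) (z : F) : g2z I 0 0 z = xGL I.hSD' 11 z := by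
  rw [g2z_def, xGL_zero, xGL_zero, one_mul, one_mul]

theorem hi_gconj_trans {G : Type*} [Group G] {K : Subgroup G} {x y z : G} (h1 : ∃ h ∈ K, h * x * h⁻¹ = y)
    (h2 : ∃ h ∈ K, h * y * h⁻¹ = z) : ∃ h ∈ K, h * x * h⁻¹ = z := by
  obtain ⟨h, hh, rfl⟩ := h1
  obtain ⟨k, hk, rfl⟩ := h2
  exact ⟨k * h, mul_mem hk hh, by group⟩

omit [CharP F 2] in
theorem g2_xGL_mem (C : ChevFacts chevG2 F η) {s : ℕ} (hs : s < 12) (t : F) :
    xGL C.I.hSD' s t ∈ chevG2.group F :=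
  rootSubgroup_le_group' chevG2 F (g2_lt hs) (xGL_mem_rootSubgroup C.I (g2_lt hs) t)

omit [CharP F 2] in
theorem g2_torus_conj (C : ChevFacts chevG2 F η) {r k : ℕ} (hr : r < 12) (hk : k < chevG2.rank)
    (hcart : ∀ i, i < chevG2.rank → cartanZ chevG2 i r = if i = k then 1 else 0) {t : F} (ht : t ≠ 0) :
    ∃ h ∈ chevG2.group F, h * xGL C.I.hSD' r t * h⁻¹ = xGL C.I.hSD' r 1 := by
  let cc : Fin chevG2.rank → Fˣ := fun i => if i.val = k then Units.mk0 t⁻¹ (inv_ne_zero ht) else 1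
  refine ⟨torusHom chevG2 F cc, ?_, ?_⟩
  · apply C.hBG
    have h1 : torusHom chevG2 F cc ∈ chevG2.diagonalSubgroup F := by
      rw [diagonalSubgroup_eq_torus C.I.hS C.I.hSD', torus_eq_range]
      exact ⟨cc, rfl⟩
    exact Subgroup.mem_sup_right h1
  · have h2 := rootAct_conj (hi_rootAct_torusHom C.I cc) (g2_lt hr) (xGL_coe C.I.hSD' r t)
    rw [torusChar_of_cartan hk hcart] at h2
    apply Units.ext
    rw [h2, xGL_coe]
    congr 1
    show ((cc ⟨k, hk⟩ : Fˣ) : F) * t = 1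
    have : cc ⟨k, hk⟩ = Units.mk0 t⁻¹ (inv_ne_zero ht) := if_pos rfl
    rw [this, Units.val_mk0, inv_mul_cancel₀ ht]

omit [CharP F 2] in
theorem g2_weyl_conj (C : ChevFacts chevG2 F η) {i : ℕ} (hi : i < chevG2.rank) {s : ℕ} (hs : s < 12) {t : F}
    (ht : t ≠ 0) : ∃ t' : F, t' ≠ 0 ∧ ∃ h ∈ chevG2.group F,
      h * xGL C.I.hSD' s t * h⁻¹ = xGL C.I.hSD' (chevG2.reflectRoot i s) t' := by
  have hact := rootAct_nGL C.I hi (F := F)
  exact ⟨(η i s : F) * t, mul_ne_zero (rootAct_ne_zero' C.I hact (g2_lt hs)) ht, nGL C.I.hSD' i,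
    C.hNG (nGL_mem C.I hi), Units.ext (rootAct_conj hact (g2_lt hs) (xGL_coe C.I.hSD' s t))⟩

omit [CharP F 2] in
/-- The short root elements of `U` are conjugate to `x_9(1)`. -/
theorem g2_short_conj (C : ChevFacts chevG2 F η) {r : ℕ} (hr : r = 7 ∨ r = 8 ∨ r = 9) {t : F} (ht : t ≠ 0) :
    ∃ h ∈ chevG2.group F, h * xGL C.I.hSD' r t * h⁻¹ = xGL C.I.hSD' 9 1 := by
  have hk : 0 < chevG2.rank := by rw [g2_rank]; norm_num
  have hi1 : 1 < chevG2.rank := by rw [g2_rank]; norm_num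
  have hcart : ∀ i, i < chevG2.rank → cartanZ chevG2 i 9 = if i = 0 then 1 else 0 := by
    intro i hi'
    rw [g2_rank] at hi'
    interval_cases i
    · exact g2_misc.2.2.2.2.2.1
    · exact g2_misc.2.2.2.2.2.2.1
  have h9 : ∀ t : F, t ≠ 0 → ∃ h ∈ chevG2.group F, h * xGL C.I.hSD' 9 t * h⁻¹ = xGL C.I.hSD' 9 1 :=
    fun t ht => g2_torus_conj C (by norm_num) hk hcart ht
  have h8 : ∀ t : F, t ≠ 0 → ∃ h ∈ chevG2.group F, h * xGL C.I.hSD' 8 t * h⁻¹ = xGL C.I.hSD' 9 1 := by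
    intro t ht
    obtain ⟨t', ht', e⟩ := g2_weyl_conj C hk (s := 8) (by norm_num) ht
    rw [g2_refl0.2.1] at e
    exact hi_gconj_trans e (h9 t' ht')
  rcases hr with rfl | rfl | rfl
  · obtain ⟨t', ht', e⟩ := g2_weyl_conj C hi1 (s := 7) (by norm_num) ht
    rw [g2_refl1.2.1] at e
    exact hi_gconj_trans e (h8 t' ht')
  · exact h8 t ht
  · exact h9 t ht

omit [CharP F 2] in
/-- The long root elements of `U` are conjugate to `x_11(1)`. -/
theorem g2_long_conj (C : ChevFacts chevG2 F η) {r : ℕ} (hr : r = 6 ∨ r = 10 ∨ r = 11) {t : F} (ht : t ≠ 0) :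
    ∃ h ∈ chevG2.group F, h * xGL C.I.hSD' r t * h⁻¹ = xGL C.I.hSD' 11 1 := by
  have hk : 0 < chevG2.rank := by rw [g2_rank]; norm_num
  have hi1 : 1 < chevG2.rank := by rw [g2_rank]; norm_num
  have hcart : ∀ i, i < chevG2.rank → cartanZ chevG2 i 11 = if i = 1 then 1 else 0 := by
    intro i hi'
    rw [g2_rank] at hi'
    interval_cases i
    · exact g2_cartan11.1
    · exact g2_cartan11.2
  have h11 : ∀ t : F, t ≠ 0 → ∃ h ∈ chevG2.group F, h * xGL C.I.hSD' 11 t * h⁻¹ = xGL C.I.hSD' 11 1 :=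
    fun t ht => g2_torus_conj C (by norm_num) hi1 hcart ht
  have h10 : ∀ t : F, t ≠ 0 → ∃ h ∈ chevG2.group F, h * xGL C.I.hSD' 10 t * h⁻¹ = xGL C.I.hSD' 11 1 := by
    intro t ht
    obtain ⟨t', ht', e⟩ := g2_weyl_conj C hi1 (s := 10) (by norm_num) ht
    rw [g2_refl1.2.2.2.2.1] at e
    exact hi_gconj_trans e (h11 t' ht')
  rcases hr with rfl | rfl | rfl
  · obtain ⟨t', ht', e⟩ := g2_weyl_conj C hk (s := 6) (by norm_num) ht
    rw [g2_refl0.1] at e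
    exact hi_gconj_trans e (h10 t' ht')
  · exact h10 t ht
  · exact h11 t ht

/-- The elements `x_7(t) x_10(b) x_11(c)`, `t ≠ 0`, are conjugate to `x_9(1)`. -/
theorem g2_short7 [Finite F] (C : ChevFacts chevG2 F η) {t7 : F} (ht7 : t7 ≠ 0) (b c : F) :
    ∃ h ∈ chevG2.group F, h * (xGL C.I.hSD' 7 t7 * g2z C.I 0 b c) * h⁻¹ = xGL C.I.hSD' 9 1 := by
  obtain ⟨s, hs⟩ := g2_sqrt (c / t7)
  have hb : (b + s * t7 ^ 2) / t7 * t7 + s * t7 ^ 2 = b := by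
    rw [div_mul_cancel₀ _ ht7, add_assoc, CharTwo.add_self_eq_zero, add_zero]
  have hc : s ^ 2 * t7 = c := by rw [hs, div_mul_cancel₀ _ ht7]
  have e1 := g2_conj_8_7 C.I s t7
  have e3 : xGL C.I.hSD' 9 ((b + s * t7 ^ 2) / t7) * g2z C.I 0 (s * t7 ^ 2) (s ^ 2 * t7) *
      (xGL C.I.hSD' 9 ((b + s * t7 ^ 2) / t7))⁻¹ = g2z C.I 0 (s * t7 ^ 2) (s ^ 2 * t7) := by
    apply hi_conj_of_comm
    rw [← g2z_single C.I]
    exact g2z_comm C.I _ _ _ _ _ _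
  have e2 : xGL C.I.hSD' 9 ((b + s * t7 ^ 2) / t7) * (xGL C.I.hSD' 7 t7 * g2z C.I 0 (s * t7 ^ 2) (s ^ 2 * t7)) *
      (xGL C.I.hSD' 9 ((b + s * t7 ^ 2) / t7))⁻¹ = xGL C.I.hSD' 7 t7 * g2z C.I 0 b c := by
    calc xGL C.I.hSD' 9 ((b + s * t7 ^ 2) / t7) * (xGL C.I.hSD' 7 t7 * g2z C.I 0 (s * t7 ^ 2) (s ^ 2 * t7)) *
          (xGL C.I.hSD' 9 ((b + s * t7 ^ 2) / t7))⁻¹
        = (xGL C.I.hSD' 9 ((b + s * t7 ^ 2) / t7) * xGL C.I.hSD' 7 t7 *
            (xGL C.I.hSD' 9 ((b + s * t7 ^ 2) / t7))⁻¹) *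
          (xGL C.I.hSD' 9 ((b + s * t7 ^ 2) / t7) * g2z C.I 0 (s * t7 ^ 2) (s ^ 2 * t7) *
            (xGL C.I.hSD' 9 ((b + s * t7 ^ 2) / t7))⁻¹) := by group
      _ = (xGL C.I.hSD' 7 t7 * g2z C.I 0 ((b + s * t7 ^ 2) / t7 * t7) 0) *
            g2z C.I 0 (s * t7 ^ 2) (s ^ 2 * t7) := by rw [g2_conj_9_7 C.I, e3, ← g2z_mid C.I]
      _ = xGL C.I.hSD' 7 t7 * g2z C.I 0 b c := by
        rw [mul_assoc, g2z_mul, hb, hc, zero_add, zero_add]
  have e4 : (xGL C.I.hSD' 9 ((b + s * t7 ^ 2) / t7) * xGL C.I.hSD' 8 s) * xGL C.I.hSD' 7 t7 *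
      (xGL C.I.hSD' 9 ((b + s * t7 ^ 2) / t7) * xGL C.I.hSD' 8 s)⁻¹ = xGL C.I.hSD' 7 t7 * g2z C.I 0 b c := by
    rw [← e2, ← e1]
    group
  have e5 : ∃ h ∈ chevG2.group F, h * (xGL C.I.hSD' 7 t7 * g2z C.I 0 b c) * h⁻¹ = xGL C.I.hSD' 7 t7 :=
    ⟨(xGL C.I.hSD' 9 ((b + s * t7 ^ 2) / t7) * xGL C.I.hSD' 8 s)⁻¹,
      inv_mem (mul_mem (g2_xGL_mem C (by norm_num) _) (g2_xGL_mem C (by norm_num) _)), by
        rw [← e4]
        group⟩
  exact hi_gconj_trans e5 (g2_short_conj C (Or.inl rfl) ht7)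

/-- The involutions of `U` are conjugate in `G₂(F)` to `x_11(1)` or to `x_9(1)`. -/
theorem g2_inv_class [Finite F] (C : ChevFacts chevG2 F η) {u : GL chevG2.Idx F}
    (hu : u ∈ chevG2.posUnipotent F) (h2 : u * u = 1) (h1 : u ≠ 1) :
    (∃ h ∈ chevG2.group F, h * u * h⁻¹ = xGL C.I.hSD' 11 1) ∨
      (∃ h ∈ chevG2.group F, h * u * h⁻¹ = xGL C.I.hSD' 9 1) := by
  obtain ⟨t6, t7, t8, a, b, c, hu_eq⟩ := g2_pos_form C.I hu
  have hinv : ∀ k v : GL chevG2.Idx F, v * v = 1 → (k * v * k⁻¹) * (k * v * k⁻¹) = 1 := by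
    intro k v hv
    calc (k * v * k⁻¹) * (k * v * k⁻¹) = k * (v * v) * k⁻¹ := by group
      _ = 1 := by rw [hv]; group
  have hi1 : 1 < chevG2.rank := by rw [g2_rank]; norm_num
  -- the coefficients of the two fundamental roots do not both occur
  have h67 : t6 * t7 = 0 := by
    obtain ⟨w0, hw0, e0⟩ := g2_mul_form C.I t6 t7 t8 t6 t7 t8 (g2z_mem_W C.I a b c) (g2z_mem_W C.I a b c)
    rw [← hu_eq, h2, CharTwo.add_self_eq_zero, CharTwo.add_self_eq_zero, xGL_zero, xGL_zero, one_mul,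
      one_mul, add_assoc, CharTwo.add_self_eq_zero, add_zero] at e0
    exact g2_lead8 C.I hw0 e0.symm
  by_cases h7 : t7 = 0
  · subst h7
    by_cases h6 : t6 = 0
    · subst h6
      by_cases h8 : t8 = 0
      · subst h8
        rw [xGL_zero, xGL_zero, xGL_zero, one_mul, one_mul, one_mul] at hu_eq
        subst hu_eq
        by_cases ha : a = 0
        · subst ha
          left
          by_cases hb : b = 0
          · subst hb
            have hc : c ≠ 0 := by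
              rintro rfl
              exact h1 (g2z_zero C.I)
            rw [g2z_last]
            exact g2_long_conj C (Or.inr (Or.inr rfl)) hc
          · have e := g2z_conj6 C.I (c / b) 0 b c
            rw [div_mul_cancel₀ _ hb, CharTwo.add_self_eq_zero, g2z_mid] at e
            exact hi_gconj_trans ⟨_, g2_xGL_mem C (by norm_num) _, e⟩
              (g2_long_conj C (Or.inr (Or.inl rfl)) hb)
        · right
          have e1 := g2z_conj7 C.I (b / a) a b c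
          rw [div_mul_cancel₀ _ ha, CharTwo.add_self_eq_zero] at e1
          have e2 := g2z_conj8 C.I (c / a) a 0 c
          rw [div_mul_cancel₀ _ ha, CharTwo.add_self_eq_zero, g2z_single] at e2
          exact hi_gconj_trans ⟨_, g2_xGL_mem C (by norm_num) _, e1⟩
            (hi_gconj_trans ⟨_, g2_xGL_mem C (by norm_num) _, e2⟩
              (g2_short_conj C (Or.inr (Or.inr rfl)) ha))
      · rw [xGL_zero, xGL_zero, one_mul, one_mul] at hu_eq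
        subst hu_eq
        have ha : a = 0 := by
          have e : (xGL C.I.hSD' 8 t8 * g2z C.I a b c) * (xGL C.I.hSD' 8 t8 * g2z C.I a b c) =
              g2z C.I 0 0 (t8 * a) := by
            calc (xGL C.I.hSD' 8 t8 * g2z C.I a b c) * (xGL C.I.hSD' 8 t8 * g2z C.I a b c)
                = (xGL C.I.hSD' 8 t8 * g2z C.I a b c * (xGL C.I.hSD' 8 t8)⁻¹) * g2z C.I a b c := by
                  rw [xGL_inv_two]; simp only [mul_assoc]
              _ = g2z C.I 0 0 (t8 * a) := by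
                rw [g2z_conj8, g2z_mul, CharTwo.add_self_eq_zero, CharTwo.add_self_eq_zero, add_assoc,
                  CharTwo.add_self_eq_zero, add_zero]
          rw [h2] at e
          have h0 := (g2z_inj C.I ((g2z_zero C.I).trans e)).2.2
          rcases mul_eq_zero.mp h0.symm with h | h
          · exact absurd h h8
          · exact h
        subst ha
        right
        have hact := rootAct_nGL C.I hi1 (F := F)
        have key : ∀ s, s < 12 → ∀ t : F, nGL C.I.hSD' 1 * xGL C.I.hSD' s t * (nGL C.I.hSD' 1)⁻¹ =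
            xGL C.I.hSD' (chevG2.reflectRoot 1 s) ((η 1 s : F) * t) :=
          fun s hs t => Units.ext (rootAct_conj hact (g2_lt hs) (xGL_coe C.I.hSD' s t))
        have e : nGL C.I.hSD' 1 * (xGL C.I.hSD' 8 t8 * g2z C.I 0 b c) * (nGL C.I.hSD' 1)⁻¹ =
            xGL C.I.hSD' 7 ((η 1 8 : F) * t8) * g2z C.I 0 ((η 1 11 : F) * c) ((η 1 10 : F) * b) := by
          rw [g2z_def, xGL_zero, one_mul, g2z_def, xGL_zero, one_mul]
          calc nGL C.I.hSD' 1 * (xGL C.I.hSD' 8 t8 * (xGL C.I.hSD' 10 b * xGL C.I.hSD' 11 c)) *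
                (nGL C.I.hSD' 1)⁻¹
              = (nGL C.I.hSD' 1 * xGL C.I.hSD' 8 t8 * (nGL C.I.hSD' 1)⁻¹) *
                ((nGL C.I.hSD' 1 * xGL C.I.hSD' 10 b * (nGL C.I.hSD' 1)⁻¹) *
                  (nGL C.I.hSD' 1 * xGL C.I.hSD' 11 c * (nGL C.I.hSD' 1)⁻¹)) := by group
            _ = xGL C.I.hSD' 7 ((η 1 8 : F) * t8) *
                (xGL C.I.hSD' 11 ((η 1 10 : F) * b) * xGL C.I.hSD' 10 ((η 1 11 : F) * c)) := by
              rw [key 8 (by norm_num), key 10 (by norm_num), key 11 (by norm_num), g2_refl1.2.2.1,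
                g2_refl1.2.2.2.2.1, g2_refl1.2.2.2.2.2]
            _ = _ := by rw [g2_commB C.I (by decide : (11, 10) ∈ g2PairsB)]
        exact hi_gconj_trans ⟨_, C.hNG (nGL_mem C.I hi1), e⟩
          (g2_short7 C (mul_ne_zero (rootAct_ne_zero' C.I hact (g2_lt (by norm_num : 8 < 12))) h8) _ _)
    · rw [xGL_zero, mul_one] at hu_eq
      subst hu_eq
      obtain ⟨w', hw', e⟩ := g2_conj7_form C.I (t8 / t6) t6 t8 (g2z_mem_W C.I a b c)
      rw [mul_div_cancel₀ _ h6, CharTwo.add_self_eq_zero, xGL_zero, mul_one] at e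
      obtain ⟨a1, b1, c1, rfl⟩ := hw'
      have hinv1 := hinv (xGL C.I.hSD' 7 (t8 / t6)) _ h2
      rw [e] at hinv1
      have hb1 : b1 = 0 := by
        have e' : (xGL C.I.hSD' 6 t6 * g2z C.I a1 b1 c1) * (xGL C.I.hSD' 6 t6 * g2z C.I a1 b1 c1) =
            g2z C.I 0 0 (t6 * b1) := by
          calc (xGL C.I.hSD' 6 t6 * g2z C.I a1 b1 c1) * (xGL C.I.hSD' 6 t6 * g2z C.I a1 b1 c1)
              = (xGL C.I.hSD' 6 t6 * g2z C.I a1 b1 c1 * (xGL C.I.hSD' 6 t6)⁻¹) * g2z C.I a1 b1 c1 := by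
                rw [xGL_inv_two]; simp only [mul_assoc]
            _ = g2z C.I 0 0 (t6 * b1) := by
              rw [g2z_conj6, g2z_mul, CharTwo.add_self_eq_zero, CharTwo.add_self_eq_zero, add_assoc,
                CharTwo.add_self_eq_zero, add_zero]
        rw [hinv1] at e'
        have h0 := (g2z_inj C.I ((g2z_zero C.I).trans e')).2.2
        rcases mul_eq_zero.mp h0.symm with h | h
        · exact absurd h h6
        · exact h
      subst hb1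
      have e2 : xGL C.I.hSD' 10 (c1 / t6) * (xGL C.I.hSD' 6 t6 * g2z C.I a1 0 c1) *
          (xGL C.I.hSD' 10 (c1 / t6))⁻¹ = xGL C.I.hSD' 6 t6 * xGL C.I.hSD' 9 a1 := by
        have e3 : xGL C.I.hSD' 10 (c1 / t6) * g2z C.I a1 0 c1 * (xGL C.I.hSD' 10 (c1 / t6))⁻¹ =
            g2z C.I a1 0 c1 := by
          apply hi_conj_of_comm
          rw [← g2z_mid C.I]
          exact g2z_comm C.I _ _ _ _ _ _
        calc xGL C.I.hSD' 10 (c1 / t6) * (xGL C.I.hSD' 6 t6 * g2z C.I a1 0 c1) *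
              (xGL C.I.hSD' 10 (c1 / t6))⁻¹
            = (xGL C.I.hSD' 10 (c1 / t6) * xGL C.I.hSD' 6 t6 * (xGL C.I.hSD' 10 (c1 / t6))⁻¹) *
              (xGL C.I.hSD' 10 (c1 / t6) * g2z C.I a1 0 c1 * (xGL C.I.hSD' 10 (c1 / t6))⁻¹) := by group
          _ = (xGL C.I.hSD' 6 t6 * g2z C.I 0 0 (c1 / t6 * t6)) * g2z C.I a1 0 c1 := by
            rw [g2_conj_10_6 C.I, e3, ← g2z_last C.I]
          _ = xGL C.I.hSD' 6 t6 * xGL C.I.hSD' 9 a1 := by
            rw [mul_assoc, g2z_mul, zero_add, zero_add, div_mul_cancel₀ _ h6, CharTwo.add_self_eq_zero,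
              g2z_single]
      by_cases ha1 : a1 = 0
      · subst ha1
        rw [xGL_zero, mul_one] at e2
        left
        exact hi_gconj_trans ⟨_, g2_xGL_mem C (by norm_num) _, e⟩
          (hi_gconj_trans ⟨_, g2_xGL_mem C (by norm_num) _, e2⟩ (g2_long_conj C (Or.inl rfl) h6))
      · right
        obtain ⟨s, hs⟩ := g2_sqrt (t6 / a1)
        have e4 : xGL C.I.hSD' 4 s * (xGL C.I.hSD' 6 t6 * xGL C.I.hSD' 9 a1) * (xGL C.I.hSD' 4 s)⁻¹ =
            g2z C.I a1 0 (s * a1 ^ 2) := by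
          calc xGL C.I.hSD' 4 s * (xGL C.I.hSD' 6 t6 * xGL C.I.hSD' 9 a1) * (xGL C.I.hSD' 4 s)⁻¹
              = (xGL C.I.hSD' 4 s * xGL C.I.hSD' 6 t6 * (xGL C.I.hSD' 4 s)⁻¹) *
                (xGL C.I.hSD' 4 s * xGL C.I.hSD' 9 a1 * (xGL C.I.hSD' 4 s)⁻¹) := by group
            _ = xGL C.I.hSD' 6 t6 * (xGL C.I.hSD' 9 a1 *
                (xGL C.I.hSD' 6 (s ^ 2 * a1) * xGL C.I.hSD' 11 (s * a1 ^ 2))) := by
              rw [hi_conj_of_comm (g2_commB C.I (by decide : (4, 6) ∈ g2PairsB) s t6), g2_conj_4_9 C.I]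
            _ = xGL C.I.hSD' 6 t6 * ((xGL C.I.hSD' 9 a1 * xGL C.I.hSD' 6 (s ^ 2 * a1)) *
                xGL C.I.hSD' 11 (s * a1 ^ 2)) := by simp only [mul_assoc]
            _ = (xGL C.I.hSD' 6 t6 * xGL C.I.hSD' 6 (s ^ 2 * a1)) * xGL C.I.hSD' 9 a1 *
                xGL C.I.hSD' 11 (s * a1 ^ 2) := by
              rw [g2_comm C.I (by decide : (9, 6) ∈ g2Pairs)]; simp only [mul_assoc]
            _ = g2z C.I a1 0 (s * a1 ^ 2) := by
              rw [← xGL_add, hs, div_mul_cancel₀ _ ha1, CharTwo.add_self_eq_zero, xGL_zero, one_mul,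
                g2z_def, xGL_zero, mul_one]
        have e5 := g2z_conj8 C.I (s * a1) a1 0 (s * a1 ^ 2)
        have h0 : s * a1 * a1 + s * a1 ^ 2 = 0 := by
          rw [pow_two, mul_assoc]
          exact CharTwo.add_self_eq_zero _
        rw [h0, g2z_single] at e5
        exact hi_gconj_trans ⟨_, g2_xGL_mem C (by norm_num) _, e⟩
          (hi_gconj_trans ⟨_, g2_xGL_mem C (by norm_num) _, e2⟩
            (hi_gconj_trans ⟨_, g2_xGL_mem C (by norm_num) _, e4⟩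
              (hi_gconj_trans ⟨_, g2_xGL_mem C (by norm_num) _, e5⟩
                (g2_short_conj C (Or.inr (Or.inr rfl)) ha1))))
  · have h6 : t6 = 0 := by
      rcases mul_eq_zero.mp h67 with h | h
      · exact h
      · exact absurd h h7
    subst h6
    rw [xGL_zero, one_mul] at hu_eq
    subst hu_eq
    obtain ⟨w', hw', e⟩ := g2_conj6_form C.I (t8 / t7) t7 t8 (g2z_mem_W C.I a b c)
    rw [div_mul_cancel₀ _ h7, CharTwo.add_self_eq_zero, xGL_zero, mul_one] at e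
    obtain ⟨a1, b1, c1, rfl⟩ := hw'
    have hinv1 := hinv (xGL C.I.hSD' 6 (t8 / t7)) _ h2
    rw [e] at hinv1
    have ha1 : a1 = 0 := by
      have e' : (xGL C.I.hSD' 7 t7 * g2z C.I a1 b1 c1) * (xGL C.I.hSD' 7 t7 * g2z C.I a1 b1 c1) =
          g2z C.I 0 (t7 * a1) 0 := by
        calc (xGL C.I.hSD' 7 t7 * g2z C.I a1 b1 c1) * (xGL C.I.hSD' 7 t7 * g2z C.I a1 b1 c1)
            = (xGL C.I.hSD' 7 t7 * g2z C.I a1 b1 c1 * (xGL C.I.hSD' 7 t7)⁻¹) * g2z C.I a1 b1 c1 := by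
              rw [xGL_inv_two]; simp only [mul_assoc]
          _ = g2z C.I 0 (t7 * a1) 0 := by
            rw [g2z_conj7, g2z_mul, CharTwo.add_self_eq_zero, CharTwo.add_self_eq_zero, add_assoc,
              CharTwo.add_self_eq_zero, add_zero]
      rw [hinv1] at e'
      have h0 := (g2z_inj C.I ((g2z_zero C.I).trans e')).2.1
      rcases mul_eq_zero.mp h0.symm with h | h
      · exact absurd h h7
      · exact h
    subst ha1
    right
    exact hi_gconj_trans ⟨_, g2_xGL_mem C (by norm_num) _, e⟩ (g2_short7 C h7 b1 c1)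

theorem g2_pos_cent11 (I : BNInput chevG2 F η) {u : GL chevG2.Idx F} (hu : u ∈ chevG2.posUnipotent F) (χ : F) :
    u * xGL I.hSD' 11 χ * u⁻¹ = xGL I.hSD' 11 χ := by
  obtain ⟨t6, t7, t8, a, b, c, rfl⟩ := g2_pos_form I hu
  apply hi_conj_of_comm
  have c6 := g2_comm I (by decide : (6, 11) ∈ g2Pairs) t6 χ
  have c7 := g2_comm I (by decide : (7, 11) ∈ g2Pairs) t7 χ
  have c8 := g2_commB I (by decide : (8, 11) ∈ g2PairsB) t8 χ
  have cz : g2z I a b c * xGL I.hSD' 11 χ = xGL I.hSD' 11 χ * g2z I a b c := by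
    rw [← g2z_last I χ]
    exact g2z_comm I _ _ _ _ _ _
  calc xGL I.hSD' 6 t6 * xGL I.hSD' 7 t7 * xGL I.hSD' 8 t8 * g2z I a b c * xGL I.hSD' 11 χ
      = xGL I.hSD' 6 t6 * xGL I.hSD' 7 t7 * xGL I.hSD' 8 t8 * (g2z I a b c * xGL I.hSD' 11 χ) := by
        simp only [mul_assoc]
    _ = xGL I.hSD' 6 t6 * xGL I.hSD' 7 t7 * (xGL I.hSD' 8 t8 * xGL I.hSD' 11 χ) * g2z I a b c := by
        rw [cz]; simp only [mul_assoc]
    _ = xGL I.hSD' 6 t6 * (xGL I.hSD' 7 t7 * xGL I.hSD' 11 χ) * xGL I.hSD' 8 t8 * g2z I a b c := by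
        rw [c8]; simp only [mul_assoc]
    _ = (xGL I.hSD' 6 t6 * xGL I.hSD' 11 χ) * xGL I.hSD' 7 t7 * xGL I.hSD' 8 t8 * g2z I a b c := by
        rw [c7]; simp only [mul_assoc]
    _ = _ := by rw [c6]; simp only [mul_assoc]

/-- The elements `x_11(1)` and `x_9(1)` are not conjugate in `G₂(F)`. -/
theorem g2_not_conj (C : ChevFacts chevG2 F η) {h : GL chevG2.Idx F} (hh : h ∈ chevG2.group F)
    (e : h * xGL C.I.hSD' 11 1 * h⁻¹ = xGL C.I.hSD' 9 1) : False := by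
  obtain ⟨b₁, hb₁, n, hn, b₂, hb₂, rfl⟩ := bruhat C.I C.hG hh
  obtain ⟨u, hu, d, hd, rfl⟩ := borel_decomp C.I hb₂
  obtain ⟨χ, hχ⟩ := rootAct_diag C.I hd
  have e1 : d * xGL C.I.hSD' 11 1 * d⁻¹ = xGL C.I.hSD' 11 (χ 11 * 1) :=
    Units.ext (rootAct_conj hχ (g2_lt (by norm_num)) (xGL_coe C.I.hSD' 11 1))
  have e2 : (u * d) * xGL C.I.hSD' 11 1 * (u * d)⁻¹ = xGL C.I.hSD' 11 (χ 11 * 1) := by
    calc (u * d) * xGL C.I.hSD' 11 1 * (u * d)⁻¹ = u * (d * xGL C.I.hSD' 11 1 * d⁻¹) * u⁻¹ := by group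
      _ = _ := by rw [e1, g2_pos_cent11 C.I hu]
  obtain ⟨x, y, z, hx, e3⟩ := g2_borel_conj C.I (inv_mem hb₁)
  rw [inv_inv] at e3
  have key : n * xGL C.I.hSD' 11 (χ 11 * 1) * n⁻¹ = g2z C.I x y z := by
    rw [← e2, ← e3, ← e]
    group
  obtain ⟨π, c, w, hπ, hw, he⟩ := rootAct_word C.I hn
  have e4 : n * xGL C.I.hSD' 11 (χ 11 * 1) * n⁻¹ = xGL C.I.hSD' (π 11) (c 11 * (χ 11 * 1)) :=
    Units.ext (rootAct_conj hπ (g2_lt (by norm_num)) (xGL_coe C.I.hSD' 11 _))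
  rw [e4] at key
  have hβ : c 11 * (χ 11 * 1) ≠ 0 := by
    rw [mul_one]
    exact mul_ne_zero (rootAct_ne_zero' C.I hπ (g2_lt (by norm_num)))
      (rootAct_ne_zero' C.I hχ (g2_lt (by norm_num)))
  have hlt : π 11 < chevG2.nroots := (hπ 11 (g2_lt (by norm_num))).1
  by_cases hpos : chevG2.nroots / 2 ≤ π 11
  · have hl1 : LeadAt chevG2 F (xGL C.I.hSD' (π 11) (c 11 * (χ 11 * 1))) (π 11) :=
      ⟨hpos, hlt, _, hβ, 1, one_mem_prodSet C.I.hSD' _ _, by rw [xGL_coe]; exact (mul_one _).symm⟩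
    rw [key] at hl1
    have h9 := leadAt_unique C.I hl1 (g2z_leadAt C.I hx y z)
    have ht := tup_of_ok g2_tupOK w (by rw [g2_rank]; exact hw)
    have hp := List.all_eq_true.mp g2_orb_prop _ ht
    simp only [List.map_cons, List.map_nil, ← he] at hp
    simp only [Bool.and_eq_true, Bool.or_eq_true, bne_iff_ne, beq_iff_eq, List.getD_cons_succ,
      List.getD_cons_zero, List.cons.injEq, and_true] at hp
    exact hp.2.2 h9
  · have hneg : xGL C.I.hSD' (π 11) (c 11 * (χ 11 * 1)) ∈ chevG2.negUnipotent F :=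
      C.xGL_neg hlt (by omega) _
    have h1 := borel_inf_neg C.I C.hN (by
      rw [key]
      exact Subgroup.mem_sup_left (g2z_mem_pos C.I x y z)) hneg
    rw [key] at h1
    exact hx (g2z_inj C.I (h1.trans (g2z_zero C.I).symm)).1

end G2C

/-- An element of order two of a finite group is conjugate into a given Sylow `2`-subgroup. -/
theorem hi_conj_into_sylow {G : Type*} [Group G] [Finite G] (P : Sylow 2 G) {g : G} (hg : orderOf g = 2) :
    ∃ k : G, k * g * k⁻¹ ∈ (P : Subgroup G) := by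
  have hpg : IsPGroup 2 (Subgroup.zpowers g) := by
    apply IsPGroup.of_card (n := 1)
    rw [Nat.card_zpowers, hg, pow_one]
  obtain ⟨Q, hQ⟩ := hpg.exists_le_sylow
  obtain ⟨k, hk⟩ := MulAction.exists_smul_eq G Q P
  refine ⟨k, ?_⟩
  have hgQ : g ∈ (Q : Subgroup G) := hQ (Subgroup.mem_zpowers g)
  rw [← hk, Sylow.coe_subgroup_smul]
  exact Subgroup.smul_mem_pointwise_smul g (MulAut.conj k) _ hgQ

section G2D

variable {F : Type*} [Field F] {η : ℕ → ℕ → ℤ} [CharP F 2]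

/-- The classes of involutions of `G₂(F)`, `F` finite of characteristic two, given that `U` is a Sylow
`2`-subgroup. -/
theorem g2_involution_classes [Finite F] (C : ChevFacts chevG2 F η)
    (hS : ∃ P : Sylow 2 ↥(chevG2.group F),
      (P : Subgroup ↥(chevG2.group F)) = (chevG2.posUnipotent F).subgroupOf (chevG2.group F)) :
    (∀ y : GL chevG2.Idx F, (y : Matrix chevG2.Idx chevG2.Idx F) ∈ [chevG2.x F 11 1, chevG2.x F 9 1] →
      y ∈ chevG2.group F ∧ orderOf y = 2) ∧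
    (∀ g ∈ chevG2.group F, orderOf g = 2 → ∃ y ∈ chevG2.group F,
      (y : Matrix chevG2.Idx chevG2.Idx F) ∈ [chevG2.x F 11 1, chevG2.x F 9 1] ∧
        ∃ h ∈ chevG2.group F, h * g * h⁻¹ = y) ∧
    (∀ y₁ ∈ chevG2.group F, ∀ y₂ ∈ chevG2.group F,
      (y₁ : Matrix chevG2.Idx chevG2.Idx F) ∈ [chevG2.x F 11 1, chevG2.x F 9 1] →
      (y₂ : Matrix chevG2.Idx chevG2.Idx F) ∈ [chevG2.x F 11 1, chevG2.x F 9 1] →
      (∃ h ∈ chevG2.group F, h * y₁ * h⁻¹ = y₂) →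
        (y₁ : Matrix chevG2.Idx chevG2.Idx F) = (y₂ : Matrix chevG2.Idx chevG2.Idx F)) := by
  have hlist : ∀ y : GL chevG2.Idx F,
      (y : Matrix chevG2.Idx chevG2.Idx F) ∈ [chevG2.x F 11 1, chevG2.x F 9 1] ↔
        y = xGL C.I.hSD' 11 1 ∨ y = xGL C.I.hSD' 9 1 := by
    intro y
    rw [List.mem_cons, List.mem_singleton]
    constructor
    · rintro (h | h)
      · exact Or.inl (eq_xGL _ h)
      · exact Or.inr (eq_xGL _ h)
    · rintro (rfl | rfl)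
      · exact Or.inl (xGL_coe _ _ _)
      · exact Or.inr (xGL_coe _ _ _)
  have hord : ∀ r, r < 12 → orderOf (xGL C.I.hSD' r (1 : F)) = 2 := by
    intro r hr
    apply orderOf_eq_prime
    · rw [pow_two, xGL_sq_two]
    · intro h
      rw [← xGL_zero C.I.hSD' r] at h
      exact one_ne_zero (xGL_inj C.I (g2_lt hr) h)
  refine ⟨?_, ?_, ?_⟩
  · intro y hy
    rcases (hlist y).mp hy with rfl | rfl
    · exact ⟨g2_xGL_mem C (by norm_num) 1, hord 11 (by norm_num)⟩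
    · exact ⟨g2_xGL_mem C (by norm_num) 1, hord 9 (by norm_num)⟩
  · intro g hg h2
    obtain ⟨P, hP⟩ := hS
    have h2' : orderOf (⟨g, hg⟩ : ↥(chevG2.group F)) = 2 := by
      rw [← h2]
      exact Subgroup.orderOf_mk g hg
    obtain ⟨k, hk⟩ := hi_conj_into_sylow P h2'
    rw [hP, Subgroup.mem_subgroupOf] at hk
    have hkU : (k : GL chevG2.Idx F) * g * (k : GL chevG2.Idx F)⁻¹ ∈ chevG2.posUnipotent F := hk
    have hgg : g * g = 1 := by
      have := pow_orderOf_eq_one g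
      rwa [h2, pow_two] at this
    have hu2 : ((k : GL chevG2.Idx F) * g * (k : GL chevG2.Idx F)⁻¹) *
        ((k : GL chevG2.Idx F) * g * (k : GL chevG2.Idx F)⁻¹) = 1 := by
      calc ((k : GL chevG2.Idx F) * g * (k : GL chevG2.Idx F)⁻¹) *
            ((k : GL chevG2.Idx F) * g * (k : GL chevG2.Idx F)⁻¹)
          = (k : GL chevG2.Idx F) * (g * g) * (k : GL chevG2.Idx F)⁻¹ := by group
        _ = 1 := by rw [hgg]; group
    have hu1 : (k : GL chevG2.Idx F) * g * (k : GL chevG2.Idx F)⁻¹ ≠ 1 := by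
      intro h
      have hg1 : g = 1 := by
        calc g = (k : GL chevG2.Idx F)⁻¹ * ((k : GL chevG2.Idx F) * g * (k : GL chevG2.Idx F)⁻¹) *
              (k : GL chevG2.Idx F) := by group
          _ = 1 := by rw [h]; group
      rw [hg1, orderOf_one] at h2
      exact absurd h2 (by norm_num)
    rcases g2_inv_class C hkU hu2 hu1 with ⟨h, hh, e⟩ | ⟨h, hh, e⟩
    · exact ⟨xGL C.I.hSD' 11 1, g2_xGL_mem C (by norm_num) 1, (hlist _).mpr (Or.inl rfl),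
        h * (k : GL chevG2.Idx F), mul_mem hh k.2, by rw [← e]; group⟩
    · exact ⟨xGL C.I.hSD' 9 1, g2_xGL_mem C (by norm_num) 1, (hlist _).mpr (Or.inr rfl),
        h * (k : GL chevG2.Idx F), mul_mem hh k.2, by rw [← e]; group⟩
  · rintro y₁ hy₁ y₂ hy₂ m₁ m₂ ⟨h, hh, e⟩
    rcases (hlist y₁).mp m₁ with rfl | rfl <;> rcases (hlist y₂).mp m₂ with rfl | rfl
    · rfl
    · exact (g2_not_conj C hh e).elim
    · exact (g2_not_conj C (inv_mem hh) (by rw [← e]; group)).elim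
    · rfl

end G2D

end Cfsg.Agent.Lib.helper22
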