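/-
helper22: the kernel-checked table facts for the centralisers of the highest root elements (and of the highest short
root element of `F₄`) in characteristic two, and the tables of words for pairs of conjugates of the highest root
subgroup.
-/
import Cfsg.Agent.Lib.helper22.ChevHigh
import Cfsg.Prelude.Def_ChevG2
import Cfsg.Prelude.Def_ChevD4
import Cfsg.Prelude.Def_ChevF4
import Cfsg.Prelude.Def_ChevE6
import Cfsg.Prelude.Def_ChevE7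
import Cfsg.Prelude.Def_ChevE8

set_option autoImplicit false

namespace Cfsg.Agent.Lib.helper22

open Cfsg.Lie

theorem highOK_E6 : highOK chevE6 71 1 = true := by decide +kernel

theorem highOK_E7 : highOK chevE7 125 0 = true := by decide +kernel

theorem highOK_E8 : highOK chevE8 239 7 = true := by decide +kernel

theorem highOK_F4_long : highOK chevF4 47 3 = true := by decide +kernel

theorem highOK_F4_short : highOK chevF4 44 0 = true := by decide +kernel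

theorem centUOK_G2 : centUOK chevG2 11 = true := by decide +kernel

theorem centUOK_D4 : centUOK chevD4 23 = true := by decide +kernel

theorem centUOK_E6 : centUOK chevE6 71 = true := by decide +kernel

theorem centUOK_E7 : centUOK chevE7 125 = true := by decide +kernel

theorem centUOK_E8 : centUOK chevE8 239 = true := by decide +kernel

/-- For each root `s` other than `-r` (`r` the highest root), a word of fundamental reflections moving both `r` and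
`s` to positive roots. -/
def pairTab_G2 : List (List ℕ) :=
  [[], [1, 0], [0, 1, 0], [0, 1], [0], [1], [], [], [], [], [], []]

theorem pairOK_G2 : pairOK chevG2 11 pairTab_G2 = true := by decide +kernel

/-- For each root `s` other than `-r` (`r` the highest root), a word of fundamental reflections moving both `r` and
`s` to positive roots. -/
def pairTab_D4 : List (List ℕ) :=
  [[], [0, 1, 2, 3], [0, 1, 2], [0, 1, 3], [0, 1], [0], [2, 1, 3], [2, 1], [3, 1], [1], [2], [3], [], [], [],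
   [], [], [], [], [], [], [], [], []]

theorem pairOK_D4 : pairOK chevD4 23 pairTab_D4 = true := by decide +kernel

/-- For each root `s` other than `-r` (`r` the highest root), a word of fundamental reflections moving both `r` and
`s` to positive roots. -/
def pairTab_E6 : List (List ℕ) :=
  [[], [0, 2, 3, 1, 4, 3, 2, 5, 4, 3], [0, 2, 3, 1, 4, 3, 2, 5, 4], [0, 2, 3, 1, 4, 3, 2, 5],
   [0, 2, 3, 1, 4, 3, 2], [0, 2, 3, 1, 4, 3, 5, 4], [0, 2, 3, 1, 4, 3, 5], [0, 2, 3, 1, 4, 3],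
   [0, 2, 3, 1, 4, 5], [0, 2, 3, 1, 4], [0, 2, 3, 1], [5, 4, 3, 2, 0], [4, 3, 2, 0], [3, 2, 0], [2, 0], [0],
   [2, 3, 1, 4, 3, 5, 4], [2, 3, 1, 4, 3, 5], [2, 3, 1, 4, 3], [2, 3, 1, 4, 5], [2, 3, 1, 4], [2, 3, 1],
   [5, 4, 3, 1], [4, 3, 1], [3, 1], [1], [5, 4, 3, 2], [4, 3, 2], [3, 2], [2], [5, 4, 3], [4, 3], [3], [5, 4],
   [4], [5], [], [], [], [], [], [], [], [], [], [], [], [], [], [], [], [], [], [], [], [], [], [], [], [],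
   [], [], [], [], [], [], [], [], [], [], [], []]

theorem pairOK_E6 : pairOK chevE6 71 pairTab_E6 = true := by decide +kernel

/-- For each root `s` other than `-r` (`r` the highest root), a word of fundamental reflections moving both `r` and
`s` to positive roots. -/
def pairTab_E7 : List (List ℕ) :=
  [[], [1, 3, 2, 0, 4, 3, 2, 5, 4, 3, 1, 6, 5, 4, 3, 2], [1, 3, 2, 0, 4, 3, 2, 5, 4, 3, 1, 6, 5, 4, 3],
   [1, 3, 2, 0, 4, 3, 2, 5, 4, 3, 1, 6, 5, 4], [1, 3, 2, 0, 4, 3, 2, 5, 4, 3, 1, 6, 5],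
   [1, 3, 2, 0, 4, 3, 2, 5, 4, 3, 1, 6], [1, 3, 2, 0, 4, 3, 2, 5, 4, 3, 1],
   [1, 3, 2, 0, 4, 3, 2, 5, 4, 3, 6, 5, 4], [1, 3, 2, 0, 4, 3, 2, 5, 4, 3, 6, 5],
   [1, 3, 2, 0, 4, 3, 2, 5, 4, 3, 6], [1, 3, 2, 0, 4, 3, 2, 5, 4, 3], [1, 3, 2, 0, 4, 3, 2, 5, 4, 6, 5],
   [1, 3, 2, 0, 4, 3, 2, 5, 4, 6], [1, 3, 2, 0, 4, 3, 2, 5, 4], [1, 3, 2, 0, 4, 3, 2, 5, 6],
   [1, 3, 2, 0, 4, 3, 2, 5], [1, 3, 2, 0, 4, 3, 2], [1, 3, 2, 0, 4, 3, 5, 4, 6, 5],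
   [1, 3, 2, 0, 4, 3, 5, 4, 6], [1, 3, 2, 0, 4, 3, 5, 4], [1, 3, 2, 0, 4, 3, 5, 6], [1, 3, 2, 0, 4, 3, 5],
   [1, 3, 2, 0, 4, 3], [1, 3, 2, 0, 4, 5, 6], [1, 3, 2, 0, 4, 5], [1, 3, 2, 0, 4], [1, 3, 2, 0],
   [6, 5, 4, 3, 2, 0], [5, 4, 3, 2, 0], [4, 3, 2, 0], [3, 2, 0], [2, 0], [0], [6, 5, 4, 3, 1, 2, 3, 4, 5],
   [6, 5, 4, 3, 1, 2, 3, 4], [5, 4, 3, 1, 2, 3, 4], [6, 5, 4, 3, 1, 2, 3], [5, 4, 3, 1, 2, 3], [4, 3, 1, 2, 3],
   [6, 5, 4, 3, 1, 2], [5, 4, 3, 1, 2], [4, 3, 1, 2], [3, 1, 2], [6, 5, 4, 3, 1], [5, 4, 3, 1], [4, 3, 1],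
   [3, 1], [1], [6, 5, 4, 3, 2], [5, 4, 3, 2], [4, 3, 2], [3, 2], [2], [6, 5, 4, 3], [5, 4, 3], [4, 3], [3],
   [6, 5, 4], [5, 4], [4], [6, 5], [5], [6], [], [], [], [], [], [], [], [], [], [], [], [], [], [], [], [],
   [], [], [], [], [], [], [], [], [], [], [], [], [], [], [], [], [], [], [], [], [], [], [], [], [], [], [],
   [], [], [], [], [], [], [], [], [], [], [], [], [], [], [], [], [], [], [], []]

theorem pairOK_E7 : pairOK chevE7 125 pairTab_E7 = true := by decide +kernel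

/-- For each root `s` other than `-r` (`r` the highest root), a word of fundamental reflections moving both `r` and
`s` to positive roots. -/
def pairTab_E8 : List (List ℕ) :=
  [[], [0, 2, 3, 1, 4, 3, 2, 5, 4, 3, 1, 6, 5, 4, 3, 2, 0, 7, 6, 5, 4, 3, 1, 2, 3, 4, 5, 6],
   [0, 2, 3, 1, 4, 3, 2, 5, 4, 3, 1, 6, 5, 4, 3, 2, 0, 7, 6, 5, 4, 3, 1, 2, 3, 4, 5],
   [0, 2, 3, 1, 4, 3, 2, 5, 4, 3, 1, 6, 5, 4, 3, 2, 0, 7, 6, 5, 4, 3, 1, 2, 3, 4],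
   [0, 2, 3, 1, 4, 3, 2, 5, 4, 3, 1, 6, 5, 4, 3, 2, 0, 7, 6, 5, 4, 3, 1, 2, 3],
   [0, 2, 3, 1, 4, 3, 2, 5, 4, 3, 1, 6, 5, 4, 3, 2, 0, 7, 6, 5, 4, 3, 1, 2],
   [0, 2, 3, 1, 4, 3, 2, 5, 4, 3, 1, 6, 5, 4, 3, 2, 0, 7, 6, 5, 4, 3, 1],
   [0, 2, 3, 1, 4, 3, 2, 5, 4, 3, 1, 6, 5, 4, 3, 2, 0, 7, 6, 5, 4, 3, 2],
   [0, 2, 3, 1, 4, 3, 2, 5, 4, 3, 1, 6, 5, 4, 3, 2, 0, 7, 6, 5, 4, 3],
   [0, 2, 3, 1, 4, 3, 2, 5, 4, 3, 1, 6, 5, 4, 3, 2, 0, 7, 6, 5, 4],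
   [0, 2, 3, 1, 4, 3, 2, 5, 4, 3, 1, 6, 5, 4, 3, 2, 0, 7, 6, 5],
   [0, 2, 3, 1, 4, 3, 2, 5, 4, 3, 1, 6, 5, 4, 3, 2, 0, 7, 6],
   [0, 2, 3, 1, 4, 3, 2, 5, 4, 3, 1, 6, 5, 4, 3, 2, 0, 7], [6, 5, 4, 3, 1, 2, 0, 3, 2, 4, 3, 1, 5, 4, 3, 2, 0],
   [0, 2, 3, 1, 4, 3, 2, 5, 4, 3, 1, 6, 5, 4, 3, 2, 7, 6, 5, 4, 3, 1],
   [0, 2, 3, 1, 4, 3, 2, 5, 4, 3, 1, 6, 5, 4, 3, 2, 7, 6, 5, 4, 3],
   [0, 2, 3, 1, 4, 3, 2, 5, 4, 3, 1, 6, 5, 4, 3, 2, 7, 6, 5, 4],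
   [0, 2, 3, 1, 4, 3, 2, 5, 4, 3, 1, 6, 5, 4, 3, 2, 7, 6, 5],
   [0, 2, 3, 1, 4, 3, 2, 5, 4, 3, 1, 6, 5, 4, 3, 2, 7, 6], [0, 2, 3, 1, 4, 3, 2, 5, 4, 3, 1, 6, 5, 4, 3, 2, 7],
   [6, 5, 4, 3, 1, 2, 0, 3, 2, 4, 3, 1, 5, 4, 3, 2], [0, 2, 3, 1, 4, 3, 2, 5, 4, 3, 1, 6, 5, 4, 3, 7, 6, 5, 4],
   [0, 2, 3, 1, 4, 3, 2, 5, 4, 3, 1, 6, 5, 4, 3, 7, 6, 5], [0, 2, 3, 1, 4, 3, 2, 5, 4, 3, 1, 6, 5, 4, 3, 7, 6],
   [0, 2, 3, 1, 4, 3, 2, 5, 4, 3, 1, 6, 5, 4, 3, 7], [6, 5, 4, 3, 1, 2, 0, 3, 2, 4, 3, 1, 5, 4, 3],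
   [0, 2, 3, 1, 4, 3, 2, 5, 4, 3, 1, 6, 5, 4, 7, 6, 5], [0, 2, 3, 1, 4, 3, 2, 5, 4, 3, 1, 6, 5, 4, 7, 6],
   [0, 2, 3, 1, 4, 3, 2, 5, 4, 3, 1, 6, 5, 4, 7], [6, 5, 4, 3, 1, 2, 0, 3, 2, 4, 3, 1, 5, 4],
   [0, 2, 3, 1, 4, 3, 2, 5, 4, 3, 1, 6, 5, 7, 6], [0, 2, 3, 1, 4, 3, 2, 5, 4, 3, 1, 6, 5, 7],
   [6, 5, 4, 3, 1, 2, 0, 3, 2, 4, 3, 1, 5], [0, 2, 3, 1, 4, 3, 2, 5, 4, 3, 1, 6, 7],
   [6, 5, 4, 3, 1, 2, 0, 3, 2, 4, 3, 1], [5, 4, 3, 1, 2, 0, 3, 2, 4, 3, 1],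
   [0, 2, 3, 1, 4, 3, 2, 5, 4, 3, 6, 5, 4, 7, 6, 5], [0, 2, 3, 1, 4, 3, 2, 5, 4, 3, 6, 5, 4, 7, 6],
   [0, 2, 3, 1, 4, 3, 2, 5, 4, 3, 6, 5, 4, 7], [6, 5, 4, 3, 1, 2, 0, 3, 2, 4, 3, 5, 4],
   [0, 2, 3, 1, 4, 3, 2, 5, 4, 3, 6, 5, 7, 6], [0, 2, 3, 1, 4, 3, 2, 5, 4, 3, 6, 5, 7],
   [6, 5, 4, 3, 1, 2, 0, 3, 2, 4, 3, 5], [0, 2, 3, 1, 4, 3, 2, 5, 4, 3, 6, 7],
   [6, 5, 4, 3, 1, 2, 0, 3, 2, 4, 3], [5, 4, 3, 1, 2, 0, 3, 2, 4, 3], [0, 2, 3, 1, 4, 3, 2, 5, 4, 6, 5, 7, 6],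
   [0, 2, 3, 1, 4, 3, 2, 5, 4, 6, 5, 7], [6, 5, 4, 3, 1, 2, 0, 3, 2, 4, 5], [0, 2, 3, 1, 4, 3, 2, 5, 4, 6, 7],
   [6, 5, 4, 3, 1, 2, 0, 3, 2, 4], [5, 4, 3, 1, 2, 0, 3, 2, 4], [0, 2, 3, 1, 4, 3, 2, 5, 6, 7],
   [6, 5, 4, 3, 1, 2, 0, 3, 2], [5, 4, 3, 1, 2, 0, 3, 2], [4, 3, 1, 2, 0, 3, 2],
   [0, 2, 3, 1, 4, 3, 5, 4, 6, 5, 7, 6], [0, 2, 3, 1, 4, 3, 5, 4, 6, 5, 7], [6, 5, 4, 3, 1, 2, 0, 3, 4, 5],
   [0, 2, 3, 1, 4, 3, 5, 4, 6, 7], [6, 5, 4, 3, 1, 2, 0, 3, 4], [5, 4, 3, 1, 2, 0, 3, 4],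
   [0, 2, 3, 1, 4, 3, 5, 6, 7], [6, 5, 4, 3, 1, 2, 0, 3], [5, 4, 3, 1, 2, 0, 3], [4, 3, 1, 2, 0, 3],
   [0, 2, 3, 1, 4, 5, 6, 7], [6, 5, 4, 3, 1, 2, 0], [5, 4, 3, 1, 2, 0], [4, 3, 1, 2, 0], [3, 1, 2, 0],
   [0, 2, 3, 4, 5, 6, 7], [6, 5, 4, 3, 2, 0], [5, 4, 3, 2, 0], [4, 3, 2, 0], [3, 2, 0], [2, 0], [0],
   [1, 3, 2, 4, 3, 5, 4, 6, 5, 7, 6], [1, 3, 2, 4, 3, 5, 4, 6, 5, 7], [6, 5, 4, 3, 1, 2, 3, 4, 5],
   [1, 3, 2, 4, 3, 5, 4, 6, 7], [6, 5, 4, 3, 1, 2, 3, 4], [5, 4, 3, 1, 2, 3, 4], [1, 3, 2, 4, 3, 5, 6, 7],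
   [6, 5, 4, 3, 1, 2, 3], [5, 4, 3, 1, 2, 3], [4, 3, 1, 2, 3], [1, 3, 2, 4, 5, 6, 7], [6, 5, 4, 3, 1, 2],
   [5, 4, 3, 1, 2], [4, 3, 1, 2], [3, 1, 2], [1, 3, 4, 5, 6, 7], [6, 5, 4, 3, 1], [5, 4, 3, 1], [4, 3, 1],
   [3, 1], [1], [2, 3, 4, 5, 6, 7], [6, 5, 4, 3, 2], [5, 4, 3, 2], [4, 3, 2], [3, 2], [2], [3, 4, 5, 6, 7],
   [6, 5, 4, 3], [5, 4, 3], [4, 3], [3], [4, 5, 6, 7], [6, 5, 4], [5, 4], [4], [5, 6, 7], [6, 5], [5], [6, 7],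
   [6], [7], [], [], [], [], [], [], [], [], [], [], [], [], [], [], [], [], [], [], [], [], [], [], [], [],
   [], [], [], [], [], [], [], [], [], [], [], [], [], [], [], [], [], [], [], [], [], [], [], [], [], [], [],
   [], [], [], [], [], [], [], [], [], [], [], [], [], [], [], [], [], [], [], [], [], [], [], [], [], [], [],
   [], [], [], [], [], [], [], [], [], [], [], [], [], [], [], [], [], [], [], [], [], [], [], [], [], [], [],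
   [], [], [], [], [], [], [], [], [], [], [], [], [], [], []]

theorem pairOK_E8_c0 : (List.range' (0 * 10) 10).all (pairCell chevE8 239 pairTab_E8) = true := by
  decide +kernel

theorem pairOK_E8_c1 : (List.range' (1 * 10) 10).all (pairCell chevE8 239 pairTab_E8) = true := by
  decide +kernel

theorem pairOK_E8_c2 : (List.range' (2 * 10) 10).all (pairCell chevE8 239 pairTab_E8) = true := by
  decide +kernel

theorem pairOK_E8_c3 : (List.range' (3 * 10) 10).all (pairCell chevE8 239 pairTab_E8) = true := by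
  decide +kernel

theorem pairOK_E8_c4 : (List.range' (4 * 10) 10).all (pairCell chevE8 239 pairTab_E8) = true := by
  decide +kernel

theorem pairOK_E8_c5 : (List.range' (5 * 10) 10).all (pairCell chevE8 239 pairTab_E8) = true := by
  decide +kernel

theorem pairOK_E8_c6 : (List.range' (6 * 10) 10).all (pairCell chevE8 239 pairTab_E8) = true := by
  decide +kernel

theorem pairOK_E8_c7 : (List.range' (7 * 10) 10).all (pairCell chevE8 239 pairTab_E8) = true := by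
  decide +kernel

theorem pairOK_E8_c8 : (List.range' (8 * 10) 10).all (pairCell chevE8 239 pairTab_E8) = true := by
  decide +kernel

theorem pairOK_E8_c9 : (List.range' (9 * 10) 10).all (pairCell chevE8 239 pairTab_E8) = true := by
  decide +kernel

theorem pairOK_E8_c10 : (List.range' (10 * 10) 10).all (pairCell chevE8 239 pairTab_E8) = true := by
  decide +kernel

theorem pairOK_E8_c11 : (List.range' (11 * 10) 10).all (pairCell chevE8 239 pairTab_E8) = true := by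
  decide +kernel

theorem pairOK_E8_c12 : (List.range' (12 * 10) 10).all (pairCell chevE8 239 pairTab_E8) = true := by
  decide +kernel

theorem pairOK_E8_c13 : (List.range' (13 * 10) 10).all (pairCell chevE8 239 pairTab_E8) = true := by
  decide +kernel

theorem pairOK_E8_c14 : (List.range' (14 * 10) 10).all (pairCell chevE8 239 pairTab_E8) = true := by
  decide +kernel

theorem pairOK_E8_c15 : (List.range' (15 * 10) 10).all (pairCell chevE8 239 pairTab_E8) = true := by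
  decide +kernel

theorem pairOK_E8_c16 : (List.range' (16 * 10) 10).all (pairCell chevE8 239 pairTab_E8) = true := by
  decide +kernel

theorem pairOK_E8_c17 : (List.range' (17 * 10) 10).all (pairCell chevE8 239 pairTab_E8) = true := by
  decide +kernel

theorem pairOK_E8_c18 : (List.range' (18 * 10) 10).all (pairCell chevE8 239 pairTab_E8) = true := by
  decide +kernel

theorem pairOK_E8_c19 : (List.range' (19 * 10) 10).all (pairCell chevE8 239 pairTab_E8) = true := by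
  decide +kernel

theorem pairOK_E8_c20 : (List.range' (20 * 10) 10).all (pairCell chevE8 239 pairTab_E8) = true := by
  decide +kernel

theorem pairOK_E8_c21 : (List.range' (21 * 10) 10).all (pairCell chevE8 239 pairTab_E8) = true := by
  decide +kernel

theorem pairOK_E8_c22 : (List.range' (22 * 10) 10).all (pairCell chevE8 239 pairTab_E8) = true := by
  decide +kernel

theorem pairOK_E8_c23 : (List.range' (23 * 10) 10).all (pairCell chevE8 239 pairTab_E8) = true := by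
  decide +kernel

theorem pairOK_E8 : pairOK chevE8 239 pairTab_E8 = true := by
  refine pairOK_of_chunks 10 24 (by decide) ?_
  intro j hj
  interval_cases j
  · exact pairOK_E8_c0
  · exact pairOK_E8_c1
  · exact pairOK_E8_c2
  · exact pairOK_E8_c3
  · exact pairOK_E8_c4
  · exact pairOK_E8_c5
  · exact pairOK_E8_c6
  · exact pairOK_E8_c7
  · exact pairOK_E8_c8
  · exact pairOK_E8_c9
  · exact pairOK_E8_c10
  · exact pairOK_E8_c11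
  · exact pairOK_E8_c12
  · exact pairOK_E8_c13
  · exact pairOK_E8_c14
  · exact pairOK_E8_c15
  · exact pairOK_E8_c16
  · exact pairOK_E8_c17
  · exact pairOK_E8_c18
  · exact pairOK_E8_c19
  · exact pairOK_E8_c20
  · exact pairOK_E8_c21
  · exact pairOK_E8_c22
  · exact pairOK_E8_c23

end Cfsg.Agent.Lib.helper22
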