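import Cfsg.Agent.Lib.helper22.ChevG2Cls
import Cfsg.Agent.Lib.helper22.ChevBNPair
import Cfsg.Agent.Lib.helper8.BNPairBruhat

/-!
Involutions of a Chevalley group over a finite field of odd order: every involution is conjugate
into `N`; conjugation of an element of `N` inverting a root by the elements of the rank one
subgroup of that root.
-/

set_option autoImplicit false

namespace Cfsg.Agent.Lib.helper22

open Cfsg.Lie

section Grp

/-- `n v` with `n² = 1`, `v` of odd order inverted by `n`, is conjugate to `n`. -/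
theorem odd_conj_inv {G : Type*} [Group G] {n v : G} (hn : n * n = 1) (hv : n * v * n⁻¹ = v⁻¹)
    (hodd : Odd (orderOf v)) : ∃ c ∈ Subgroup.zpowers v, c * (n * v) * c⁻¹ = n := by
  obtain ⟨k, hk⟩ := hodd
  refine ⟨v ^ (k + 1), Subgroup.pow_mem _ (Subgroup.mem_zpowers v) _, ?_⟩
  have h1 : v ^ (k + 1) * v ^ (k + 1) = v := by
    rw [← pow_add]
    have : k + 1 + (k + 1) = orderOf v + 1 := by omega
    rw [this, pow_succ, pow_orderOf_eq_one, one_mul]
  have h2 : n * v ^ (k + 1) * n⁻¹ = (v ^ (k + 1))⁻¹ := by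
    have : n * v ^ (k + 1) * n⁻¹ = (n * v * n⁻¹) ^ (k + 1) := by
      rw [conj_pow]
    rw [this, hv, inv_pow]
  have h3 : n * v ^ (k + 1) = (v ^ (k + 1))⁻¹ * n := by
    rw [← h2]
    group
  calc v ^ (k + 1) * (n * v) * (v ^ (k + 1))⁻¹
      = v ^ (k + 1) * (n * (v ^ (k + 1) * v ^ (k + 1))) * (v ^ (k + 1))⁻¹ := by rw [h1]
    _ = v ^ (k + 1) * (n * v ^ (k + 1)) := by group
    _ = n := by rw [h3]; group

end Grp

section Step1

variable {D : ChevalleyDatum} {F : Type*} [Field F] {η : ℕ → ℕ → ℤ}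

/-- An element `c d` with `c ∈ U`, `d` in the torus, which is unipotent has `d = 1`. -/
theorem torus_eq_one_of_unipotent (I : BNInput D F η) {c d : GL D.Idx F}
    (hc : c ∈ D.posUnipotent F) (hd : d ∈ torus D F)
    (hnil : (((c * d : GL D.Idx F) : Matrix D.Idx D.Idx F) - 1) ^ (D.nroots + D.rank) = 0) : d = 1 := by
  have hUtri := posUnipotent_le_uniK I.posOK (F := F)
  have hctri : TriK (rho D) 0 (c : Matrix D.Idx D.Idx F) := triK_of_mem_uniK (hUtri hc)
  have hdtri : TriK (rho D) 0 (d : Matrix D.Idx D.Idx F) := torus_triK hd _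
  have hT : TriK (rho D) 0 (((c * d : GL D.Idx F) : Matrix D.Idx D.Idx F) - 1) := by
    rw [Units.val_mul]
    exact (hctri.mul hdtri).sub triK_one
  have hcdiag : ∀ x, (c : Matrix D.Idx D.Idx F) x x = 1 := by
    intro x
    by_contra hne
    have h4 : ((c : Matrix D.Idx D.Idx F) - 1) x x ≠ 0 := by
      rw [Matrix.sub_apply, Matrix.one_apply_eq]
      exact sub_ne_zero.mpr hne
    have := hUtri hc x x h4
    omega
  have hddiag : ∀ x, (d : Matrix D.Idx D.Idx F) x x = 1 := by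
    intro x
    have h5 := congrFun (congrFun hnil x) x
    rw [diag_pow_of_triK (rho_injective D) hT, Matrix.zero_apply] at h5
    have h6 := pow_eq_zero_iff (n := D.nroots + D.rank) (by
      have := rho_lt D x
      omega) |>.mp h5
    rw [Matrix.sub_apply, Matrix.one_apply_eq, Units.val_mul,
      diag_mul_of_triK (rho_injective D) hctri hdtri, hcdiag, one_mul] at h6
    exact sub_eq_zero.mp h6
  apply Units.ext
  ext x z
  by_cases hxz : x = z
  · subst hxz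
    rw [hddiag, Units.val_one, Matrix.one_apply_eq]
  · rw [torus_apply_ne hd hxz, Units.val_one, Matrix.one_apply_ne hxz]

/-- Every involution of a Chevalley group over a finite field of odd order is conjugate to an
involution of `N`. -/
theorem involution_conj_monomial [Fintype F] (I : BNInput D F η) (hBG : D.borelSubgroup F ≤ D.group F)
    (hNG : D.monomialSubgroup F ≤ D.group F) (hG : D.group F ≤ D.borelSubgroup F ⊔ D.monomialSubgroup F)
    (hF : Odd (Fintype.card F)) {g : GL D.Idx F} (hg : g ∈ D.group F) (hgg : g * g = 1) :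
    ∃ k ∈ D.group F, ∃ n ∈ D.monomialSubgroup F, n * n = 1 ∧ k * g * k⁻¹ = n := by
  obtain ⟨P, hPB, hPN, -⟩ := chev_bnPair I hBG hNG hG
  have hHT : D.diagonalSubgroup F ≤ torus D F := diagonalSubgroup_le_torus I.hSD'
  have hHN : D.diagonalSubgroup F ≤ D.monomialSubgroup F := le_sup_left
  have hUB : D.posUnipotent F ≤ D.borelSubgroup F := le_sup_left
  obtain ⟨b₁, hb₁, n₀, hn₀, b₂, hb₂, rfl⟩ := bruhat I hG hg
  obtain ⟨u, hu, k, hk, hb⟩ := borel_decomp I (mul_mem hb₂ hb₁)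
  have hn : n₀ * k ∈ D.monomialSubgroup F := mul_mem hn₀ (hHN hk)
  have hv : k⁻¹ * u * k ∈ D.posUnipotent F := by
    have := diag_conj_mem_pos I (inv_mem hk) hu
    rwa [inv_inv] at this
  have e1 : b₁⁻¹ * (b₁ * n₀ * b₂) * b₁ = (n₀ * k) * (k⁻¹ * u * k) := by
    have : b₁⁻¹ * (b₁ * n₀ * b₂) * b₁ = n₀ * (b₂ * b₁) := by group
    rw [this, hb]
    group
  generalize n₀ * k = n at hn e1
  generalize k⁻¹ * u * k = v at hv e1
  have e2 : (n * v) * (n * v) = 1 := by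
    rw [← e1]
    have : b₁⁻¹ * (b₁ * n₀ * b₂) * b₁ * (b₁⁻¹ * (b₁ * n₀ * b₂) * b₁) =
        b₁⁻¹ * ((b₁ * n₀ * b₂) * (b₁ * n₀ * b₂)) * b₁ := by group
    rw [this, hgg]
    group
  have e3 : n = v⁻¹ * n⁻¹ * v⁻¹ := by
    have : v⁻¹ * n⁻¹ * v⁻¹ = ((n * v) * (n * v))⁻¹ * n := by group
    rw [this, e2, inv_one, one_mul]
  have hnG : n ∈ D.group F := hNG hn
  have hvG : v ∈ D.group F := hBG (hUB hv)
  have hR : helper8.R P (⟨n, hnG⟩ : ↥(D.group F)) (⟨n, hnG⟩ : ↥(D.group F))⁻¹ := by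
    apply helper8.bruhat_unique P
    · rw [hPN, Subgroup.mem_subgroupOf]
      exact hn
    · rw [hPN, Subgroup.mem_subgroupOf]
      exact inv_mem hn
    · rw [helper8.mem_dc_iff]
      refine ⟨(⟨v, hvG⟩ : ↥(D.group F))⁻¹, ?_, (⟨v, hvG⟩ : ↥(D.group F))⁻¹, ?_, ?_⟩
      · rw [hPB, Subgroup.mem_subgroupOf]
        exact inv_mem (hUB hv)
      · rw [hPB, Subgroup.mem_subgroupOf]
        exact inv_mem (hUB hv)
      · apply Subtype.ext
        exact e3
  have h4 : n⁻¹ * n⁻¹ ∈ D.borelSubgroup F := by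
    have := hR.2.2
    rw [hPB, Subgroup.mem_subgroupOf] at this
    exact this
  have h5 : n⁻¹ * n⁻¹ ∈ D.diagonalSubgroup F := by
    rw [← borelSubgroup_inf_monomialSubgroup I.hSD I.posOK]
    exact Subgroup.mem_inf.mpr ⟨h4, mul_mem (inv_mem hn) (inv_mem hn)⟩
  have e4 : n * v * n⁻¹ = v⁻¹ * (n⁻¹ * n⁻¹) := by
    have : n * v * n⁻¹ = ((n * v) * (n * v)) * (v⁻¹ * (n⁻¹ * n⁻¹)) := by group
    rw [this, e2, one_mul]
  have hnil : (((v⁻¹ * (n⁻¹ * n⁻¹) : GL D.Idx F) : Matrix D.Idx D.Idx F) - 1) ^ (D.nroots + D.rank) = 0 := by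
    rw [← e4]
    have h3 : ((n * v * n⁻¹ : GL D.Idx F) : Matrix D.Idx D.Idx F) - 1 =
        (n : Matrix D.Idx D.Idx F) * ((v : Matrix D.Idx D.Idx F) - 1) *
          ((n⁻¹ : GL D.Idx F) : Matrix D.Idx D.Idx F) := by
      have e5 : (n : Matrix D.Idx D.Idx F) * ((n⁻¹ : GL D.Idx F) : Matrix D.Idx D.Idx F) = 1 := by
        rw [← Units.val_mul, mul_inv_cancel, Units.val_one]
      rw [mul_sub, sub_mul, mul_one, e5, Units.val_mul, Units.val_mul]
    rw [h3, Units.conj_pow, TriK.pow_eq_zero (posUnipotent_le_uniK I.posOK hv) (rho_lt D), mul_zero,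
      zero_mul]
  have h6 : n⁻¹ * n⁻¹ = 1 := torus_eq_one_of_unipotent I (c := v⁻¹) (d := n⁻¹ * n⁻¹) (inv_mem hv) (hHT h5) hnil
  have hnn : n * n = 1 := by
    have : n * n = (n⁻¹ * n⁻¹)⁻¹ := by rw [mul_inv_rev, inv_inv]
    rw [this, h6, inv_one]
  have e7 : n * v * n⁻¹ = v⁻¹ := by rw [e4, h6, mul_one]
  have hodd : Odd (orderOf v) := by
    have hcard := card_posUnipotent I.hSD' I.hU I.hcomm (F := F)
    have h8 : orderOf (⟨v, hv⟩ : D.posUnipotent F) ∣ Nat.card (D.posUnipotent F) := orderOf_dvd_natCard _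
    rw [hcard, Subgroup.orderOf_mk] at h8
    exact (hF.pow).of_dvd_nat h8
  obtain ⟨c, hc, e8⟩ := odd_conj_inv hnn e7 hodd
  have hcU : c ∈ D.posUnipotent F := (Subgroup.zpowers_le.mpr hv) hc
  refine ⟨c * b₁⁻¹, mul_mem (hBG (hUB hcU)) (inv_mem (hBG hb₁)), n, hn, hnn, ?_⟩
  have : c * b₁⁻¹ * (b₁ * n₀ * b₂) * (c * b₁⁻¹)⁻¹ = c * (b₁⁻¹ * (b₁ * n₀ * b₂) * b₁) * c⁻¹ := by group
  rw [this, e1, e8]

end Step1

end Cfsg.Agent.Lib.helper22
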