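import Cfsg.Agent.Lib.helper22.ChevOddA

/-!
Conjugation of an involution of `N` inverting a root `r` by the elements of the rank one subgroup
`⟨X_r, X_{-r}⟩`.
-/

set_option autoImplicit false

namespace Cfsg.Agent.Lib.helper22

open Cfsg.Lie

section SL2Tw

variable {F : Type*} [Field F]

/-- Conjugation by `[[0, 1], [κ, 0]]` on `SL₂`. -/
def sl2Tw (κ : F) (hκ : κ ≠ 0) :
    Matrix.SpecialLinearGroup (Fin 2) F →* Matrix.SpecialLinearGroup (Fin 2) F where
  toFun M := ⟨!![M.1 1 1, M.1 1 0 * κ⁻¹; κ * M.1 0 1, M.1 0 0], by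
    have h := M.2
    rw [Matrix.det_fin_two] at h
    rw [Matrix.det_fin_two_of]
    field_simp
    linear_combination h⟩
  map_one' := by
    apply Subtype.ext
    ext i j
    fin_cases i <;> fin_cases j <;> simp
  map_mul' M N := by
    apply Subtype.ext
    show !![(M * N).1 1 1, (M * N).1 1 0 * κ⁻¹; κ * (M * N).1 0 1, (M * N).1 0 0] =
      !![M.1 1 1, M.1 1 0 * κ⁻¹; κ * M.1 0 1, M.1 0 0] * !![N.1 1 1, N.1 1 0 * κ⁻¹; κ * N.1 0 1, N.1 0 0]
    rw [Matrix.SpecialLinearGroup.coe_mul]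
    ext i j
    fin_cases i <;> fin_cases j <;>
      simp [Matrix.mul_apply, Fin.sum_univ_two] <;> field_simp <;> ring

theorem sl2Tw_coe (κ : F) (hκ : κ ≠ 0) (M : Matrix.SpecialLinearGroup (Fin 2) F) :
    (sl2Tw κ hκ M : Matrix (Fin 2) (Fin 2) F) = !![M.1 1 1, M.1 1 0 * κ⁻¹; κ * M.1 0 1, M.1 0 0] := rfl

end SL2Tw

section RankOne

variable {D : ChevalleyDatum} {F : Type*} [Field F] {η : ℕ → ℕ → ℤ}

/-- The label of the image of a root element under an element acting on the root elements. -/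
theorem rootAct_label (I : BNInput D F η) {n : GL D.Idx F} {π : ℕ → ℕ} {c : ℕ → F}
    (h : RootAct D F (n : Matrix D.Idx D.Idx F) π c) {s q : ℕ} (hs : s < D.nroots) (hq : q < D.nroots)
    {a b : F} (ha : a ≠ 0)
    (e : (n : Matrix D.Idx D.Idx F) * D.x F s a = D.x F q b * (n : Matrix D.Idx D.Idx F)) : π s = q := by
  obtain ⟨h1, -, h3⟩ := h s hs
  have e1 : D.x F (π s) (c s * a) = D.x F q b := by
    have e2 := (h3 a).symm.trans e
    have := congrArg (fun M => M * ((n⁻¹ : GL D.Idx F) : Matrix D.Idx D.Idx F)) e2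
    simp only [mul_assoc, ← Units.val_mul, mul_inv_cancel, Units.val_one, mul_one] at this
    exact this
  exact x_label_inj I h1 hq (mul_ne_zero (rootAct_ne_zero' I h hs) ha) e1

theorem sl2Hom_sl2h_mem {r : ℕ} {hr : r < D.nroots} (S : StringData D ⟨r, hr⟩) (t : F) (ht : t ≠ 0) :
    sl2Hom S (sl2h t ht) ∈ D.diagonalSubgroup F :=
  Subgroup.subset_closure ⟨r, t, hr, ht, sl2Hom_sl2h S t ht⟩

theorem sl2Hom_sl2n_mem {r : ℕ} {hr : r < D.nroots} (S : StringData D ⟨r, hr⟩) (t : F) (ht : t ≠ 0) :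
    sl2Hom S (sl2n t ht) ∈ D.monomialSubgroup F := by
  rw [sl2n_eq_sl2h_mul_sl2n, map_mul]
  exact mul_mem (Subgroup.mem_sup_left (sl2Hom_sl2h_mem S t ht))
    (Subgroup.mem_sup_right (Subgroup.subset_closure ⟨r, hr, sl2Hom_sl2n S 1 one_ne_zero⟩))

/-- The scalars at `r` and `-r` of an involution inverting `r` are inverse to each other. -/
theorem rootAct_inv_scalar (I : BNInput D F η) {n : GL D.Idx F} {π : ℕ → ℕ} {c : ℕ → F}
    (h : RootAct D F (n : Matrix D.Idx D.Idx F) π c) {r : ℕ} (hr : r < D.nroots) (hπ : π r = D.neg r)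
    (hnn : n * n = 1) : c (D.neg r) * c r = 1 := by
  obtain ⟨-, h2, h3⟩ := h r hr
  obtain ⟨-, -, h3'⟩ := h (D.neg r) (I.neg_lt hr)
  have hπ' : π (D.neg r) = r := by rw [h2, hπ, I.neg_neg hr]
  have e := h3' (c r * 1)
  have e0 := h3 1
  have e1 : (n : Matrix D.Idx D.Idx F) * (n : Matrix D.Idx D.Idx F) = 1 := by
    rw [← Units.val_mul, hnn, Units.val_one]
  have e2 : D.x F r 1 = D.x F r (c (D.neg r) * (c r * 1)) := by
    calc D.x F r 1 = ((n : Matrix D.Idx D.Idx F) * (n : Matrix D.Idx D.Idx F)) * D.x F r 1 := by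
          rw [e1, one_mul]
      _ = (n : Matrix D.Idx D.Idx F) * ((n : Matrix D.Idx D.Idx F) * D.x F r 1) := by rw [mul_assoc]
      _ = (n : Matrix D.Idx D.Idx F) * (D.x F (π r) (c r * 1) * (n : Matrix D.Idx D.Idx F)) := by rw [e0]
      _ = ((n : Matrix D.Idx D.Idx F) * D.x F (D.neg r) (c r * 1)) * (n : Matrix D.Idx D.Idx F) := by
          rw [hπ, mul_assoc]
      _ = D.x F (π (D.neg r)) (c (D.neg r) * (c r * 1)) * (n : Matrix D.Idx D.Idx F) *
            (n : Matrix D.Idx D.Idx F) := by rw [e]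
      _ = _ := by rw [hπ', mul_assoc, e1, mul_one]
  have := x_inj I hr e2
  rw [mul_one] at this
  exact this.symm

/-- An involution of `N` inverting the root `r` acts on `⟨X_r, X_{-r}⟩` as the conjugation by
`[[0, 1], [κ, 0]]`. -/
theorem rootAct_sl2 (I : BNInput D F η) {n : GL D.Idx F} {π : ℕ → ℕ} {c : ℕ → F}
    (h : RootAct D F (n : Matrix D.Idx D.Idx F) π c) {r : ℕ} (hr : r < D.nroots) (hπ : π r = D.neg r)
    (hnn : n * n = 1) (S : StringData D ⟨r, hr⟩) (M : Matrix.SpecialLinearGroup (Fin 2) F) :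
    n * sl2Hom S M = sl2Hom S (sl2Tw (c r) (rootAct_ne_zero' I h hr) M) * n := by
  have hκ := rootAct_ne_zero' I h hr
  have hκκ := rootAct_inv_scalar I h hr hπ hnn
  obtain ⟨-, h2, h3⟩ := h r hr
  obtain ⟨-, -, h3'⟩ := h (D.neg r) (I.neg_lt hr)
  have hπ' : π (D.neg r) = r := by rw [h2, hπ, I.neg_neg hr]
  have hinv : c (D.neg r) = (c r)⁻¹ := eq_inv_of_mul_eq_one_left hκκ
  let f₁ : Matrix.SpecialLinearGroup (Fin 2) F →* GL D.Idx F :=
    (MulAut.conj n).toMonoidHom.comp (sl2Hom S)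
  let f₂ : Matrix.SpecialLinearGroup (Fin 2) F →* GL D.Idx F := (sl2Hom S).comp (sl2Tw (c r) hκ)
  have htop : f₁.eqLocus f₂ = ⊤ := by
    apply Cfsg.Agent.Lib.helper45.eq_top_of_transvection_mem
    intro i j hij a
    show n * sl2Hom S _ * n⁻¹ = sl2Hom S (sl2Tw (c r) hκ _)
    rw [mul_inv_eq_iff_eq_mul]
    apply Units.ext
    rw [Units.val_mul, Units.val_mul]
    fin_cases i <;> fin_cases j
    · exact absurd rfl hij
    · rw [sl2Hom_upper S _ a (by
          ext i j
          fin_cases i <;> fin_cases j <;>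
            simp [Matrix.SpecialLinearGroup.transvection_coe, Matrix.single_apply]),
        sl2Hom_lower S _ (c r * a) (by
          rw [sl2Tw_coe]
          ext i j
          fin_cases i <;> fin_cases j <;>
            simp [Matrix.SpecialLinearGroup.transvection_coe, Matrix.single_apply])]
      have := h3 a
      rw [hπ] at this
      exact this
    · rw [sl2Hom_lower S _ a (by
          ext i j
          fin_cases i <;> fin_cases j <;>
            simp [Matrix.SpecialLinearGroup.transvection_coe, Matrix.single_apply]),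
        sl2Hom_upper S _ (a * (c r)⁻¹) (by
          rw [sl2Tw_coe]
          ext i j
          fin_cases i <;> fin_cases j <;>
            simp [Matrix.SpecialLinearGroup.transvection_coe, Matrix.single_apply])]
      have := h3' a
      rw [hπ', hinv, mul_comm _ a] at this
      exact this
    · exact absurd rfl hij
  have hM : M ∈ f₁.eqLocus f₂ := by
    rw [htop]
    trivial
  have e : n * sl2Hom S M * n⁻¹ = sl2Hom S (sl2Tw (c r) hκ M) := hM
  rw [← e]
  group

/-- Lemma A: if the scalar at `r` is a square `e²`, the involution `n` is conjugate to `n_r(e⁻¹) n`. -/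
theorem conj_sl2n (I : BNInput D F η) {n : GL D.Idx F} {π : ℕ → ℕ} {c : ℕ → F}
    (h : RootAct D F (n : Matrix D.Idx D.Idx F) π c) {r : ℕ} (hr : r < D.nroots) (hπ : π r = D.neg r)
    (hnn : n * n = 1) (S : StringData D ⟨r, hr⟩) (h2 : (2 : F) ≠ 0) {e : F} (he : c r = e * e)
    (he0 : e ≠ 0) :
    ∃ k ∈ D.group F, k * n * k⁻¹ = sl2Hom S (sl2n e⁻¹ (inv_ne_zero he0)) * n := by
  let A : Matrix.SpecialLinearGroup (Fin 2) F := ⟨!![2⁻¹, (2 * e)⁻¹; -e, 1], by
    rw [Matrix.det_fin_two_of]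
    field_simp
    ring⟩
  let B : Matrix.SpecialLinearGroup (Fin 2) F := ⟨!![1, -(2 * e)⁻¹; e, 2⁻¹], by
    rw [Matrix.det_fin_two_of]
    field_simp
    ring⟩
  have hAB : A * B = 1 := by
    apply Subtype.ext
    show !![2⁻¹, (2 * e)⁻¹; -e, 1] * !![1, -(2 * e)⁻¹; e, 2⁻¹] = (1 : Matrix (Fin 2) (Fin 2) F)
    ext i j
    fin_cases i <;> fin_cases j <;>
      simp [Matrix.mul_apply, Fin.sum_univ_two] <;> field_simp <;> ring
  have hinv : (sl2Hom S A)⁻¹ = sl2Hom S B :=
    inv_eq_of_mul_eq_one_right (by rw [← map_mul, hAB, map_one])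
  refine ⟨sl2Hom S A, sl2Hom_mem_group S A, ?_⟩
  rw [hinv, mul_assoc, rootAct_sl2 I h hr hπ hnn S B, ← mul_assoc, ← map_mul]
  congr 2
  apply Subtype.ext
  show !![2⁻¹, (2 * e)⁻¹; -e, 1] * !![2⁻¹, e * (c r)⁻¹; c r * -(2 * e)⁻¹, 1] = !![0, e⁻¹; -e⁻¹⁻¹, 0]
  rw [he]
  ext i j
  fin_cases i <;> fin_cases j <;>
    simp [Matrix.mul_apply, Fin.sum_univ_two] <;> field_simp <;> ring

/-- Lemma B: the involution `n` is conjugate to `h_r(d) n` for every norm `d = x² - κ y²`. -/
theorem conj_sl2h (I : BNInput D F η) {n : GL D.Idx F} {π : ℕ → ℕ} {c : ℕ → F}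
    (h : RootAct D F (n : Matrix D.Idx D.Idx F) π c) {r : ℕ} (hr : r < D.nroots) (hπ : π r = D.neg r)
    (hnn : n * n = 1) (S : StringData D ⟨r, hr⟩) {d x y : F} (hd : d ≠ 0)
    (hxy : x * x - c r * (y * y) = d) :
    ∃ k ∈ D.group F, k * n * k⁻¹ = sl2Hom S (sl2h d hd) * n := by
  have hκ := rootAct_ne_zero' I h hr
  let A : Matrix.SpecialLinearGroup (Fin 2) F := ⟨!![x, y; c r * y / d, x / d], by
    rw [Matrix.det_fin_two_of]
    field_simp
    linear_combination hxy⟩
  let B : Matrix.SpecialLinearGroup (Fin 2) F := ⟨!![x / d, -y; -(c r * y / d), x], by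
    rw [Matrix.det_fin_two_of]
    field_simp
    linear_combination hxy⟩
  have hAB : A * B = 1 := by
    apply Subtype.ext
    show !![x, y; c r * y / d, x / d] * !![x / d, -y; -(c r * y / d), x] = (1 : Matrix (Fin 2) (Fin 2) F)
    ext i j
    fin_cases i <;> fin_cases j <;>
      simp [Matrix.mul_apply, Fin.sum_univ_two] <;>
      field_simp <;> first | linear_combination hxy | linear_combination -hxy | ring
  have hinv : (sl2Hom S A)⁻¹ = sl2Hom S B :=
    inv_eq_of_mul_eq_one_right (by rw [← map_mul, hAB, map_one])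
  refine ⟨sl2Hom S A, sl2Hom_mem_group S A, ?_⟩
  rw [hinv, mul_assoc, rootAct_sl2 I h hr hπ hnn S B, ← mul_assoc, ← map_mul]
  congr 2
  apply Subtype.ext
  show !![x, y; c r * y / d, x / d] * !![x, -(c r * y / d) * (c r)⁻¹; c r * -y, x / d] = !![d, 0; 0, d⁻¹]
  ext i j
  fin_cases i <;> fin_cases j <;>
    simp [Matrix.mul_apply, Fin.sum_univ_two] <;> field_simp <;>
    first | linear_combination hxy | linear_combination -hxy | ring

end RankOne

end Cfsg.Agent.Lib.helper22
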