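import Cfsg.Agent.Lib.helper22.ChevOddB
import Cfsg.Agent.Lib.helper41.ChevOrderG2

/-!
The involutions of the Chevalley group of type `G₂` over a finite field of odd order: every
involution of `N` is conjugate into `H`, and the involutions of `H` are conjugate.
-/

set_option autoImplicit false
set_option maxRecDepth 100000

namespace Cfsg.Agent.Lib.helper22

open Cfsg.Lie

/-! ### Tables -/

/-- The root orthogonal to a root (of the other length). -/
def g2perp (r : ℕ) : ℕ := [4, 3, 5, 1, 0, 2, 9, 11, 10, 6, 8, 7].getD r 0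

/-- A root `s` with `⟨s, r^∨⟩ = 1`. -/
def g2aux (r : ℕ) : ℕ := [1, 0, 3, 2, 2, 0, 1, 3, 4, 7, 5, 6].getD r 0

/-- The Weyl group of type `G₂` as permutations of the root indices. -/
def g2WL : List (List ℕ) :=
  [[0, 1, 2, 3, 4, 5, 6, 7, 8, 9, 10, 11], [0, 5, 3, 2, 7, 1, 10, 4, 9, 8, 6, 11],
   [1, 0, 2, 4, 3, 6, 5, 8, 7, 9, 11, 10], [5, 0, 3, 7, 2, 10, 1, 9, 4, 8, 11, 6],
   [1, 6, 4, 2, 8, 0, 11, 3, 9, 7, 5, 10], [5, 10, 7, 3, 9, 0, 11, 2, 8, 4, 1, 6],
   [6, 1, 4, 8, 2, 11, 0, 9, 3, 7, 10, 5], [10, 5, 7, 9, 3, 11, 0, 8, 2, 4, 6, 1],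
   [6, 11, 8, 4, 9, 1, 10, 2, 7, 3, 0, 5], [10, 11, 9, 7, 8, 5, 6, 3, 4, 2, 0, 1],
   [11, 6, 8, 9, 4, 10, 1, 7, 2, 3, 5, 0], [11, 10, 9, 8, 7, 6, 5, 4, 3, 2, 1, 0]]

/-- `π` agrees on the root indices with an element of the Weyl group. -/
def G2InW (π : ℕ → ℕ) : Prop := ∃ l ∈ g2WL, ∀ r, r < 12 → π r = l.getD r 0

theorem g2_perp_ok : ∀ r, r < 12 → ∀ a ∈ [r, chevG2.neg r], ∀ q ∈ [g2perp r, chevG2.neg (g2perp r)],
    q < 12 ∧ q ≠ a ∧ q ≠ chevG2.neg a ∧ chevG2.commTerms a q = [] := by decide +kernel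

theorem g2_aux_ok : ∀ r, r < 12 → g2aux r < 12 ∧ rootPairing chevG2 r (g2aux r) = 1 := by
  decide +kernel

theorem g2_wl_gen : ∀ i, i < 2 → (List.range 12).map (chevG2.reflectRoot i) ∈ g2WL := by
  decide +kernel

theorem g2_wl_one : List.range 12 ∈ g2WL := by decide +kernel

theorem g2_wl_comp : ∀ l ∈ g2WL, ∀ l' ∈ g2WL, ∃ l'' ∈ g2WL,
    ∀ r, r < 12 → l''.getD r 0 = l.getD (l'.getD r 0) 0 := by decide +kernel

theorem g2_wl_lt : ∀ l ∈ g2WL, ∀ r, r < 12 → l.getD r 0 < 12 := by decide +kernel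

theorem g2_wl_inv : ∀ l ∈ g2WL, (∀ r, r < 12 → l.getD (l.getD r 0) 0 = r) →
    (∀ r, r < 12 → l.getD r 0 = r) ∨ (∀ r, r < 12 → l.getD r 0 = 11 - r) ∨
    (∃ r, r < 12 ∧ l.getD r 0 = 11 - r ∧ l.getD (g2perp r) 0 = g2perp r) := by decide +kernel

theorem g2_wl_fix : ∀ l ∈ g2WL, ∀ r, r < 12 → l.getD r 0 = r → l.getD (g2perp r) 0 = g2perp r →
    ∀ s, s < 12 → l.getD s 0 = s := by decide +kernel

theorem g2_perp_perp : ∀ r, r < 12 → g2perp r < 12 ∧ g2perp (g2perp r) = r := by decide +kernel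

theorem g2_neg_eq {r : ℕ} (hr : r < 12) : chevG2.neg r = 11 - r := by
  revert r
  decide +kernel

theorem g2_cart_tab : cartanZ chevG2 0 6 = -3 ∧ cartanZ chevG2 1 6 = 2 ∧ cartanZ chevG2 0 8 = -1 ∧
    cartanZ chevG2 1 8 = 1 ∧ cartanZ chevG2 0 9 = 1 ∧ cartanZ chevG2 1 9 = 0 := by decide +kernel

theorem g2_coroot_tab : corootZ chevG2 6 0 = 0 ∧ corootZ chevG2 6 1 = 1 ∧ corootZ chevG2 8 0 = 1 ∧
    corootZ chevG2 8 1 = 3 := by decide +kernel

theorem g2_pair_0_5 : rootPairing chevG2 0 5 = 1 := by decide +kernel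

section G2Odd

variable {F : Type*} [Field F] {η : ℕ → ℕ → ℤ}

theorem g2_lt12 {r : ℕ} (hr : r < chevG2.nroots) : r < 12 := by
  rw [g2_nroots] at hr
  exact hr

theorem g2_inW_id : G2InW (fun s => s) :=
  ⟨List.range 12, g2_wl_one, fun r hr => by
    rw [List.getD_eq_getElem?_getD, List.getElem?_range hr]
    rfl⟩

theorem g2_inW_simple {i : ℕ} (hi : i < chevG2.rank) : G2InW (chevG2.reflectRoot i) :=
  ⟨_, g2_wl_gen i (by rw [g2_rank] at hi; exact hi), fun r hr => by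
    rw [List.getD_eq_getElem?_getD, List.getElem?_map, List.getElem?_range hr]
    rfl⟩

theorem g2_inW_comp {π π' : ℕ → ℕ} (h : G2InW π) (h' : G2InW π') : G2InW (fun s => π (π' s)) := by
  obtain ⟨l, hl, hπ⟩ := h
  obtain ⟨l', hl', hπ'⟩ := h'
  obtain ⟨l'', hl'', h''⟩ := g2_wl_comp l hl l' hl'
  refine ⟨l'', hl'', fun r hr => ?_⟩
  show π (π' r) = _
  rw [h'' r hr, hπ' r hr, hπ _ (g2_wl_lt l' hl' r hr)]

/-- Every element of `N` acts on the root elements as an element of the Weyl group. -/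
theorem g2_rootAct_inW (I : BNInput chevG2 F η) {n : GL chevG2.Idx F}
    (hn : n ∈ chevG2.monomialSubgroup F) :
    ∃ (π : ℕ → ℕ) (c : ℕ → F), RootAct chevG2 F (n : Matrix chevG2.Idx chevG2.Idx F) π c ∧ G2InW π := by
  have hHT : chevG2.diagonalSubgroup F ≤ torus chevG2 F := diagonalSubgroup_le_torus I.hSD'
  have h1 := monomial_le_simple I hn
  have h2 : Subgroup.closure (simpleNSet chevG2 F) ⊔ chevG2.diagonalSubgroup F =
      Subgroup.closure (simpleNSet chevG2 F ∪ (chevG2.diagonalSubgroup F : Set (GL chevG2.Idx F))) := by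
    rw [Subgroup.closure_union, Subgroup.closure_eq]
  rw [h2] at h1
  clear hn
  induction h1 using Subgroup.closure_induction'' with
  | mem x hx =>
    rcases hx with ⟨i, hi, hx⟩ | hx
    · exact ⟨_, _, hx ▸ rootAct_simple I.R i hi, g2_inW_simple hi⟩
    · obtain ⟨c, hc⟩ := rootAct_torus I.hSD (hHT hx)
      exact ⟨_, c, hc, g2_inW_id⟩
  | inv_mem x hx =>
    rcases hx with ⟨i, hi, hx⟩ | hx
    · obtain ⟨Si⟩ := I.hSD' ⟨chevG2.simple i, (I.hS ⟨i, hi⟩).1⟩
      have hx' : x = sl2Hom Si (sl2n 1 one_ne_zero) :=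
        Units.ext (hx.trans (sl2Hom_sl2n Si 1 one_ne_zero).symm)
      have hinv : x⁻¹ = sl2Hom Si (sl2h (-1) (neg_ne_zero.mpr one_ne_zero)) * x := by
        rw [hx', ← map_inv, sl2n_inv, sl2n_eq_sl2h_mul_sl2n, map_mul]
      have hh : sl2Hom Si (sl2h (-1 : F) (neg_ne_zero.mpr one_ne_zero)) ∈ chevG2.diagonalSubgroup F :=
        sl2Hom_sl2h_mem Si _ _
      obtain ⟨c, hc⟩ := rootAct_torus I.hSD (hHT hh)
      have := hc.mul (hx ▸ rootAct_simple I.R i hi)
      rw [hinv, Units.val_mul]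
      exact ⟨_, _, this, g2_inW_comp (π := fun s => s) (π' := chevG2.reflectRoot i) g2_inW_id (g2_inW_simple hi)⟩
    · obtain ⟨c, hc⟩ := rootAct_torus I.hSD (hHT (inv_mem hx))
      exact ⟨_, c, hc, g2_inW_id⟩
  | one =>
    rw [Units.val_one]
    exact ⟨_, _, rootAct_one, g2_inW_id⟩
  | mul x y _ _ hx hy =>
    obtain ⟨π, c, h, hw⟩ := hx
    obtain ⟨π', c', h', hw'⟩ := hy
    rw [Units.val_mul]
    exact ⟨_, _, h.mul h', g2_inW_comp (π := π) (π' := π') hw hw'⟩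

theorem g2_inW_of_rootAct (I : BNInput chevG2 F η) {n : GL chevG2.Idx F}
    (hn : n ∈ chevG2.monomialSubgroup F) {π : ℕ → ℕ} {c : ℕ → F}
    (h : RootAct chevG2 F (n : Matrix chevG2.Idx chevG2.Idx F) π c) : G2InW π := by
  obtain ⟨π₀, c₀, h₀, l, hl, hπ⟩ := g2_rootAct_inW I hn
  exact ⟨l, hl, fun r hr => by rw [(rootAct_unique I h h₀ (g2_lt hr)).1, hπ r hr]⟩

/-- The rank one subgroup of a root commutes with the root elements of the orthogonal roots. -/
theorem g2_sl2_comm (I : BNInput chevG2 F η) {r : ℕ} (hr : r < chevG2.nroots)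
    (S : StringData chevG2 ⟨r, hr⟩) {q : ℕ} (hq : q ∈ [g2perp r, chevG2.neg (g2perp r)])
    (M : Matrix.SpecialLinearGroup (Fin 2) F) (u : F) :
    sl2Hom S M * xGL I.hSD' q u = xGL I.hSD' q u * sl2Hom S M := by
  have hr12 : r < 12 := g2_lt12 hr
  have key : ∀ a ∈ [r, chevG2.neg r], ∀ t : F,
      xGL I.hSD' a t * xGL I.hSD' q u = xGL I.hSD' q u * xGL I.hSD' a t := by
    intro a ha t
    obtain ⟨h1, h2, h3, h4⟩ := g2_perp_ok r hr12 a ha q hq
    have ha' : a < chevG2.nroots := by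
      rw [List.mem_cons, List.mem_singleton] at ha
      rcases ha with rfl | rfl
      · exact hr
      · exact I.neg_lt hr
    have e := xGL_conj_word I ha' (g2_lt h1) h2 h3 t u
    rw [h4, List.map_nil, wprod_nil, mul_one] at e
    calc xGL I.hSD' a t * xGL I.hSD' q u
        = (xGL I.hSD' a t * xGL I.hSD' q u * (xGL I.hSD' a t)⁻¹) * xGL I.hSD' a t := by group
      _ = xGL I.hSD' q u * xGL I.hSD' a t := by rw [e]
  have hle : (sl2Hom S (F := F)).range ≤ Subgroup.centralizer {xGL I.hSD' q u} := by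
    rw [sl2Hom_range, sup_le_iff]
    constructor
    · unfold ChevalleyDatum.rootSubgroup
      rw [Subgroup.closure_le]
      rintro g ⟨t, hg⟩
      have hg' : g = xGL I.hSD' r t := Units.ext (hg.trans (xGL_coe I.hSD' r t).symm)
      rw [hg', SetLike.mem_coe, Subgroup.mem_centralizer_iff]
      intro h hh
      rw [Set.mem_singleton_iff] at hh
      rw [hh]
      exact (key r (by simp) t).symm
    · unfold ChevalleyDatum.rootSubgroup
      rw [Subgroup.closure_le]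
      rintro g ⟨t, hg⟩
      have hg' : g = xGL I.hSD' (chevG2.neg r) t :=
        Units.ext (hg.trans (xGL_coe I.hSD' (chevG2.neg r) t).symm)
      rw [hg', SetLike.mem_coe, Subgroup.mem_centralizer_iff]
      intro h hh
      rw [Set.mem_singleton_iff] at hh
      rw [hh]
      exact (key (chevG2.neg r) (by simp) t).symm
  have h3 := hle ⟨M, rfl⟩
  rw [Subgroup.mem_centralizer_iff] at h3
  exact (h3 _ rfl).symm

/-- The action of `n_r(t)` on the roots `r` and `r^⊥`. -/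
theorem g2_nAct (I : BNInput chevG2 F η) {r : ℕ} (hr : r < chevG2.nroots)
    (S : StringData chevG2 ⟨r, hr⟩) (t : F) (ht : t ≠ 0) {π : ℕ → ℕ} {c : ℕ → F}
    (h : RootAct chevG2 F ((sl2Hom S (sl2n t ht) : GL chevG2.Idx F) : Matrix chevG2.Idx chevG2.Idx F) π c) :
    π r = chevG2.neg r ∧ π (g2perp r) = g2perp r := by
  have hr12 : r < 12 := g2_lt12 hr
  constructor
  · apply rootAct_label I h hr (I.neg_lt hr) one_ne_zero (b := -(t * t)⁻¹)
    rw [← sl2Hom_sl2u S 1, ← sl2Hom_sl2l S, ← Units.val_mul, ← Units.val_mul, ← map_mul, ← map_mul]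
    congr 2
    apply Subtype.ext
    show !![0, t; -t⁻¹, 0] * !![1, 1; 0, 1] = !![1, 0; -(t * t)⁻¹, 1] * !![0, t; -t⁻¹, 0]
    ext i j
    fin_cases i <;> fin_cases j <;> simp [Matrix.mul_apply, Fin.sum_univ_two]
    field_simp
  · obtain ⟨hp, -⟩ := g2_perp_perp r hr12
    apply rootAct_label I h (g2_lt hp) (g2_lt hp) one_ne_zero (b := 1)
    have e := g2_sl2_comm I hr S (q := g2perp r) (by simp) (sl2n t ht) 1
    have := congrArg (fun g : GL chevG2.Idx F => (g : Matrix chevG2.Idx chevG2.Idx F)) e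
    simp only [Units.val_mul, xGL_coe] at this
    exact this

theorem rootAct_of_torusMat (I : BNInput chevG2 F η) {g : GL chevG2.Idx F} {c0 : Fin chevG2.rank → F}
    (hc0 : ∀ i, c0 i ≠ 0) (hg : (g : Matrix chevG2.Idx chevG2.Idx F) = torusMat chevG2 F c0) :
    RootAct chevG2 F (g : Matrix chevG2.Idx chevG2.Idx F) (fun s => s)
      (fun s => torusChar chevG2 F c0 s) := by
  intro s hs
  refine ⟨hs, rfl, fun t => ?_⟩
  obtain ⟨S, hS⟩ := I.hSD ⟨s, hs⟩
  rw [hg, x_eq chevG2 F ⟨s, hs⟩ t, x_eq chevG2 F ⟨s, hs⟩]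
  exact torusMat_mul_xMat S hS c0 hc0 t

theorem torusMat_inj_char {c c' : Fin chevG2.rank → F}
    (h : torusMat chevG2 F c = torusMat chevG2 F c') (s : Fin chevG2.nroots) :
    torusChar chevG2 F c s.val = torusChar chevG2 F c' s.val := by
  have := congrFun (congrFun h (Sum.inr s)) (Sum.inr s)
  unfold torusMat at this
  rw [Matrix.diagonal_apply_eq, Matrix.diagonal_apply_eq] at this
  exact this

end G2Odd

end Cfsg.Agent.Lib.helper22
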