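import Cfsg.Agent.Lib.helper22.ChevOddG2

/-!
The involutions of the Chevalley group of type `G₂` over a finite field of odd order are
conjugate.
-/

set_option autoImplicit false
set_option maxRecDepth 100000

namespace Cfsg.Agent.Lib.helper22

open Cfsg.Lie

theorem g2_cart9 : ∀ i, i < chevG2.rank → cartanZ chevG2 i 9 = if i = 0 then 1 else 0 := by
  decide +kernel

theorem g2_cart11' : ∀ i, i < chevG2.rank → cartanZ chevG2 i 11 = if i = 1 then 1 else 0 := by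
  decide +kernel

section FF

variable {F : Type*} [Field F]

theorem two_ne_zero_of_odd_card [Fintype F] (hF : Odd (Fintype.card F)) : (2 : F) ≠ 0 := by
  apply Ring.two_ne_zero
  intro h
  have := FiniteField.even_card_iff_char_two.mp h
  rw [Nat.odd_iff] at hF
  omega

open Polynomial in
/-- Every element of a finite field of odd order is a value of the form `x² - κ y²`. -/
theorem ff_norm [Fintype F] (hF : Odd (Fintype.card F)) (κ d : F) (hκ : κ ≠ 0) :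
    ∃ x y : F, x * x - κ * (y * y) = d := by
  have h1 : (X ^ 2 - C d : F[X]).degree = 2 := degree_X_pow_sub_C (by norm_num) d
  have h2 : (C (-κ) * X ^ 2 : F[X]).degree = 2 := by
    rw [degree_C_mul_X_pow 2 (neg_ne_zero.mpr hκ)]
    rfl
  obtain ⟨x, y, h⟩ := FiniteField.exists_root_sum_quadratic h1 h2 (Nat.odd_iff.mp hF)
  refine ⟨x, y, ?_⟩
  simp only [eval_sub, eval_pow, eval_X, eval_C, eval_mul] at h
  linear_combination h

theorem torusChar_rank2 {D : ChevalleyDatum} (hrk : D.rank = 2) (c : Fin D.rank → F) (s : ℕ)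
    (h0 : 0 < D.rank) (h1 : 1 < D.rank) :
    torusChar D F c s = c ⟨0, h0⟩ ^ cartanZ D 0 s * c ⟨1, h1⟩ ^ cartanZ D 1 s := by
  unfold torusChar
  rw [Finset.prod_eq_mul (⟨0, h0⟩ : Fin D.rank) ⟨1, h1⟩]
  · intro h
    exact absurd (congrArg Fin.val h) (by norm_num)
  · rintro i - ⟨hi0, hi1⟩
    exfalso
    have hi := i.isLt
    rcases Nat.lt_or_ge i.val 1 with h | h
    · exact hi0 (Fin.ext (by simp only; omega))
    · exact hi1 (Fin.ext (by simp only; omega))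
  · intro h
    exact absurd (Finset.mem_univ _) h
  · intro h
    exact absurd (Finset.mem_univ _) h

end FF

/-- The facts about the Chevalley group of type `G₂` used below. -/
structure G2Ctx (F : Type*) [Field F] (η : ℕ → ℕ → ℤ) : Prop where
  I : BNInput chevG2 F η
  hp : Cfsg.Agent.Lib.helper41.PrimHyp chevG2 F
  hBG : chevG2.borelSubgroup F ≤ chevG2.group F
  hNG : chevG2.monomialSubgroup F ≤ chevG2.group F
  hG : chevG2.group F ≤ chevG2.borelSubgroup F ⊔ chevG2.monomialSubgroup F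

section G2Odd

variable {F : Type*} [Field F] {η : ℕ → ℕ → ℤ}

theorem g2_mem_diag (X : G2Ctx F η) {n : GL chevG2.Idx F} (hn : n ∈ chevG2.monomialSubgroup F)
    {π : ℕ → ℕ} {c : ℕ → F} (h : RootAct chevG2 F (n : Matrix chevG2.Idx chevG2.Idx F) π c)
    (hfix : ∀ s, s < 12 → π s = s) : n ∈ chevG2.diagonalSubgroup F :=
  Cfsg.Agent.Lib.helper41.mem_diag_of_actsAs_one X.I X.hp Cfsg.Agent.Lib.helper41.TabG2.wlink
    X.hBG X.hNG X.hG n hn ⟨π, c, h, fun s => by rw [hfix s.val (g2_lt12 s.isLt)]; rfl⟩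

/-- An involution `h n_r` of `N` in the coset of a reflection has a square scalar at `r`. -/
theorem g2_refl_square (I : BNInput chevG2 F η) {n : GL chevG2.Idx F} {π : ℕ → ℕ} {c : ℕ → F}
    (h : RootAct chevG2 F (n : Matrix chevG2.Idx chevG2.Idx F) π c) {r : ℕ} (hr : r < chevG2.nroots)
    (hπ : π r = chevG2.neg r) (hnn : n * n = 1) (S : StringData chevG2 ⟨r, hr⟩) (hS : S.CartanCompat)
    (hh : n * (sl2Hom S (sl2n (1 : F) one_ne_zero))⁻¹ ∈ chevG2.diagonalSubgroup F) :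
    ∃ e : F, e ≠ 0 ∧ c r = e * e := by
  have hr12 := g2_lt12 hr
  obtain ⟨S', hS'⟩ := I.hSD S.nr
  obtain ⟨c₀, hc₀, hmat⟩ := diagonalSubgroup_le_torus I.hSD' hh
  obtain ⟨n'', hn''⟩ : ∃ x, x = sl2Hom S (sl2n (1 : F) one_ne_zero) := ⟨_, rfl⟩
  rw [← hn''] at hmat
  obtain ⟨hd, hhd⟩ : ∃ x, x = n * n''⁻¹ := ⟨_, rfl⟩
  rw [← hhd] at hmat
  have hn : n = hd * n'' := by
    rw [hhd]
    group
  have hχ0 : torusChar chevG2 F c₀ r ≠ 0 := torusChar_ne_zero chevG2 F c₀ hc₀ r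
  obtain ⟨χ, hχ⟩ : ∃ x, x = torusChar chevG2 F c₀ r := ⟨_, rfl⟩
  rw [← hχ] at hχ0
  have e1 : hd * n'' = sl2Hom S (sl2n χ hχ0) * hd := by
    apply Units.ext
    rw [Units.val_mul, Units.val_mul, hmat, hn'', sl2Hom_sl2n, sl2Hom_sl2n, hχ]
    have := torusMat_mul_nMat S hS S' hS' c₀ hc₀ 1
    rw [mul_one] at this
    exact this
  have e2 : hd * hd = sl2Hom S (sl2h (-χ) (neg_ne_zero.mpr hχ0)) := by
    have e3 : sl2Hom S (sl2n χ hχ0) * (hd * hd) * n'' = 1 := by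
      calc sl2Hom S (sl2n χ hχ0) * (hd * hd) * n''
          = (sl2Hom S (sl2n χ hχ0) * hd) * (hd * n'') := by group
        _ = (hd * n'') * (hd * n'') := by rw [← e1]
        _ = 1 := by rw [← hn, hnn]
    have e4 : hd * hd = (sl2Hom S (sl2n χ hχ0))⁻¹ * n''⁻¹ := by
      have : hd * hd = (sl2Hom S (sl2n χ hχ0))⁻¹ * (sl2Hom S (sl2n χ hχ0) * (hd * hd) * n'') * n''⁻¹ := by
        group
      rw [this, e3, mul_one]
    rw [e4, hn'', ← map_inv, ← map_inv, ← map_mul, ← mul_inv_rev]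
    congr 1
    apply inv_eq_of_mul_eq_one_left
    apply Subtype.ext
    show !![-χ, 0; 0, (-χ)⁻¹] * (!![0, 1; -(1 : F)⁻¹, 0] * !![0, χ; -χ⁻¹, 0]) =
      (1 : Matrix (Fin 2) (Fin 2) F)
    ext i j
    fin_cases i <;> fin_cases j <;> simp [Matrix.mul_apply, Fin.sum_univ_two] <;> field_simp
  have e5 : torusMat chevG2 F (fun i => c₀ i * c₀ i) =
      torusMat chevG2 F (fun i => (-χ) ^ corootZ chevG2 r i.val) := by
    rw [← torusMat_mul, ← hmat, ← Units.val_mul, e2, sl2Hom_sl2h, hMat_eq_torusMat S (-χ) (neg_ne_zero.mpr hχ0)]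
  obtain ⟨hs12, hpair⟩ := g2_aux_ok r hr12
  have e6 := torusMat_inj_char e5 ⟨g2aux r, g2_lt hs12⟩
  rw [← torusChar_mul, torusChar_coroot (-χ) (neg_ne_zero.mpr hχ0), hpair, zpow_one] at e6
  have e7 : c (chevG2.neg r) = -χ := by
    have hact := (h (chevG2.neg r) (I.neg_lt hr)).2.2 1
    have hπ' : π (chevG2.neg r) = r := by rw [(h r hr).2.1, hπ, I.neg_neg hr]
    rw [hπ'] at hact
    have e8 : (n : Matrix chevG2.Idx chevG2.Idx F) * chevG2.x F (chevG2.neg r) 1 =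
        chevG2.x F r (χ * (-1)) * (n : Matrix chevG2.Idx chevG2.Idx F) := by
      have e9 : n'' * sl2Hom S (sl2l 1) = sl2Hom S (sl2u (-1)) * n'' := by
        rw [hn'', ← map_mul, ← map_mul]
        congr 1
        apply Subtype.ext
        show !![0, 1; -(1 : F)⁻¹, 0] * !![1, 0; 1, 1] = !![1, -1; 0, 1] * !![0, 1; -(1 : F)⁻¹, 0]
        ext i j
        fin_cases i <;> fin_cases j <;> simp [Matrix.mul_apply, Fin.sum_univ_two]
      have e10 : (hd : Matrix chevG2.Idx chevG2.Idx F) * chevG2.x F r (-1) =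
          chevG2.x F r (torusChar chevG2 F c₀ r * -1) * (hd : Matrix chevG2.Idx chevG2.Idx F) :=
        (rootAct_of_torusMat I hc₀ hmat r hr).2.2 (-1)
      rw [← hχ] at e10
      calc (n : Matrix chevG2.Idx chevG2.Idx F) * chevG2.x F (chevG2.neg r) 1
          = (hd : Matrix chevG2.Idx chevG2.Idx F) *
              ((n'' : Matrix chevG2.Idx chevG2.Idx F) * chevG2.x F (chevG2.neg r) 1) := by
            rw [hn, Units.val_mul, mul_assoc]
        _ = (hd : Matrix chevG2.Idx chevG2.Idx F) *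
              (chevG2.x F r (-1) * (n'' : Matrix chevG2.Idx chevG2.Idx F)) := by
            rw [← sl2Hom_sl2l S 1, ← Units.val_mul, e9, Units.val_mul, sl2Hom_sl2u]
        _ = ((hd : Matrix chevG2.Idx chevG2.Idx F) * chevG2.x F r (-1)) *
              (n'' : Matrix chevG2.Idx chevG2.Idx F) := by rw [mul_assoc]
        _ = chevG2.x F r (χ * -1) * (hd : Matrix chevG2.Idx chevG2.Idx F) *
              (n'' : Matrix chevG2.Idx chevG2.Idx F) := by rw [e10]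
        _ = _ := by rw [hn, Units.val_mul, mul_assoc]
    have e11 := hact.symm.trans e8
    have e12 : chevG2.x F r (c (chevG2.neg r)) = chevG2.x F r (χ * (-1)) := by
      have := congrArg (fun M => M * ((n⁻¹ : GL chevG2.Idx F) : Matrix chevG2.Idx chevG2.Idx F)) e11
      simp only [mul_assoc, ← Units.val_mul, mul_inv_cancel, Units.val_one, mul_one] at this
      exact this
    have := x_inj I hr e12
    rw [mul_neg, mul_one] at this
    exact this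
  have e13 := rootAct_inv_scalar I h hr hπ hnn
  have hτ0 : torusChar chevG2 F c₀ (g2aux r) ≠ 0 := torusChar_ne_zero chevG2 F c₀ hc₀ _
  refine ⟨(torusChar chevG2 F c₀ (g2aux r))⁻¹, inv_ne_zero hτ0, ?_⟩
  rw [e7, ← e6] at e13
  field_simp
  linear_combination e13

/-- An involution of `N` in the coset of a reflection is conjugate into `H`. -/
theorem g2_beta (X : G2Ctx F η) (h2 : (2 : F) ≠ 0) {n : GL chevG2.Idx F}
    (hn : n ∈ chevG2.monomialSubgroup F) (hnn : n * n = 1) {π : ℕ → ℕ} {c : ℕ → F}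
    (h : RootAct chevG2 F (n : Matrix chevG2.Idx chevG2.Idx F) π c) {r : ℕ} (hr : r < chevG2.nroots)
    (hπ : π r = chevG2.neg r) (hπp : π (g2perp r) = g2perp r) :
    ∃ k ∈ chevG2.group F, k * n * k⁻¹ ∈ chevG2.diagonalSubgroup F := by
  have I := X.I
  have hr12 := g2_lt12 hr
  obtain ⟨hp12, -⟩ := g2_perp_perp r hr12
  obtain ⟨S, hS⟩ := I.hSD ⟨r, hr⟩
  have hn'' : sl2Hom S (sl2n (1 : F) one_ne_zero) ∈ chevG2.monomialSubgroup F :=
    sl2Hom_sl2n_mem S 1 one_ne_zero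
  have hhN : n * (sl2Hom S (sl2n (1 : F) one_ne_zero))⁻¹ ∈ chevG2.monomialSubgroup F :=
    mul_mem hn (inv_mem hn'')
  obtain ⟨π₁, c₁, hact₁, l, hl, hπl⟩ := g2_rootAct_inW I hhN
  obtain ⟨π₂, c₂, hact₂⟩ := rootAct_of_mem_monomial I hn''
  obtain ⟨hπ₂r, hπ₂p⟩ := g2_nAct I hr S 1 one_ne_zero hact₂
  have hmul := hact₁.mul hact₂
  have e : ((n * (sl2Hom S (sl2n (1 : F) one_ne_zero))⁻¹ : GL chevG2.Idx F) :
        Matrix chevG2.Idx chevG2.Idx F) *
      ((sl2Hom S (sl2n (1 : F) one_ne_zero) : GL chevG2.Idx F) : Matrix chevG2.Idx chevG2.Idx F) =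
      (n : Matrix chevG2.Idx chevG2.Idx F) := by
    rw [← Units.val_mul, inv_mul_cancel_right]
  rw [e] at hmul
  have h1 : π₁ (chevG2.neg r) = chevG2.neg r := by
    have e1 : π r = π₁ (π₂ r) := (rootAct_unique I h hmul hr).1
    rw [hπ, hπ₂r] at e1
    exact e1.symm
  have h1' : π₁ r = r := by
    have e1 := (hact₁ (chevG2.neg r) (I.neg_lt hr)).2.1
    rw [I.neg_neg hr, h1, I.neg_neg hr] at e1
    exact e1
  have h2' : π₁ (g2perp r) = g2perp r := by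
    have e1 : π (g2perp r) = π₁ (π₂ (g2perp r)) := (rootAct_unique I h hmul (g2_lt hp12)).1
    rw [hπp, hπ₂p] at e1
    exact e1.symm
  have hfix : ∀ s, s < 12 → π₁ s = s := by
    intro s hs
    rw [hπl s hs]
    refine g2_wl_fix l hl r hr12 ?_ ?_ s hs
    · rw [← hπl r hr12]
      exact h1'
    · rw [← hπl _ hp12]
      exact h2'
  have hH := g2_mem_diag X hhN hact₁ hfix
  obtain ⟨e, he0, he⟩ := g2_refl_square I h hr hπ hnn S hS hH
  obtain ⟨k, hk, hk'⟩ := conj_sl2n I h hr hπ hnn S h2 he he0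
  refine ⟨k, hk, ?_⟩
  rw [hk']
  have hne : sl2Hom S (sl2n e⁻¹ (inv_ne_zero he0)) ∈ chevG2.monomialSubgroup F := sl2Hom_sl2n_mem S _ _
  have hm := mul_mem hne hn
  obtain ⟨π₃, c₃, hact₃⟩ := rootAct_of_mem_monomial I hne
  obtain ⟨hπ₃r, hπ₃p⟩ := g2_nAct I hr S e⁻¹ (inv_ne_zero he0) hact₃
  have hmul' := hact₃.mul h
  rw [← Units.val_mul] at hmul'
  obtain ⟨l', hl', hπl'⟩ := g2_inW_of_rootAct I hm hmul'
  have hfix' : ∀ s, s < 12 → π₃ (π s) = s := by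
    intro s hs
    have e1 : π₃ (π s) = l'.getD s 0 := hπl' s hs
    rw [e1]
    refine g2_wl_fix l' hl' r hr12 ?_ ?_ s hs
    · have e2 : π₃ (π r) = l'.getD r 0 := hπl' r hr12
      rw [← e2, hπ, (hact₃ r hr).2.1, hπ₃r, I.neg_neg hr]
    · have e2 : π₃ (π (g2perp r)) = l'.getD (g2perp r) 0 := hπl' _ hp12
      rw [← e2, hπp, hπ₃p]
  exact g2_mem_diag X hm hmul' hfix'

/-- An involution of `N` in the coset of the longest element is conjugate into `H`. -/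
theorem g2_alpha [Fintype F] (X : G2Ctx F η) (hF : Odd (Fintype.card F)) (h2 : (2 : F) ≠ 0)
    {n : GL chevG2.Idx F} (hn : n ∈ chevG2.monomialSubgroup F) (hnn : n * n = 1) {π : ℕ → ℕ} {c : ℕ → F}
    (h : RootAct chevG2 F (n : Matrix chevG2.Idx chevG2.Idx F) π c)
    (hπ : ∀ r, r < 12 → π r = chevG2.neg r) :
    ∃ k ∈ chevG2.group F, k * n * k⁻¹ ∈ chevG2.diagonalSubgroup F := by
  have I := X.I
  have h0 : (0 : ℕ) < chevG2.nroots := g2_lt (by norm_num)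
  have h6 : (6 : ℕ) < chevG2.nroots := g2_lt (by norm_num)
  have h9 : (9 : ℕ) < chevG2.nroots := g2_lt (by norm_num)
  obtain ⟨S₀, hS₀⟩ := I.hSD ⟨0, h0⟩
  obtain ⟨S₆, hS₆⟩ := I.hSD ⟨6, h6⟩
  have hc6 : c 6 ≠ 0 := rootAct_ne_zero' I h h6
  have hc0 : c 0 ≠ 0 := rootAct_ne_zero' I h h0
  obtain ⟨x, y, hxy⟩ := ff_norm hF (c 0) (c 6)⁻¹ hc0
  obtain ⟨k₁, hk₁, e₁⟩ := conj_sl2h I h h0 (hπ 0 (by norm_num)) hnn S₀ (inv_ne_zero hc6) hxy
  have hh : sl2Hom S₀ (sl2h (c 6)⁻¹ (inv_ne_zero hc6)) ∈ chevG2.diagonalSubgroup F :=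
    sl2Hom_sl2h_mem S₀ _ _
  have hn₁ : sl2Hom S₀ (sl2h (c 6)⁻¹ (inv_ne_zero hc6)) * n ∈ chevG2.monomialSubgroup F :=
    mul_mem (Subgroup.mem_sup_left hh) hn
  have hn₁n₁ : (sl2Hom S₀ (sl2h (c 6)⁻¹ (inv_ne_zero hc6)) * n) *
      (sl2Hom S₀ (sl2h (c 6)⁻¹ (inv_ne_zero hc6)) * n) = 1 := by
    rw [← e₁]
    have : k₁ * n * k₁⁻¹ * (k₁ * n * k₁⁻¹) = k₁ * (n * n) * k₁⁻¹ := by group
    rw [this, hnn]
    group
  have hmatT : ((sl2Hom S₀ (sl2h (c 6)⁻¹ (inv_ne_zero hc6)) : GL chevG2.Idx F) :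
      Matrix chevG2.Idx chevG2.Idx F) =
      torusMat chevG2 F (fun i => (c 6)⁻¹ ^ corootZ chevG2 0 i.val) := by
    rw [sl2Hom_sl2h, hMat_eq_torusMat S₀ _ (inv_ne_zero hc6)]
  have hactT := rootAct_of_torusMat I (fun i => zpow_ne_zero _ (inv_ne_zero hc6)) hmatT
  have hact₁ := hactT.mul h
  rw [← Units.val_mul] at hact₁
  have hπ6 : π 6 = 5 := by rw [hπ 6 (by norm_num), g2_neg_eq (by norm_num)]
  have hc₁ : (fun s => (fun s => torusChar chevG2 F (fun i => (c 6)⁻¹ ^ corootZ chevG2 0 i.val) s) (π s) *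
      c s) 6 = 1 * 1 := by
    show torusChar chevG2 F (fun i => (c 6)⁻¹ ^ corootZ chevG2 0 i.val) (π 6) * c 6 = 1 * 1
    rw [hπ6, torusChar_coroot _ (inv_ne_zero hc6), g2_pair_0_5, zpow_one, inv_mul_cancel₀ hc6, mul_one]
  have hπ6' : (fun s => (fun s => s) (π s)) 6 = chevG2.neg 6 := hπ 6 (by norm_num)
  obtain ⟨k₂, hk₂, e₂⟩ := conj_sl2n I hact₁ h6 hπ6' hn₁n₁ S₆ h2 hc₁ one_ne_zero
  have hne : sl2Hom S₆ (sl2n (1 : F)⁻¹ (inv_ne_zero one_ne_zero)) ∈ chevG2.monomialSubgroup F :=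
    sl2Hom_sl2n_mem S₆ _ _
  have hm := mul_mem hne hn₁
  have hmm : (sl2Hom S₆ (sl2n (1 : F)⁻¹ (inv_ne_zero one_ne_zero)) *
      (sl2Hom S₀ (sl2h (c 6)⁻¹ (inv_ne_zero hc6)) * n)) *
      (sl2Hom S₆ (sl2n (1 : F)⁻¹ (inv_ne_zero one_ne_zero)) *
      (sl2Hom S₀ (sl2h (c 6)⁻¹ (inv_ne_zero hc6)) * n)) = 1 := by
    rw [← e₂]
    generalize sl2Hom S₀ (sl2h (c 6)⁻¹ (inv_ne_zero hc6)) * n = n₁ at hn₁n₁ ⊢
    have : k₂ * n₁ * k₂⁻¹ * (k₂ * n₁ * k₂⁻¹) = k₂ * (n₁ * n₁) * k₂⁻¹ := by group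
    rw [this, hn₁n₁]
    group
  obtain ⟨π₃, c₃, hact₃⟩ := rootAct_of_mem_monomial I hne
  obtain ⟨hπ₃r, hπ₃p⟩ := g2_nAct I h6 S₆ _ _ hact₃
  have hactm := hact₃.mul hact₁
  rw [← Units.val_mul] at hactm
  have hp6 : g2perp 6 = 9 := by decide
  have hp9 : g2perp 9 = 6 := by decide
  have hA : (fun s => π₃ ((fun s => (fun s => s) (π s)) s)) 9 = chevG2.neg 9 := by
    show π₃ (π 9) = chevG2.neg 9
    rw [hπ 9 (by norm_num), (hact₃ 9 h9).2.1]
    have : π₃ 9 = 9 := by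
      rw [hp6] at hπ₃p
      exact hπ₃p
    rw [this]
  have hB : (fun s => π₃ ((fun s => (fun s => s) (π s)) s)) (g2perp 9) = g2perp 9 := by
    show π₃ (π (g2perp 9)) = g2perp 9
    rw [hp9, hπ 6 (by norm_num), (hact₃ 6 h6).2.1, hπ₃r, I.neg_neg h6]
  obtain ⟨k₃, hk₃, e₃⟩ := g2_beta X h2 hm hmm hactm h9 hA hB
  refine ⟨k₃ * k₂ * k₁, mul_mem (mul_mem hk₃ hk₂) hk₁, ?_⟩
  have : k₃ * k₂ * k₁ * n * (k₃ * k₂ * k₁)⁻¹ = k₃ * (k₂ * (k₁ * n * k₁⁻¹) * k₂⁻¹) * k₃⁻¹ := by group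
  rw [this, e₁, e₂]
  exact e₃

/-- Every involution of `N` is conjugate into `H`. -/
theorem g2_mono_to_diag [Fintype F] (X : G2Ctx F η) (hF : Odd (Fintype.card F)) (h2 : (2 : F) ≠ 0)
    {n : GL chevG2.Idx F} (hn : n ∈ chevG2.monomialSubgroup F) (hnn : n * n = 1) :
    ∃ k ∈ chevG2.group F, k * n * k⁻¹ ∈ chevG2.diagonalSubgroup F := by
  have I := X.I
  obtain ⟨π, c, hact, l, hl, hπl⟩ := g2_rootAct_inW I hn
  have hsq : ∀ s, s < 12 → π (π s) = s := by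
    intro s hs
    have hmul := hact.mul hact
    rw [← Units.val_mul, hnn] at hmul
    have h1 : RootAct chevG2 F ((1 : GL chevG2.Idx F) : Matrix chevG2.Idx chevG2.Idx F) (fun s => s)
        (fun _ => 1) := by
      rw [Units.val_one]
      exact rootAct_one
    exact (rootAct_unique I hmul h1 (g2_lt hs)).1
  have hl2 : ∀ r, r < 12 → l.getD (l.getD r 0) 0 = r := by
    intro r hr
    have hlt : π r < 12 := g2_lt12 (hact r (g2_lt hr)).1
    rw [← hπl r hr, ← hπl _ hlt, hsq r hr]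
  rcases g2_wl_inv l hl hl2 with h1 | h1 | ⟨r, hr, h1, h1'⟩
  · refine ⟨1, one_mem _, ?_⟩
    rw [one_mul, inv_one, mul_one]
    exact g2_mem_diag X hn hact (fun s hs => by rw [hπl s hs, h1 s hs])
  · exact g2_alpha X hF h2 hn hnn hact (fun r hr => by rw [hπl r hr, h1 r hr, g2_neg_eq hr])
  · exact g2_beta X h2 hn hnn hact (g2_lt hr) (by rw [hπl r hr, h1, g2_neg_eq hr])
      (by rw [hπl _ (g2_perp_perp r hr).1, h1'])

end G2Odd

end Cfsg.Agent.Lib.helper22
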