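import Cfsg.Agent.Lib.helper22.ChevOddG2b

/-!
The involutions of `H` in the Chevalley group of type `G₂` over a field of odd characteristic
are conjugate; all involutions of the group over a finite field of odd order are conjugate.
-/

set_option autoImplicit false
set_option maxRecDepth 100000

namespace Cfsg.Agent.Lib.helper22

open Cfsg.Lie

/-- The parameters of the standard involution of `H`. -/
def g2c0 (F : Type*) [Field F] : Fin chevG2.rank → F := fun i => if i.val = 0 then -1 else 1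

section G2H

variable {F : Type*} [Field F] {η : ℕ → ℕ → ℤ}

/-- A torus element with character `-1` at the root `r` is conjugate to its product with
`h_r(-1)`. -/
theorem g2_torus_refl (I : BNInput chevG2 F η) {h : GL chevG2.Idx F} {c₀ : Fin chevG2.rank → F}
    (hc₀ : ∀ i, c₀ i ≠ 0) (hmat : (h : Matrix chevG2.Idx chevG2.Idx F) = torusMat chevG2 F c₀) {r : ℕ}
    (hr : r < chevG2.nroots) (hχ : torusChar chevG2 F c₀ r = -1) :
    ∃ k ∈ chevG2.group F, ((k * h * k⁻¹ : GL chevG2.Idx F) : Matrix chevG2.Idx chevG2.Idx F) =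
      torusMat chevG2 F (fun i => (-1) ^ corootZ chevG2 r i.val * c₀ i) := by
  obtain ⟨S, hS⟩ := I.hSD ⟨r, hr⟩
  obtain ⟨S', hS'⟩ := I.hSD S.nr
  have hm1 : (-1 : F) ≠ 0 := neg_ne_zero.mpr one_ne_zero
  obtain ⟨n'', hn''⟩ : ∃ x, x = sl2Hom S (sl2n (1 : F) one_ne_zero) := ⟨_, rfl⟩
  have hn''G : n'' ∈ chevG2.group F := by
    rw [hn'']
    exact sl2Hom_mem_group S _
  have e1 : h * n'' = n''⁻¹ * h := by
    apply Units.ext
    rw [Units.val_mul, Units.val_mul, hmat, hn'', ← map_inv, sl2n_inv, sl2Hom_sl2n, sl2Hom_sl2n]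
    have := torusMat_mul_nMat S hS S' hS' c₀ hc₀ 1
    rw [hχ, mul_one] at this
    exact this
  have e2 : n''⁻¹ * n''⁻¹ = sl2Hom S (sl2h (-1) hm1) := by
    rw [hn'', ← map_inv, ← map_mul, ← mul_inv_rev, sl2n_mul_sl2n]
    congr 1
    apply inv_eq_of_mul_eq_one_left
    apply Subtype.ext
    show !![-1, 0; 0, (-1 : F)⁻¹] * !![-1, 0; 0, (-1 : F)⁻¹] = (1 : Matrix (Fin 2) (Fin 2) F)
    ext i j
    fin_cases i <;> fin_cases j <;> simp [Matrix.mul_apply, Fin.sum_univ_two]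
  refine ⟨n''⁻¹, inv_mem hn''G, ?_⟩
  have e3 : n''⁻¹ * h * n''⁻¹⁻¹ = sl2Hom S (sl2h (-1) hm1) * h := by
    rw [inv_inv, mul_assoc, e1, ← mul_assoc, e2]
  rw [e3, Units.val_mul, sl2Hom_sl2h, hMat_eq_torusMat S (-1) hm1, hmat, torusMat_mul]

/-- The involutions of `H` are conjugate to the standard one. -/
theorem g2_diag_conj (I : BNInput chevG2 F η) {h : GL chevG2.Idx F}
    (hh : h ∈ chevG2.diagonalSubgroup F) (hsq : h * h = 1) (hne : h ≠ 1) :
    ∃ k ∈ chevG2.group F, ((k * h * k⁻¹ : GL chevG2.Idx F) : Matrix chevG2.Idx chevG2.Idx F) =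
      torusMat chevG2 F (g2c0 F) := by
  obtain ⟨c₀, hc₀, hmat⟩ := diagonalSubgroup_le_torus I.hSD' hh
  have hk0 : (0 : ℕ) < chevG2.rank := by
    rw [g2_rank]
    norm_num
  have hk1 : (1 : ℕ) < chevG2.rank := by
    rw [g2_rank]
    norm_num
  have e1 : torusMat chevG2 F (fun i => c₀ i * c₀ i) = torusMat chevG2 F (fun _ => 1) := by
    rw [← torusMat_mul, ← hmat, ← Units.val_mul, hsq, Units.val_one, torusMat_one]
  have s9 := torusMat_inj_char e1 ⟨9, g2_lt (by norm_num)⟩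
  have s11 := torusMat_inj_char e1 ⟨11, g2_lt (by norm_num)⟩
  rw [torusChar_of_cartan hk0 g2_cart9, torusChar_one] at s9
  rw [torusChar_of_cartan hk1 g2_cart11', torusChar_one] at s11
  have ha := mul_self_eq_one_iff.mp s9
  have hb := mul_self_eq_one_iff.mp s11
  have hval : ∀ i : Fin chevG2.rank, i.val = 0 ∨ i.val = 1 := by
    intro i
    have hi : i.val < 2 := lt_of_lt_of_eq i.isLt g2_rank
    omega
  have hfun : ∀ (a b : F), c₀ ⟨0, hk0⟩ = a → c₀ ⟨1, hk1⟩ = b →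
      ∀ i, c₀ i = if i.val = 0 then a else b := by
    intro a b h0 h1 i
    rcases hval i with h | h
    · have : i = ⟨0, hk0⟩ := Fin.ext h
      rw [this, h0, if_pos rfl]
    · have : i = ⟨1, hk1⟩ := Fin.ext h
      rw [this, h1, if_neg (by norm_num)]
  obtain ⟨h60, h61, h80, h81, -, -⟩ := g2_cart_tab
  obtain ⟨q60, q61, q80, q81⟩ := g2_coroot_tab
  rcases ha with ha | ha <;> rcases hb with hb | hb
  · exfalso
    apply hne
    apply Units.ext
    rw [hmat, Units.val_one, ← torusMat_one]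
    congr 1
    funext i
    rw [hfun 1 1 ha hb i]
    split_ifs <;> rfl
  · have hχ : torusChar chevG2 F c₀ 8 = -1 := by
      rw [torusChar_rank2 g2_rank c₀ 8 hk0 hk1, ha, hb, h80, h81]
      simp
    obtain ⟨k, hk, e⟩ := g2_torus_refl I hc₀ hmat (g2_lt (by norm_num : 8 < 12)) hχ
    refine ⟨k, hk, ?_⟩
    rw [e]
    congr 1
    funext i
    rw [hfun 1 (-1) ha hb i]
    unfold g2c0
    rcases hval i with h | h
    · rw [if_pos h, if_pos h, h, q80]
      simp
    · rw [if_neg (by omega), if_neg (by omega), h, q81]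
      norm_num [zpow_ofNat]
  · refine ⟨1, one_mem _, ?_⟩
    rw [one_mul, inv_one, mul_one, hmat]
    congr 1
    funext i
    rw [hfun (-1) 1 ha hb i]
    rfl
  · have hχ : torusChar chevG2 F c₀ 6 = -1 := by
      rw [torusChar_rank2 g2_rank c₀ 6 hk0 hk1, ha, hb, h60, h61]
      norm_num [zpow_neg, zpow_ofNat]
    obtain ⟨k, hk, e⟩ := g2_torus_refl I hc₀ hmat (g2_lt (by norm_num : 6 < 12)) hχ
    refine ⟨k, hk, ?_⟩
    rw [e]
    congr 1
    funext i
    rw [hfun (-1) (-1) ha hb i]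
    unfold g2c0
    rcases hval i with h | h
    · rw [if_pos h, if_pos h, h, q60]
      simp
    · rw [if_neg (by omega), if_neg (by omega), h, q61]
      simp

/-- Every involution of the Chevalley group of type `G₂` over a finite field of odd order is
conjugate to the standard involution of `H`. -/
theorem g2_odd_involution [Fintype F] (X : G2Ctx F η) (hF : Odd (Fintype.card F))
    {g : GL chevG2.Idx F} (hg : g ∈ chevG2.group F) (hgg : g * g = 1) (hg1 : g ≠ 1) :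
    ∃ k ∈ chevG2.group F, ((k * g * k⁻¹ : GL chevG2.Idx F) : Matrix chevG2.Idx chevG2.Idx F) =
      torusMat chevG2 F (g2c0 F) := by
  have h2 := two_ne_zero_of_odd_card hF
  obtain ⟨k₁, hk₁, n, hn, hnn, e₁⟩ := involution_conj_monomial X.I X.hBG X.hNG X.hG hF hg hgg
  obtain ⟨k₂, hk₂, hH⟩ := g2_mono_to_diag X hF h2 hn hnn
  have hsq : (k₂ * n * k₂⁻¹) * (k₂ * n * k₂⁻¹) = 1 := by
    have : k₂ * n * k₂⁻¹ * (k₂ * n * k₂⁻¹) = k₂ * (n * n) * k₂⁻¹ := by group
    rw [this, hnn]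
    group
  have hne : k₂ * n * k₂⁻¹ ≠ 1 := by
    intro h
    apply hg1
    have hn1 : n = 1 := by
      have : n = k₂⁻¹ * (k₂ * n * k₂⁻¹) * k₂ := by group
      rw [this, h]
      group
    rw [hn1] at e₁
    have : g = k₁⁻¹ * (k₁ * g * k₁⁻¹) * k₁ := by group
    rw [this, e₁]
    group
  obtain ⟨k₃, hk₃, e₃⟩ := g2_diag_conj X.I hH hsq hne
  refine ⟨k₃ * k₂ * k₁, mul_mem (mul_mem hk₃ hk₂) hk₁, ?_⟩
  have : k₃ * k₂ * k₁ * g * (k₃ * k₂ * k₁)⁻¹ = k₃ * (k₂ * (k₁ * g * k₁⁻¹) * k₂⁻¹) * k₃⁻¹ := by group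
  rw [this, e₁]
  exact e₃

/-- Any two involutions of the Chevalley group of type `G₂` over a finite field of odd order are
conjugate. -/
theorem g2_odd_isConj [Fintype F] (X : G2Ctx F η) (hF : Odd (Fintype.card F))
    (s t : ↥(chevG2.group F)) (hs : orderOf s = 2) (ht : orderOf t = 2) : IsConj s t := by
  have key : ∀ g : ↥(chevG2.group F), orderOf g = 2 → ∃ k ∈ chevG2.group F,
      ((k * (g : GL chevG2.Idx F) * k⁻¹ : GL chevG2.Idx F) : Matrix chevG2.Idx chevG2.Idx F) =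
        torusMat chevG2 F (g2c0 F) := by
    intro g hg
    have h1 : g ^ 2 = 1 := by
      rw [← hg]
      exact pow_orderOf_eq_one g
    have h2 : g ≠ 1 := by
      intro h
      rw [h, orderOf_one] at hg
      norm_num at hg
    apply g2_odd_involution X hF g.2
    · have := congrArg Subtype.val h1
      rw [pow_two] at this
      exact this
    · intro h
      exact h2 (Subtype.ext h)
  obtain ⟨k₁, hk₁, e₁⟩ := key s hs
  obtain ⟨k₂, hk₂, e₂⟩ := key t ht
  have e : k₁ * (s : GL chevG2.Idx F) * k₁⁻¹ = k₂ * (t : GL chevG2.Idx F) * k₂⁻¹ :=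
    Units.ext (e₁.trans e₂.symm)
  rw [isConj_iff]
  refine ⟨⟨k₂⁻¹ * k₁, mul_mem (inv_mem hk₂) hk₁⟩, Subtype.ext ?_⟩
  show k₂⁻¹ * k₁ * (s : GL chevG2.Idx F) * (k₂⁻¹ * k₁)⁻¹ = (t : GL chevG2.Idx F)
  have : k₂⁻¹ * k₁ * (s : GL chevG2.Idx F) * (k₂⁻¹ * k₁)⁻¹ =
      k₂⁻¹ * (k₁ * (s : GL chevG2.Idx F) * k₁⁻¹) * k₂ := by group
  rw [this, e]
  group

end G2H

end Cfsg.Agent.Lib.helper22
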