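import Cfsg.Agent.Lib.helper22.ChevOddG2c
import Cfsg.Agent.Lib.helper22.ChevBorel
import Cfsg.Agent.Lib.helper22.ChevCanon

/-!
The centralizer of the standard involution `z = h_7(-1) = h_11(-1)` of the Chevalley group of
type `G₂` over a field of odd characteristic lies in `L₁ L₂ H`, where `L₁`, `L₂` are the rank one
subgroups of the orthogonal roots `7` and `11`.
-/

set_option autoImplicit false
set_option maxRecDepth 100000

namespace Cfsg.Agent.Lib.helper22

open Cfsg.Lie

theorem g2_posRoots : chevG2.posRoots = [6, 7, 8, 9, 10, 11] := by decide +kernel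

theorem g2_chi_tab : ∀ s, s < 12 → cartanZ chevG2 0 s % 2 =
    if s = 0 ∨ s = 4 ∨ s = 7 ∨ s = 11 then 0 else 1 := by decide +kernel

theorem g2_wl_cent : ∀ l ∈ g2WL,
    (l.getD 7 0 = 0 ∨ l.getD 7 0 = 4 ∨ l.getD 7 0 = 7 ∨ l.getD 7 0 = 11) →
    (l.getD 7 0 = 7 ∨ l.getD 7 0 = 4) ∧ (l.getD 11 0 = 11 ∨ l.getD 11 0 = 0) := by decide +kernel

theorem g2_coroot_tab2 : corootZ chevG2 7 0 = 1 ∧ corootZ chevG2 7 1 = 0 ∧ corootZ chevG2 11 0 = 1 ∧
    corootZ chevG2 11 1 = 2 := by decide +kernel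

section SL2Ext

variable {F : Type*} [Field F]

theorem sl2_eq_of_coe {A B : Matrix.SpecialLinearGroup (Fin 2) F} {p q r s p' q' r' s' : F}
    (hA : (A : Matrix (Fin 2) (Fin 2) F) = !![p, q; r, s])
    (hB : (B : Matrix (Fin 2) (Fin 2) F) = !![p', q'; r', s'])
    (h1 : p = p') (h2 : q = q') (h3 : r = r') (h4 : s = s') : A = B := by
  apply Subtype.ext
  rw [hA, hB, h1, h2, h3, h4]

theorem sl2h_coe (t : F) (ht : t ≠ 0) :
    (sl2h t ht : Matrix (Fin 2) (Fin 2) F) = !![t, 0; 0, t⁻¹] := rfl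

theorem sl2u_coe (t : F) : (sl2u t : Matrix (Fin 2) (Fin 2) F) = !![1, t; 0, 1] := rfl

theorem sl2n_coe (t : F) (ht : t ≠ 0) :
    (sl2n t ht : Matrix (Fin 2) (Fin 2) F) = !![0, t; -t⁻¹, 0] := rfl

end SL2Ext

section G2Cent

variable {F : Type*} [Field F] {η : ℕ → ℕ → ℤ}

/-- An element of `N` acting as the reflection in `r` lies in `H n_r`. -/
theorem g2_refl_coset (X : G2Ctx F η) {n : GL chevG2.Idx F} (hn : n ∈ chevG2.monomialSubgroup F)
    {π : ℕ → ℕ} {c : ℕ → F} (h : RootAct chevG2 F (n : Matrix chevG2.Idx chevG2.Idx F) π c) {r : ℕ}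
    (hr : r < chevG2.nroots) (hπ : π r = chevG2.neg r) (hπp : π (g2perp r) = g2perp r)
    (S : StringData chevG2 ⟨r, hr⟩) :
    n * (sl2Hom S (sl2n (1 : F) one_ne_zero))⁻¹ ∈ chevG2.diagonalSubgroup F := by
  have I := X.I
  have hr12 := g2_lt12 hr
  obtain ⟨hp12, -⟩ := g2_perp_perp r hr12
  have hn'' : sl2Hom S (sl2n (1 : F) one_ne_zero) ∈ chevG2.monomialSubgroup F :=
    sl2Hom_sl2n_mem S 1 one_ne_zero
  have hhN : n * (sl2Hom S (sl2n (1 : F) one_ne_zero))⁻¹ ∈ chevG2.monomialSubgroup F :=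
    mul_mem hn (inv_mem hn'')
  obtain ⟨π₁, c₁, hact₁, l, hl, hπl⟩ := g2_rootAct_inW I hhN
  obtain ⟨π₂, c₂, hact₂⟩ := rootAct_of_mem_monomial I hn''
  obtain ⟨hπ₂r, hπ₂p⟩ := g2_nAct I hr S 1 one_ne_zero hact₂
  have hmul := hact₁.mul hact₂
  have e : ((n * (sl2Hom S (sl2n (1 : F) one_ne_zero))⁻¹ : GL chevG2.Idx F) :
        Matrix chevG2.Idx chevG2.Idx F) *
      ((sl2Hom S (sl2n (1 : F) one_ne_zero) : GL chevG2.Idx F) : Matrix chevG2.Idx chevG2.Idx F) =
      (n : Matrix chevG2.Idx chevG2.Idx F) := by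
    rw [← Units.val_mul, inv_mul_cancel_right]
  rw [e] at hmul
  have h1 : π₁ (chevG2.neg r) = chevG2.neg r := by
    have e1 : π r = π₁ (π₂ r) := (rootAct_unique I h hmul hr).1
    rw [hπ, hπ₂r] at e1
    exact e1.symm
  have h1' : π₁ r = r := by
    have e1 := (hact₁ (chevG2.neg r) (I.neg_lt hr)).2.1
    rw [I.neg_neg hr, h1, I.neg_neg hr] at e1
    exact e1
  have h2' : π₁ (g2perp r) = g2perp r := by
    have e1 : π (g2perp r) = π₁ (π₂ (g2perp r)) := (rootAct_unique I h hmul (g2_lt hp12)).1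
    rw [hπp, hπ₂p] at e1
    exact e1.symm
  have hfix : ∀ s, s < 12 → π₁ s = s := by
    intro s hs
    rw [hπl s hs]
    refine g2_wl_fix l hl r hr12 ?_ ?_ s hs
    · rw [← hπl r hr12]
      exact h1'
    · rw [← hπl _ hp12]
      exact h2'
  exact g2_mem_diag X hhN hact₁ hfix

/-- The homomorphism `SL₂ → G` of a positive root is injective. -/
theorem g2_sl2Hom_injective (I : BNInput chevG2 F η) {r : ℕ} (hr : r < chevG2.nroots) (hpos : 6 ≤ r)
    (S : StringData chevG2 ⟨r, hr⟩) : Function.Injective (sl2Hom S (F := F)) := by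
  rw [injective_iff_map_eq_one]
  intro M hM
  obtain ⟨p, q, r', s, hMc⟩ : ∃ p q r' s, (M : Matrix (Fin 2) (Fin 2) F) = !![p, q; r', s] :=
    ⟨_, _, _, _, Matrix.eta_fin_two _⟩
  have hdet := M.2
  rw [hMc, Matrix.det_fin_two_of] at hdet
  have hr12 := g2_lt12 hr
  by_cases hc : r' = 0
  · have hp : p ≠ 0 := by
      intro h0
      rw [h0, hc] at hdet
      simp at hdet
    have hM' : M = sl2h p hp * sl2u (q / p) := by
      refine sl2_eq_of_coe hMc (by
        rw [Matrix.SpecialLinearGroup.coe_mul, sl2h_coe, sl2u_coe, Matrix.mul_fin_two]) ?_ ?_ ?_ ?_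
      · ring
      · have : p * (q / p) = q := by field_simp
        rw [this]
        ring
      · rw [hc]
        ring
      · rw [hc] at hdet
        field_simp
        linear_combination hdet
    rw [hM', map_mul] at hM
    have hu1 : sl2Hom S (sl2u (q / p)) = (sl2Hom S (sl2h p hp))⁻¹ := eq_inv_of_mul_eq_one_right hM
    have hUm : sl2Hom S (sl2u (q / p)) ∈ chevG2.posUnipotent F :=
      x_mem_pos I hr (g2_pos hpos) (sl2Hom_sl2u S _)
    have hTm : sl2Hom S (sl2u (q / p)) ∈ torus chevG2 F := by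
      rw [hu1]
      exact inv_mem (diagonalSubgroup_le_torus I.hSD' (sl2Hom_sl2h_mem S p hp))
    have h1 : sl2Hom S (sl2u (q / p)) ∈ uniK F (rho chevG2) 0 ⊓ torus chevG2 F :=
      Subgroup.mem_inf.mpr ⟨posUnipotent_le_uniK I.posOK hUm, hTm⟩
    rw [uniK_inf_torus, Subgroup.mem_bot] at h1
    have hq : q / p = 0 := by
      apply x_eq_one_imp I (g2_pos hpos) hr
      rw [← sl2Hom_sl2u S, h1, Units.val_one]
    have hq0 : q = 0 := by
      rcases div_eq_zero_iff.mp hq with h | h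
      · exact h
      · exact absurd h hp
    rw [h1, mul_one] at hM
    have e5 : torusMat chevG2 F (fun i => p ^ corootZ chevG2 r i.val) =
        torusMat chevG2 F (fun _ => 1) := by
      rw [← hMat_eq_torusMat S p hp, ← sl2Hom_sl2h S p hp, hM, Units.val_one, torusMat_one]
    obtain ⟨hs12, hpair⟩ := g2_aux_ok r hr12
    have e6 := torusMat_inj_char e5 ⟨g2aux r, g2_lt hs12⟩
    rw [torusChar_coroot p hp, hpair, zpow_one, torusChar_one] at e6
    have hs1 : s = 1 := by
      rw [e6, hq0] at hdet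
      linear_combination hdet
    apply Subtype.ext
    rw [hMc, e6, hq0, hc, hs1, Matrix.SpecialLinearGroup.coe_one, Matrix.one_fin_two]
  · exfalso
    have ht : -r'⁻¹ ≠ 0 := neg_ne_zero.mpr (inv_ne_zero hc)
    have hM' : M = sl2u (p / r') * sl2n (-r'⁻¹) ht * sl2u (s / r') := by
      refine sl2_eq_of_coe hMc (by
        rw [Matrix.SpecialLinearGroup.coe_mul, Matrix.SpecialLinearGroup.coe_mul, sl2u_coe, sl2n_coe,
          sl2u_coe, Matrix.mul_fin_two, Matrix.mul_fin_two]) ?_ ?_ ?_ ?_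
      · field_simp
        ring
      · field_simp
        linear_combination -hdet
      · field_simp
        ring
      · field_simp
        ring
    rw [hM', map_mul, map_mul] at hM
    have hn1 : sl2Hom S (sl2n (-r'⁻¹) ht) = sl2Hom S (sl2u (-(p / r') + -(s / r'))) := by
      rw [sl2u_add, map_mul, sl2u_neg, sl2u_neg, map_inv, map_inv]
      have : sl2Hom S (sl2n (-r'⁻¹) ht) = (sl2Hom S (sl2u (p / r')))⁻¹ *
          (sl2Hom S (sl2u (p / r')) * sl2Hom S (sl2n (-r'⁻¹) ht) * sl2Hom S (sl2u (s / r'))) *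
          (sl2Hom S (sl2u (s / r')))⁻¹ := by group
      rw [this, hM, mul_one]
    obtain ⟨π, c, hact⟩ := rootAct_of_mem_monomial I (sl2Hom_sl2n_mem S (-r'⁻¹) ht)
    obtain ⟨hπr, -⟩ := g2_nAct I hr S _ ht hact
    have hfix : π r = r := by
      apply rootAct_label I hact hr hr one_ne_zero (b := 1)
      rw [hn1, sl2Hom_sl2u, x_add' I.hSD', x_add' I.hSD', add_comm]
    rw [hfix] at hπr
    exact I.neg_ne hr hπr.symm

theorem g2c0_ne (i : Fin chevG2.rank) : g2c0 F i ≠ 0 := by
  unfold g2c0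
  split_ifs
  · exact neg_ne_zero.mpr one_ne_zero
  · exact one_ne_zero

/-- The character of the standard involution. -/
theorem g2_chi {s : ℕ} (hs : s < 12) :
    torusChar chevG2 F (g2c0 F) s = if s = 0 ∨ s = 4 ∨ s = 7 ∨ s = 11 then 1 else -1 := by
  have hk0 : (0 : ℕ) < chevG2.rank := by
    rw [g2_rank]
    norm_num
  have hk1 : (1 : ℕ) < chevG2.rank := by
    rw [g2_rank]
    norm_num
  rw [torusChar_rank2 g2_rank _ s hk0 hk1]
  have e0 : g2c0 F ⟨0, hk0⟩ = -1 := if_pos rfl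
  have e1 : g2c0 F ⟨1, hk1⟩ = 1 := if_neg (by norm_num)
  rw [e0, e1, one_zpow, mul_one]
  have htab := g2_chi_tab s hs
  split_ifs with h
  · rw [if_pos h] at htab
    exact Even.neg_one_zpow (Int.even_iff.mpr htab)
  · rw [if_neg h] at htab
    exact Odd.neg_one_zpow (Int.odd_iff.mpr htab)

/-- Conjugation of a product of root elements by a torus element. -/
theorem torus_conj_wordMat (I : BNInput chevG2 F η) {z : GL chevG2.Idx F} {χ : ℕ → F}
    (hz : RootAct chevG2 F (z : Matrix chevG2.Idx chevG2.Idx F) (fun s => s) χ)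
    (w : List (ℕ × F)) (hw : ∀ p ∈ w, p.1 < chevG2.nroots) :
    (z : Matrix chevG2.Idx chevG2.Idx F) * chevG2.wordMat F w =
      chevG2.wordMat F (w.map fun p => (p.1, χ p.1 * p.2)) * (z : Matrix chevG2.Idx chevG2.Idx F) := by
  induction w with
  | nil => rw [List.map_nil, wordMat_nil, mul_one, one_mul]
  | cons p w ih =>
    rw [List.map_cons, wordMat_cons, wordMat_cons, ← mul_assoc, (hz p.1 (hw p List.mem_cons_self)).2.2,
      mul_assoc, ih (fun q hq => hw q (List.mem_cons_of_mem _ hq)), mul_assoc]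

/-- The elements of `U` centralized by the standard involution lie in `X_7 X_11`. -/
theorem g2_cent_pos (I : BNInput chevG2 F η) (h2 : (2 : F) ≠ 0) {z u : GL chevG2.Idx F}
    (hz : (z : Matrix chevG2.Idx chevG2.Idx F) = torusMat chevG2 F (g2c0 F))
    (hu : u ∈ chevG2.posUnipotent F) (hc : z * u * z⁻¹ = u) :
    ∃ a b : F, u = xGL I.hSD' 7 a * xGL I.hSD' 11 b := by
  obtain ⟨t, ⟨ht0, htu⟩, huniq⟩ := (posUnipotent_ordProd I.hSD' I.hU I.hcomm).1 u hu
  have hzact := rootAct_of_torusMat I g2c0_ne hz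
  have hw : ∀ p ∈ chevG2.posRoots.map (fun r => (r, t r)), p.1 < chevG2.nroots := by
    rw [g2_posRoots]
    intro p hp
    simp only [List.map_cons, List.map_nil, List.mem_cons, List.not_mem_nil, or_false] at hp
    rcases hp with rfl | rfl | rfl | rfl | rfl | rfl <;> exact g2_lt (by norm_num)
  have e1 := torus_conj_wordMat I hzact _ hw
  rw [List.map_map] at e1
  have e2 : (u : Matrix chevG2.Idx chevG2.Idx F) = chevG2.wordMat F
      (chevG2.posRoots.map fun r => (r, torusChar chevG2 F (g2c0 F) r * t r)) := by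
    have e3 : (u : Matrix chevG2.Idx chevG2.Idx F) * (z : Matrix chevG2.Idx chevG2.Idx F) =
        (z : Matrix chevG2.Idx chevG2.Idx F) * (u : Matrix chevG2.Idx chevG2.Idx F) := by
      rw [← Units.val_mul, ← Units.val_mul]
      congr 1
      calc u * z = (z * u * z⁻¹) * z := by rw [hc]
        _ = z * u := by group
    rw [htu] at e3
    rw [e1] at e3
    have := congrArg (fun M => M * ((z⁻¹ : GL chevG2.Idx F) : Matrix chevG2.Idx chevG2.Idx F)) e3
    simp only [mul_assoc, ← Units.val_mul, mul_inv_cancel, Units.val_one, mul_one] at this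
    rw [htu]
    exact this
  have e4 := huniq (fun r => torusChar chevG2 F (g2c0 F) r * t r)
    ⟨fun r hr => by
      show torusChar chevG2 F (g2c0 F) r * t r = 0
      rw [ht0 r hr, mul_zero], e2⟩
  have hzero : ∀ r, r < 12 → ¬ (r = 0 ∨ r = 4 ∨ r = 7 ∨ r = 11) → t r = 0 := by
    intro r hr hne
    have e5 : torusChar chevG2 F (g2c0 F) r * t r = t r := congrFun e4 r
    rw [g2_chi hr, if_neg hne] at e5
    have e6 : (2 : F) * t r = 0 := by linear_combination -e5
    exact (mul_eq_zero.mp e6).resolve_left h2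
  refine ⟨t 7, t 11, Units.ext ?_⟩
  rw [htu, g2_posRoots]
  simp only [List.map_cons, List.map_nil, wordMat_cons, wordMat_nil, Units.val_mul, xGL_coe]
  rw [hzero 6 (by norm_num) (by norm_num), hzero 8 (by norm_num) (by norm_num),
    hzero 9 (by norm_num) (by norm_num), hzero 10 (by norm_num) (by norm_num)]
  simp only [x_zero I.hSD', one_mul, mul_one]

end G2Cent

end Cfsg.Agent.Lib.helper22
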