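import Cfsg.Agent.Lib.helper22.ChevOddG2d

/-!
The centralizer of the standard involution of the Chevalley group of type `G₂` (odd
characteristic) lies in `L₁ L₂ H`.
-/

set_option autoImplicit false
set_option maxRecDepth 100000

namespace Cfsg.Agent.Lib.helper22

open Cfsg.Lie

section G2Cent2

variable {F : Type*} [Field F] {η : ℕ → ℕ → ℤ}

theorem torus_conj_negSet (I : BNInput chevG2 F η) {z n : GL chevG2.Idx F} (hz : z ∈ torus chevG2 F) :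
    ∀ u ∈ Subgroup.closure (negSet chevG2 F n), z * u * z⁻¹ ∈ Subgroup.closure (negSet chevG2 F n) := by
  apply conj_mem_closure
  rintro x ⟨r, t, hr, hmap, hx⟩
  obtain ⟨t', ht'⟩ := torus_conj_x I.hSD hz r hr.1 t
  exact Subgroup.subset_closure ⟨r, t', hr, hmap, by
    rw [Units.val_mul, Units.val_mul, hx]
    exact ht'⟩

/-- The elements of `N` centralized by the standard involution lie in `L₁ L₂ H`. -/
theorem g2_cent_mono (X : G2Ctx F η) {z n : GL chevG2.Idx F}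
    (hz : (z : Matrix chevG2.Idx chevG2.Idx F) = torusMat chevG2 F (g2c0 F))
    (hn : n ∈ chevG2.monomialSubgroup F) (hc : z * n * z⁻¹ = n) (h2 : (2 : F) ≠ 0)
    {h7 : 7 < chevG2.nroots} {h11 : 11 < chevG2.nroots}
    (S₇ : StringData chevG2 ⟨7, h7⟩) (S₁₁ : StringData chevG2 ⟨11, h11⟩) :
    n ∈ (sl2Hom S₇ (F := F)).range ⊔ (sl2Hom S₁₁ (F := F)).range ⊔ chevG2.diagonalSubgroup F := by
  have I := X.I
  obtain ⟨π, c, hact, l, hl, hπl⟩ := g2_rootAct_inW I hn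
  have hzact := rootAct_of_torusMat I g2c0_ne hz
  have hχ : ∀ s, s < 12 → torusChar chevG2 F (g2c0 F) (π s) = torusChar chevG2 F (g2c0 F) s := by
    intro s hs
    have e : z * n = n * z := by
      calc z * n = (z * n * z⁻¹) * z := by group
        _ = n * z := by rw [hc]
    have h1 := hzact.mul hact
    have h2' := hact.mul hzact
    rw [← Units.val_mul] at h1 h2'
    rw [e] at h1
    have e1 : torusChar chevG2 F (g2c0 F) (π s) * c s = c s * torusChar chevG2 F (g2c0 F) s :=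
      (rootAct_unique I h1 h2' (g2_lt hs)).2
    exact mul_right_cancel₀ (rootAct_ne_zero' I hact (g2_lt hs)) (by rw [e1, mul_comm])
  have hπ7lt : π 7 < 12 := g2_lt12 (hact 7 h7).1
  have h7' : π 7 = 0 ∨ π 7 = 4 ∨ π 7 = 7 ∨ π 7 = 11 := by
    have e1 := hχ 7 (by norm_num)
    have e7 : torusChar chevG2 F (g2c0 F) 7 = 1 := by
      rw [g2_chi (by norm_num : 7 < 12)]
      exact if_pos (by norm_num)
    rw [e7, g2_chi hπ7lt] at e1
    by_contra hne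
    rw [if_neg hne] at e1
    have : (2 : F) = 0 := by linear_combination -e1
    exact h2 this
  rw [hπl 7 (by norm_num)] at h7'
  obtain ⟨ha, hb⟩ := g2_wl_cent l hl h7'
  rw [← hπl 7 (by norm_num)] at ha
  rw [← hπl 11 (by norm_num)] at hb
  have hp7 : g2perp 7 = 11 := by decide
  have hp11 : g2perp 11 = 7 := by decide
  have hn7 : chevG2.neg 7 = 4 := g2_neg_eq (by norm_num)
  have hn11 : chevG2.neg 11 = 0 := g2_neg_eq (by norm_num)
  have hn4 : chevG2.neg 4 = 7 := g2_neg_eq (by norm_num)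
  have hL1 : ∀ M, sl2Hom S₇ M ∈ (sl2Hom S₇ (F := F)).range ⊔ (sl2Hom S₁₁ (F := F)).range ⊔
      chevG2.diagonalSubgroup F :=
    fun M => Subgroup.mem_sup_left (Subgroup.mem_sup_left ⟨M, rfl⟩)
  have hL2 : ∀ M, sl2Hom S₁₁ M ∈ (sl2Hom S₇ (F := F)).range ⊔ (sl2Hom S₁₁ (F := F)).range ⊔
      chevG2.diagonalSubgroup F :=
    fun M => Subgroup.mem_sup_left (Subgroup.mem_sup_right ⟨M, rfl⟩)
  have hH : ∀ h ∈ chevG2.diagonalSubgroup F, h ∈ (sl2Hom S₇ (F := F)).range ⊔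
      (sl2Hom S₁₁ (F := F)).range ⊔ chevG2.diagonalSubgroup F :=
    fun h hh => Subgroup.mem_sup_right hh
  rcases ha with ha | ha <;> rcases hb with hb | hb
  · apply hH
    apply g2_mem_diag X hn hact
    intro s hs
    rw [hπl s hs]
    refine g2_wl_fix l hl 7 (by norm_num) ?_ ?_ s hs
    · rw [← hπl 7 (by norm_num)]
      exact ha
    · rw [hp7, ← hπl 11 (by norm_num)]
      exact hb
  · have hk := g2_refl_coset X hn hact h11 (by rw [hb, hn11]) (by rw [hp11]; exact ha) S₁₁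
    have : n = (n * (sl2Hom S₁₁ (sl2n (1 : F) one_ne_zero))⁻¹) *
        sl2Hom S₁₁ (sl2n (1 : F) one_ne_zero) := by group
    rw [this]
    exact mul_mem (hH _ hk) (hL2 _)
  · have hk := g2_refl_coset X hn hact h7 (by rw [ha, hn7]) (by rw [hp7]; exact hb) S₇
    have : n = (n * (sl2Hom S₇ (sl2n (1 : F) one_ne_zero))⁻¹) *
        sl2Hom S₇ (sl2n (1 : F) one_ne_zero) := by group
    rw [this]
    exact mul_mem (hH _ hk) (hL1 _)
  · have hm1 : (-1 : F) ≠ 0 := neg_ne_zero.mpr one_ne_zero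
    have hn7inv : (sl2Hom S₇ (sl2n (1 : F) one_ne_zero))⁻¹ = sl2Hom S₇ (sl2n (-1) hm1) := by
      rw [← map_inv, sl2n_inv]
    have hn7N : sl2Hom S₇ (sl2n (-1 : F) hm1) ∈ chevG2.monomialSubgroup F := sl2Hom_sl2n_mem S₇ _ _
    obtain ⟨π₃, c₃, hact₃⟩ := rootAct_of_mem_monomial I hn7N
    obtain ⟨hπ₃r, hπ₃p⟩ := g2_nAct I h7 S₇ (-1) hm1 hact₃
    have hactm := hact.mul hact₃
    rw [← Units.val_mul] at hactm
    have hmN := mul_mem hn hn7N
    have hA : (fun s => π (π₃ s)) 11 = chevG2.neg 11 := by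
      show π (π₃ 11) = chevG2.neg 11
      rw [hp7] at hπ₃p
      rw [hπ₃p, hb, hn11]
    have hB : (fun s => π (π₃ s)) (g2perp 11) = g2perp 11 := by
      show π (π₃ (g2perp 11)) = g2perp 11
      rw [hp11, hπ₃r, (hact 7 h7).2.1, ha, hn4]
    have hk := g2_refl_coset X hmN hactm h11 hA hB S₁₁
    have : n = (n * sl2Hom S₇ (sl2n (-1) hm1) * (sl2Hom S₁₁ (sl2n (1 : F) one_ne_zero))⁻¹) *
        sl2Hom S₁₁ (sl2n (1 : F) one_ne_zero) * sl2Hom S₇ (sl2n (1 : F) one_ne_zero) := by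
      rw [← hn7inv]
      group
    rw [this]
    exact mul_mem (mul_mem (hH _ hk) (hL2 _)) (hL1 _)

/-- The centralizer of the standard involution lies in `L₁ L₂ H`. -/
theorem g2_cent_le (X : G2Ctx F η) (hpn : ∀ r, r < chevG2.nroots → chevG2.IsPosRoot r ∨ chevG2.IsNegRoot r)
    (hN : ∀ r, chevG2.IsNegRoot r → NegOK chevG2 r) (h2 : (2 : F) ≠ 0) {z g : GL chevG2.Idx F}
    (hz : (z : Matrix chevG2.Idx chevG2.Idx F) = torusMat chevG2 F (g2c0 F))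
    (hg : g ∈ chevG2.group F) (hc : z * g * z⁻¹ = g)
    {h7 : 7 < chevG2.nroots} {h11 : 11 < chevG2.nroots}
    (S₇ : StringData chevG2 ⟨7, h7⟩) (S₁₁ : StringData chevG2 ⟨11, h11⟩) :
    g ∈ (sl2Hom S₇ (F := F)).range ⊔ (sl2Hom S₁₁ (F := F)).range ⊔ chevG2.diagonalSubgroup F := by
  have I := X.I
  have hzT : z ∈ torus chevG2 F := ⟨g2c0 F, g2c0_ne, hz⟩
  have hzH : z ∈ chevG2.diagonalSubgroup F := by
    rw [diagonalSubgroup_eq_torus I.hS I.hSD']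
    exact hzT
  have hHT := diagonalSubgroup_le_torus I.hSD' (F := F)
  obtain ⟨b, hb, n, hn, u, hu, rfl⟩ := canon_exists I hpn hN X.hBG X.hNG X.hG hg
  have hh' : z * n * z⁻¹ * n⁻¹ ∈ chevG2.diagonalSubgroup F := by
    have h1 := conj_mem_diag I hn (inv_mem hzH)
    have e : z * n * z⁻¹ * n⁻¹ = z * (n * z⁻¹ * n⁻¹) := by group
    rw [e]
    exact mul_mem hzH h1
  have hzB : z ∈ chevG2.borelSubgroup F := Subgroup.mem_sup_right hzH
  have hb' : z * b * z⁻¹ * (z * n * z⁻¹ * n⁻¹) ∈ chevG2.borelSubgroup F :=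
    mul_mem (mul_mem (mul_mem hzB hb) (inv_mem hzB)) (Subgroup.mem_sup_right hh')
  have hu' := torus_conj_negSet I hzT u hu
  have heq : b * n * u = (z * b * z⁻¹ * (z * n * z⁻¹ * n⁻¹)) * n * (z * u * z⁻¹) := by
    have : (z * b * z⁻¹ * (z * n * z⁻¹ * n⁻¹)) * n * (z * u * z⁻¹) = z * (b * n * u) * z⁻¹ := by group
    rw [this, hc]
  obtain ⟨hbb, huu⟩ := (canon_unique I hN X.hBG X.hNG X.hG hb hb' hn hn hu hu' heq).2 rfl
  obtain ⟨u₁, hu₁, k, hk, rfl⟩ := borel_decomp I hb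
  have hkT := hHT hk
  have hzk : z * k * z⁻¹ = k := by
    rw [torus_comm hzT hkT]
    group
  have e2 : u₁ * k = (z * u₁ * z⁻¹) * (k * (z * n * z⁻¹ * n⁻¹)) := by
    calc u₁ * k = z * (u₁ * k) * z⁻¹ * (z * n * z⁻¹ * n⁻¹) := hbb
      _ = (z * u₁ * z⁻¹) * ((z * k * z⁻¹) * (z * n * z⁻¹ * n⁻¹)) := by group
      _ = _ := by rw [hzk]
  have e1 : (z * u₁ * z⁻¹)⁻¹ * u₁ = k * (z * n * z⁻¹ * n⁻¹) * k⁻¹ := by
    calc (z * u₁ * z⁻¹)⁻¹ * u₁ = (z * u₁ * z⁻¹)⁻¹ * (u₁ * k) * k⁻¹ := by group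
      _ = (z * u₁ * z⁻¹)⁻¹ * ((z * u₁ * z⁻¹) * (k * (z * n * z⁻¹ * n⁻¹))) * k⁻¹ := by rw [← e2]
      _ = _ := by group
  have hzu₁ : z * u₁ * z⁻¹ ∈ chevG2.posUnipotent F := diag_conj_mem_pos I hzH hu₁
  have h3 : (z * u₁ * z⁻¹)⁻¹ * u₁ ∈ uniK F (rho chevG2) 0 ⊓ torus chevG2 F := by
    refine Subgroup.mem_inf.mpr ⟨posUnipotent_le_uniK I.posOK (mul_mem (inv_mem hzu₁) hu₁), ?_⟩
    rw [e1]
    exact mul_mem (mul_mem hkT (hHT hh')) (inv_mem hkT)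
  rw [uniK_inf_torus, Subgroup.mem_bot] at h3
  have hcu₁ : z * u₁ * z⁻¹ = u₁ := inv_mul_eq_one.mp h3
  have hcn : z * n * z⁻¹ = n := by
    rw [h3] at e1
    have e4 : z * n * z⁻¹ * n⁻¹ = 1 := by
      have : z * n * z⁻¹ * n⁻¹ = k⁻¹ * (k * (z * n * z⁻¹ * n⁻¹) * k⁻¹) * k := by group
      rw [this, ← e1]
      group
    exact mul_inv_eq_one.mp e4
  obtain ⟨a₁, b₁, hu₁eq⟩ := g2_cent_pos I h2 hz hu₁ hcu₁
  obtain ⟨a₂, b₂, hueq⟩ := g2_cent_pos I h2 hz (negSet_le_pos n hu) huu.symm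
  have hnK := g2_cent_mono X hz hn hcn h2 S₇ S₁₁
  have hx7 : ∀ a : F, xGL I.hSD' 7 a ∈ (sl2Hom S₇ (F := F)).range ⊔ (sl2Hom S₁₁ (F := F)).range ⊔
      chevG2.diagonalSubgroup F := fun a => by
    have : xGL I.hSD' 7 a = sl2Hom S₇ (sl2u a) :=
      Units.ext ((xGL_coe _ _ _).trans (sl2Hom_sl2u S₇ a).symm)
    rw [this]
    exact Subgroup.mem_sup_left (Subgroup.mem_sup_left ⟨_, rfl⟩)
  have hx11 : ∀ a : F, xGL I.hSD' 11 a ∈ (sl2Hom S₇ (F := F)).range ⊔ (sl2Hom S₁₁ (F := F)).range ⊔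
      chevG2.diagonalSubgroup F := fun a => by
    have : xGL I.hSD' 11 a = sl2Hom S₁₁ (sl2u a) :=
      Units.ext ((xGL_coe _ _ _).trans (sl2Hom_sl2u S₁₁ a).symm)
    rw [this]
    exact Subgroup.mem_sup_left (Subgroup.mem_sup_right ⟨_, rfl⟩)
  rw [hu₁eq, hueq]
  exact mul_mem (mul_mem (mul_mem (mul_mem (hx7 a₁) (hx11 b₁)) (Subgroup.mem_sup_right hk)) hnK)
    (mul_mem (hx7 a₂) (hx11 b₂))

end G2Cent2

end Cfsg.Agent.Lib.helper22
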