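import Cfsg.Agent.Lib.helper22.ChevOddG2e
import Cfsg.Agent.Lib.helper7.CardSL

/-!
The structure of the centralizer of the standard involution of the Chevalley group of type `G₂`
over a finite field of odd order: it is `L₁ L₂ H` with `L₁ ∘ L₂` of index two.
-/

set_option autoImplicit false
set_option maxRecDepth 100000

namespace Cfsg.Agent.Lib.helper22

open Cfsg.Lie

section GrpGen

theorem mem_sup_of_normalizes {G : Type*} [Group G] (K H : Subgroup G)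
    (hnorm : ∀ h ∈ H, ∀ k ∈ K, h * k * h⁻¹ ∈ K) {g : G} (hg : g ∈ K ⊔ H) :
    ∃ k ∈ K, ∃ h ∈ H, g = k * h := by
  rw [Subgroup.sup_eq_closure] at hg
  induction hg using Subgroup.closure_induction with
  | mem x hx =>
    rcases hx with hx | hx
    · exact ⟨x, hx, 1, one_mem _, (mul_one x).symm⟩
    · exact ⟨1, one_mem _, x, hx, (one_mul x).symm⟩
  | one => exact ⟨1, one_mem _, 1, one_mem _, (mul_one 1).symm⟩
  | mul x y _ _ hx hy =>
    obtain ⟨k₁, hk₁, h₁, hh₁, rfl⟩ := hx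
    obtain ⟨k₂, hk₂, h₂, hh₂, rfl⟩ := hy
    exact ⟨k₁ * (h₁ * k₂ * h₁⁻¹), mul_mem hk₁ (hnorm h₁ hh₁ k₂ hk₂), h₁ * h₂, mul_mem hh₁ hh₂,
      by group⟩
  | inv x _ hx =>
    obtain ⟨k₁, hk₁, h₁, hh₁, rfl⟩ := hx
    exact ⟨h₁⁻¹ * k₁⁻¹ * h₁⁻¹⁻¹, hnorm h₁⁻¹ (inv_mem hh₁) k₁⁻¹ (inv_mem hk₁), h₁⁻¹, inv_mem hh₁,
      by group⟩

end GrpGen

section SL2C

variable {F : Type*} [Field F]

theorem sl2l_coe (t : F) : (sl2l t : Matrix (Fin 2) (Fin 2) F) = !![1, 0; t, 1] := rfl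

/-- An element of `SL₂` commuting with the two elementary matrices is `± 1`. -/
theorem sl2_central {M : Matrix.SpecialLinearGroup (Fin 2) F}
    (h1 : M * sl2u 1 = sl2u 1 * M) (h2 : M * sl2l 1 = sl2l 1 * M) :
    M = 1 ∨ M = sl2h (-1 : F) (neg_ne_zero.mpr one_ne_zero) := by
  obtain ⟨p, q, r, s, hMc⟩ : ∃ p q r s, (M : Matrix (Fin 2) (Fin 2) F) = !![p, q; r, s] :=
    ⟨_, _, _, _, Matrix.eta_fin_two _⟩
  have hdet := M.2
  rw [hMc, Matrix.det_fin_two_of] at hdet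
  have e1 := congrArg (fun A : Matrix.SpecialLinearGroup (Fin 2) F =>
    (A : Matrix (Fin 2) (Fin 2) F)) h1
  have e2 := congrArg (fun A : Matrix.SpecialLinearGroup (Fin 2) F =>
    (A : Matrix (Fin 2) (Fin 2) F)) h2
  simp only [Matrix.SpecialLinearGroup.coe_mul, hMc, sl2u_coe, sl2l_coe, Matrix.mul_fin_two] at e1 e2
  have a1 : p * 1 + q * 0 = 1 * p + 1 * r := congrFun (congrFun e1 0) 0
  have a2 : p * 1 + q * 1 = 1 * q + 1 * s := congrFun (congrFun e1 0) 1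
  have a3 : p * 1 + q * 1 = 1 * p + 0 * r := congrFun (congrFun e2 0) 0
  have hr0 : r = 0 := by linear_combination -a1
  have hps : p = s := by linear_combination a2
  have hq0 : q = 0 := by linear_combination a3
  have hpp : (p - 1) * (p + 1) = 0 := by
    rw [hq0, hr0, ← hps] at hdet
    linear_combination hdet
  rcases mul_eq_zero.mp hpp with h | h
  · left
    apply Subtype.ext
    rw [hMc, Matrix.SpecialLinearGroup.coe_one, Matrix.one_fin_two, hq0, hr0, ← hps, sub_eq_zero.mp h]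
  · right
    have hp : p = -1 := by linear_combination h
    apply Subtype.ext
    rw [hMc, sl2h_coe, hq0, hr0, ← hps, hp, inv_neg_one]

theorem sl2h_neg_one_comm (M : Matrix.SpecialLinearGroup (Fin 2) F) (hm1 : (-1 : F) ≠ 0) :
    sl2h (-1 : F) hm1 * M = M * sl2h (-1 : F) hm1 := by
  apply Subtype.ext
  rw [Matrix.SpecialLinearGroup.coe_mul, Matrix.SpecialLinearGroup.coe_mul, sl2h_coe, inv_neg_one]
  ext i j
  fin_cases i <;> fin_cases j <;> simp [Matrix.mul_apply, Fin.sum_univ_two]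

theorem sl2h_neg_one_ne_one (h2 : (2 : F) ≠ 0) (hm1 : (-1 : F) ≠ 0) :
    sl2h (-1 : F) hm1 ≠ 1 := by
  intro h
  have e : ((sl2h (-1 : F) hm1 : Matrix.SpecialLinearGroup (Fin 2) F) :
      Matrix (Fin 2) (Fin 2) F) 0 0 = (1 : Matrix (Fin 2) (Fin 2) F) 0 0 := by
    rw [h]
    rfl
  rw [Matrix.one_apply_eq] at e
  have e' : (-1 : F) = 1 := e
  apply h2
  linear_combination -e'

/-- In a finite field of odd order the product of two nonsquares is a square. -/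
theorem ff_nonsq_mul [Fintype F] {a b : F} (ha : ¬ IsSquare a) (hb : ¬ IsSquare b) :
    IsSquare (a * b) := by
  classical
  have ha0 : a ≠ 0 := by
    rintro rfl
    exact ha IsSquare.zero
  have hb0 : b ≠ 0 := by
    rintro rfl
    exact hb IsSquare.zero
  rw [← quadraticChar_neg_one_iff_not_isSquare] at ha hb
  rw [← quadraticChar_one_iff_isSquare (mul_ne_zero ha0 hb0), map_mul, ha, hb]
  norm_num

end SL2C

section G2Str

variable {F : Type*} [Field F] {η : ℕ → ℕ → ℤ}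

/-- The two rank one subgroups commute. -/
theorem g2_L_comm (I : BNInput chevG2 F η) {h7 : 7 < chevG2.nroots} {h11 : 11 < chevG2.nroots}
    (S₇ : StringData chevG2 ⟨7, h7⟩) (S₁₁ : StringData chevG2 ⟨11, h11⟩)
    (M M' : Matrix.SpecialLinearGroup (Fin 2) F) :
    sl2Hom S₇ M * sl2Hom S₁₁ M' = sl2Hom S₁₁ M' * sl2Hom S₇ M := by
  have hp7 : g2perp 7 = 11 := by decide
  have hle : (sl2Hom S₁₁ (F := F)).range ≤ Subgroup.centralizer {sl2Hom S₇ M} := by
    rw [sl2Hom_range, sup_le_iff]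
    constructor
    · unfold ChevalleyDatum.rootSubgroup
      rw [Subgroup.closure_le]
      rintro g ⟨t, hg⟩
      have hg' : g = xGL I.hSD' 11 t := Units.ext (hg.trans (xGL_coe I.hSD' 11 t).symm)
      rw [hg', SetLike.mem_coe, Subgroup.mem_centralizer_iff]
      intro h hh
      rw [Set.mem_singleton_iff] at hh
      rw [hh]
      exact g2_sl2_comm I h7 S₇ (q := 11) (by rw [hp7]; simp) M t
    · unfold ChevalleyDatum.rootSubgroup
      rw [Subgroup.closure_le]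
      rintro g ⟨t, hg⟩
      have hg' : g = xGL I.hSD' (chevG2.neg 11) t :=
        Units.ext (hg.trans (xGL_coe I.hSD' (chevG2.neg 11) t).symm)
      rw [hg', SetLike.mem_coe, Subgroup.mem_centralizer_iff]
      intro h hh
      rw [Set.mem_singleton_iff] at hh
      rw [hh]
      exact g2_sl2_comm I h7 S₇ (q := chevG2.neg 11) (by rw [hp7]; simp) M t
  have h3 := hle ⟨M', rfl⟩
  rw [Subgroup.mem_centralizer_iff] at h3
  exact h3 _ (Set.mem_singleton _)

/-- The standard involution is `h_7(-1) = h_11(-1)`. -/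
theorem g2_z_eq {z : GL chevG2.Idx F}
    (hz : (z : Matrix chevG2.Idx chevG2.Idx F) = torusMat chevG2 F (g2c0 F))
    {h7 : 7 < chevG2.nroots} {h11 : 11 < chevG2.nroots}
    (S₇ : StringData chevG2 ⟨7, h7⟩) (S₁₁ : StringData chevG2 ⟨11, h11⟩) (hm1 : (-1 : F) ≠ 0) :
    z = sl2Hom S₇ (sl2h (-1) hm1) ∧ z = sl2Hom S₁₁ (sl2h (-1) hm1) := by
  obtain ⟨c70, c71, c110, c111⟩ := g2_coroot_tab2
  constructor
  · apply Units.ext
    rw [hz, sl2Hom_sl2h, hMat_eq_torusMat S₇ _ hm1]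
    congr 1
    funext i
    show g2c0 F i = (-1 : F) ^ corootZ chevG2 7 i.val
    have hi : i.val < 2 := lt_of_lt_of_eq i.isLt g2_rank
    unfold g2c0
    rcases Nat.lt_or_ge i.val 1 with h | h
    · have h0 : i.val = 0 := by omega
      rw [if_pos h0, h0, c70, zpow_one]
    · have h1 : i.val = 1 := by omega
      rw [if_neg (by omega), h1, c71, zpow_zero]
  · apply Units.ext
    rw [hz, sl2Hom_sl2h, hMat_eq_torusMat S₁₁ _ hm1]
    congr 1
    funext i
    show g2c0 F i = (-1 : F) ^ corootZ chevG2 11 i.val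
    have hi : i.val < 2 := lt_of_lt_of_eq i.isLt g2_rank
    unfold g2c0
    rcases Nat.lt_or_ge i.val 1 with h | h
    · have h0 : i.val = 0 := by omega
      rw [if_pos h0, h0, c110, zpow_one]
    · have h1 : i.val = 1 := by omega
      rw [if_neg (by omega), h1, c111]
      norm_num

/-- The intersection of the two rank one subgroups. -/
theorem g2_inf (I : BNInput chevG2 F η) {h7 : 7 < chevG2.nroots} {h11 : 11 < chevG2.nroots}
    (S₇ : StringData chevG2 ⟨7, h7⟩) (S₁₁ : StringData chevG2 ⟨11, h11⟩) (hm1 : (-1 : F) ≠ 0)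
    {x : GL chevG2.Idx F} (hx1 : x ∈ (sl2Hom S₇ (F := F)).range)
    (hx2 : x ∈ (sl2Hom S₁₁ (F := F)).range) :
    x = 1 ∨ x = sl2Hom S₇ (sl2h (-1) hm1) := by
  obtain ⟨M, rfl⟩ := hx1
  obtain ⟨M', hM'⟩ := hx2
  have hinj := g2_sl2Hom_injective I h7 (by norm_num) S₇
  have hcomm : ∀ N, M * N = N * M := by
    intro N
    apply hinj
    rw [map_mul, map_mul, ← hM']
    exact (g2_L_comm I S₇ S₁₁ N M').symm
  rcases sl2_central (hcomm (sl2u 1)) (hcomm (sl2l 1)) with h | h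
  · left
    rw [h, map_one]
  · right
    rw [h]

/-- The standard involution centralizes `L₁ L₂`. -/
theorem g2_z_comm {z : GL chevG2.Idx F}
    (hz : (z : Matrix chevG2.Idx chevG2.Idx F) = torusMat chevG2 F (g2c0 F))
    {h7 : 7 < chevG2.nroots} {h11 : 11 < chevG2.nroots}
    (S₇ : StringData chevG2 ⟨7, h7⟩) (S₁₁ : StringData chevG2 ⟨11, h11⟩) :
    (sl2Hom S₇ (F := F)).range ⊔ (sl2Hom S₁₁ (F := F)).range ≤ Subgroup.centralizer {z} := by
  have hm1 : (-1 : F) ≠ 0 := neg_ne_zero.mpr one_ne_zero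
  obtain ⟨hz7, hz11⟩ := g2_z_eq hz S₇ S₁₁ hm1
  refine sup_le ?_ ?_
  · rintro _ ⟨M, rfl⟩
    rw [Subgroup.mem_centralizer_iff]
    intro h hh
    rw [Set.mem_singleton_iff] at hh
    rw [hh, hz7, ← map_mul, ← map_mul, sl2h_neg_one_comm]
  · rintro _ ⟨M, rfl⟩
    rw [Subgroup.mem_centralizer_iff]
    intro h hh
    rw [Set.mem_singleton_iff] at hh
    rw [hh, hz11, ← map_mul, ← map_mul, sl2h_neg_one_comm]

/-- Elements of `L₁ L₂` are products. -/
theorem g2_K_decomp (I : BNInput chevG2 F η) {h7 : 7 < chevG2.nroots} {h11 : 11 < chevG2.nroots}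
    (S₇ : StringData chevG2 ⟨7, h7⟩) (S₁₁ : StringData chevG2 ⟨11, h11⟩) {x : GL chevG2.Idx F}
    (hx : x ∈ (sl2Hom S₇ (F := F)).range ⊔ (sl2Hom S₁₁ (F := F)).range) :
    ∃ M M', x = sl2Hom S₇ M * sl2Hom S₁₁ M' := by
  obtain ⟨k, ⟨M, rfl⟩, k', ⟨M', rfl⟩, rfl⟩ := mem_sup_of_normalizes _ _ (fun b hb a ha => by
    obtain ⟨M', rfl⟩ := hb
    obtain ⟨M, rfl⟩ := ha
    rw [← g2_L_comm I S₇ S₁₁ M M', mul_inv_cancel_right]
    exact ⟨M, rfl⟩) hx
  exact ⟨M, M', rfl⟩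

/-- A torus element of `L₁ L₂` has a square as its second parameter. -/
theorem g2_K_square (I : BNInput chevG2 F η) {h7 : 7 < chevG2.nroots} {h11 : 11 < chevG2.nroots}
    (S₇ : StringData chevG2 ⟨7, h7⟩) (S₁₁ : StringData chevG2 ⟨11, h11⟩) {h : GL chevG2.Idx F}
    {c : Fin chevG2.rank → F} (hc : ∀ i, c i ≠ 0)
    (hh : (h : Matrix chevG2.Idx chevG2.Idx F) = torusMat chevG2 F c)
    (hK : h ∈ (sl2Hom S₇ (F := F)).range ⊔ (sl2Hom S₁₁ (F := F)).range)
    (hk1 : 1 < chevG2.rank) : ∃ e : F, c ⟨1, hk1⟩ = e * e := by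
  obtain ⟨M, M', rfl⟩ := g2_K_decomp I S₇ S₁₁ hK
  have hχ : torusChar chevG2 F c 11 = c ⟨1, hk1⟩ := torusChar_of_cartan hk1 g2_cart11' c
  have hact := rootAct_of_torusMat I hc hh
  have e1 : (sl2Hom S₇ M * sl2Hom S₁₁ M') * xGL I.hSD' 11 1 =
      xGL I.hSD' 11 (c ⟨1, hk1⟩ * 1) * (sl2Hom S₇ M * sl2Hom S₁₁ M') := by
    apply Units.ext
    simp only [Units.val_mul, xGL_coe]
    rw [← hχ]
    exact (hact 11 h11).2.2 1
  have x11 : ∀ a : F, xGL I.hSD' 11 a = sl2Hom S₁₁ (sl2u a) := fun a =>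
    Units.ext ((xGL_coe _ _ _).trans (sl2Hom_sl2u S₁₁ a).symm)
  have e2 : sl2Hom S₇ M * (sl2Hom S₁₁ M' * sl2Hom S₁₁ (sl2u 1)) =
      sl2Hom S₇ M * (sl2Hom S₁₁ (sl2u (c ⟨1, hk1⟩)) * sl2Hom S₁₁ M') := by
    calc sl2Hom S₇ M * (sl2Hom S₁₁ M' * sl2Hom S₁₁ (sl2u 1))
        = (sl2Hom S₇ M * sl2Hom S₁₁ M') * xGL I.hSD' 11 1 := by rw [x11, mul_assoc]
      _ = xGL I.hSD' 11 (c ⟨1, hk1⟩ * 1) * (sl2Hom S₇ M * sl2Hom S₁₁ M') := e1
      _ = sl2Hom S₁₁ (sl2u (c ⟨1, hk1⟩)) * sl2Hom S₇ M * sl2Hom S₁₁ M' := by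
        rw [x11, mul_one, mul_assoc]
      _ = sl2Hom S₇ M * (sl2Hom S₁₁ (sl2u (c ⟨1, hk1⟩)) * sl2Hom S₁₁ M') := by
        rw [← g2_L_comm I S₇ S₁₁ M (sl2u (c ⟨1, hk1⟩)), mul_assoc]
  have hinj := g2_sl2Hom_injective I h11 (by norm_num) S₁₁
  have e3 : M' * sl2u 1 = sl2u (c ⟨1, hk1⟩) * M' := hinj (by
    rw [map_mul, map_mul]
    exact mul_left_cancel e2)
  obtain ⟨p, q, r, s, hMc⟩ : ∃ p q r s, (M' : Matrix (Fin 2) (Fin 2) F) = !![p, q; r, s] :=
    ⟨_, _, _, _, Matrix.eta_fin_two _⟩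
  have hdet := M'.2
  rw [hMc, Matrix.det_fin_two_of] at hdet
  have e4 := congrArg (fun A : Matrix.SpecialLinearGroup (Fin 2) F =>
    (A : Matrix (Fin 2) (Fin 2) F)) e3
  simp only [Matrix.SpecialLinearGroup.coe_mul, hMc, sl2u_coe, Matrix.mul_fin_two] at e4
  have a1 : p * 1 + q * 0 = 1 * p + c ⟨1, hk1⟩ * r := congrFun (congrFun e4 0) 0
  have a2 : p * 1 + q * 1 = 1 * q + c ⟨1, hk1⟩ * s := congrFun (congrFun e4 0) 1
  have hr0 : r = 0 := by
    have : c ⟨1, hk1⟩ * r = 0 := by linear_combination -a1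
    exact (mul_eq_zero.mp this).resolve_left (hc _)
  rw [hr0] at hdet
  refine ⟨p, ?_⟩
  linear_combination (-c ⟨1, hk1⟩) * hdet + (-p) * a2

/-- A torus element whose second parameter is a square lies in `L₁ L₂`. -/
theorem g2_square_K {h7 : 7 < chevG2.nroots} {h11 : 11 < chevG2.nroots}
    (S₇ : StringData chevG2 ⟨7, h7⟩) (S₁₁ : StringData chevG2 ⟨11, h11⟩) {h : GL chevG2.Idx F}
    {c : Fin chevG2.rank → F} (hc : ∀ i, c i ≠ 0)
    (hh : (h : Matrix chevG2.Idx chevG2.Idx F) = torusMat chevG2 F c)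
    (hk0 : 0 < chevG2.rank) (hk1 : 1 < chevG2.rank) {e : F} (he : c ⟨1, hk1⟩ = e * e) :
    h ∈ (sl2Hom S₇ (F := F)).range ⊔ (sl2Hom S₁₁ (F := F)).range := by
  obtain ⟨c70, c71, c110, c111⟩ := g2_coroot_tab2
  have he0 : e ≠ 0 := by
    rintro rfl
    exact hc ⟨1, hk1⟩ (by rw [he, mul_zero])
  have ha0 : c ⟨0, hk0⟩ / e ≠ 0 := div_ne_zero (hc _) he0
  have key : h = sl2Hom S₇ (sl2h _ ha0) * sl2Hom S₁₁ (sl2h e he0) := by
    apply Units.ext
    rw [Units.val_mul, sl2Hom_sl2h, sl2Hom_sl2h, hMat_eq_torusMat S₇ _ ha0,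
      hMat_eq_torusMat S₁₁ _ he0, torusMat_mul, hh]
    congr 1
    funext i
    show c i = (c ⟨0, hk0⟩ / e) ^ corootZ chevG2 7 i.val * e ^ corootZ chevG2 11 i.val
    have hi : i.val < 2 := lt_of_lt_of_eq i.isLt g2_rank
    rcases Nat.lt_or_ge i.val 1 with h | h
    · have h0 : i.val = 0 := by omega
      have hi0 : i = ⟨0, hk0⟩ := Fin.ext h0
      rw [h0, c70, c110, zpow_one, zpow_one, hi0]
      field_simp
    · have h1 : i.val = 1 := by omega
      have hi1 : i = ⟨1, hk1⟩ := Fin.ext h1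
      rw [h1, c71, c111, zpow_zero, one_mul, hi1, he, zpow_two]
  rw [key]
  exact mul_mem (Subgroup.mem_sup_left ⟨_, rfl⟩) (Subgroup.mem_sup_right ⟨_, rfl⟩)

/-- `H` normalizes `L₁ L₂`. -/
theorem g2_H_norm (I : BNInput chevG2 F η) {h7 : 7 < chevG2.nroots} {h11 : 11 < chevG2.nroots}
    (S₇ : StringData chevG2 ⟨7, h7⟩) (S₁₁ : StringData chevG2 ⟨11, h11⟩) :
    ∀ h ∈ chevG2.diagonalSubgroup F,
      ∀ k ∈ (sl2Hom S₇ (F := F)).range ⊔ (sl2Hom S₁₁ (F := F)).range,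
      h * k * h⁻¹ ∈ (sl2Hom S₇ (F := F)).range ⊔ (sl2Hom S₁₁ (F := F)).range := by
  intro h hh k hk
  have hT := diagonalSubgroup_le_torus I.hSD' hh
  have key : ∀ r, r < chevG2.nroots →
      Subgroup.map (MulAut.conj h).toMonoidHom (chevG2.rootSubgroup F r) ≤ chevG2.rootSubgroup F r := by
    intro r hr
    rintro _ ⟨g, hg, rfl⟩
    show h * g * h⁻¹ ∈ chevG2.rootSubgroup F r
    revert g
    unfold ChevalleyDatum.rootSubgroup
    apply conj_mem_closure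
    rintro x ⟨t, hx⟩
    obtain ⟨t', ht'⟩ := torus_conj_x I.hSD hT r hr t
    exact Subgroup.subset_closure ⟨t', by
      rw [Units.val_mul, Units.val_mul, hx]
      exact ht'⟩
  rw [sl2Hom_range, sl2Hom_range] at hk ⊢
  have hle : Subgroup.map (MulAut.conj h).toMonoidHom
      ((chevG2.rootSubgroup F 7 ⊔ chevG2.rootSubgroup F (chevG2.neg 7)) ⊔
        (chevG2.rootSubgroup F 11 ⊔ chevG2.rootSubgroup F (chevG2.neg 11))) ≤
      (chevG2.rootSubgroup F 7 ⊔ chevG2.rootSubgroup F (chevG2.neg 7)) ⊔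
        (chevG2.rootSubgroup F 11 ⊔ chevG2.rootSubgroup F (chevG2.neg 11)) := by
    rw [Subgroup.map_sup, Subgroup.map_sup, Subgroup.map_sup]
    exact sup_le_sup (sup_le_sup (key 7 h7) (key _ (I.neg_lt h7)))
      (sup_le_sup (key 11 h11) (key _ (I.neg_lt h11)))
  exact hle ⟨k, hk, rfl⟩

/-- The index two statement. -/
theorem g2_index_two (X : G2Ctx F η)
    (hpn : ∀ r, r < chevG2.nroots → chevG2.IsPosRoot r ∨ chevG2.IsNegRoot r)
    (hN : ∀ r, chevG2.IsNegRoot r → NegOK chevG2 r) [Fintype F] (hF : Odd (Fintype.card F))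
    {z : GL chevG2.Idx F}
    (hz : (z : Matrix chevG2.Idx chevG2.Idx F) = torusMat chevG2 F (g2c0 F))
    {h7 : 7 < chevG2.nroots} {h11 : 11 < chevG2.nroots}
    (S₇ : StringData chevG2 ⟨7, h7⟩) (S₁₁ : StringData chevG2 ⟨11, h11⟩) :
    ∃ a ∈ chevG2.group F, z * a = a * z ∧
      a ∉ (sl2Hom S₇ (F := F)).range ⊔ (sl2Hom S₁₁ (F := F)).range ∧
      ∀ b ∈ chevG2.group F, z * b * z⁻¹ = b →
        b * a ∈ (sl2Hom S₇ (F := F)).range ⊔ (sl2Hom S₁₁ (F := F)).range ∨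
        b ∈ (sl2Hom S₇ (F := F)).range ⊔ (sl2Hom S₁₁ (F := F)).range := by
  have I := X.I
  have h2 := two_ne_zero_of_odd_card hF
  have hchar : ringChar F ≠ 2 := by
    intro h
    have := FiniteField.even_card_iff_char_two.mp h
    rw [Nat.odd_iff] at hF
    omega
  have hk0 : (0 : ℕ) < chevG2.rank := by
    rw [g2_rank]
    norm_num
  have hk1 : (1 : ℕ) < chevG2.rank := by
    rw [g2_rank]
    norm_num
  obtain ⟨ν, hν⟩ := FiniteField.exists_nonsquare hchar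
  have hν0 : ν ≠ 0 := by
    rintro rfl
    exact hν IsSquare.zero
  have hca : ∀ i : Fin chevG2.rank, (if i.val = 0 then (1 : F) else ν) ≠ 0 := by
    intro i
    split_ifs
    · exact one_ne_zero
    · exact hν0
  obtain ⟨a, haM⟩ : ∃ a : GL chevG2.Idx F, (a : Matrix chevG2.Idx chevG2.Idx F) =
      torusMat chevG2 F (fun i => if i.val = 0 then (1 : F) else ν) := by
    refine ⟨torusHom chevG2 F (fun i => Units.mk0 _ (hca i)), ?_⟩
    rw [torusHom_coe]
    rfl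
  have haT : a ∈ torus chevG2 F := ⟨_, hca, haM⟩
  have haH : a ∈ chevG2.diagonalSubgroup F := by
    rw [diagonalSubgroup_eq_torus I.hS I.hSD']
    exact haT
  have hzT : z ∈ torus chevG2 F := ⟨g2c0 F, g2c0_ne, hz⟩
  refine ⟨a, diagonalSubgroup_le_group I.hSD' haH, torus_comm hzT haT, ?_, ?_⟩
  · intro hK
    obtain ⟨e, he⟩ := g2_K_square I S₇ S₁₁ hca haM hK hk1
    apply hν
    refine ⟨e, ?_⟩
    rw [← he]
    exact (if_neg (by norm_num)).symm
  · intro b hbG hbc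
    have hb := g2_cent_le X hpn hN h2 hz hbG hbc S₇ S₁₁
    obtain ⟨k, hk, h, hh, rfl⟩ := mem_sup_of_normalizes _ _ (g2_H_norm I S₇ S₁₁) hb
    obtain ⟨c, hc, hhc⟩ := diagonalSubgroup_le_torus I.hSD' hh
    by_cases hsq : IsSquare (c ⟨1, hk1⟩)
    · right
      obtain ⟨e, he⟩ := hsq
      exact mul_mem hk (g2_square_K S₇ S₁₁ hc hhc hk0 hk1 he)
    · left
      obtain ⟨e, he⟩ := ff_nonsq_mul hsq hν
      have hm : ((h * a : GL chevG2.Idx F) : Matrix chevG2.Idx chevG2.Idx F) =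
          torusMat chevG2 F (fun i => c i * (if i.val = 0 then (1 : F) else ν)) := by
        rw [Units.val_mul, hhc, haM, torusMat_mul]
      rw [mul_assoc]
      refine mul_mem hk (g2_square_K S₇ S₁₁ (fun i => mul_ne_zero (hc i) (hca i)) hm hk0 hk1
        (e := e) ?_)
      rw [← he]
      show c ⟨1, hk1⟩ * (if (1 : ℕ) = 0 then (1 : F) else ν) = c ⟨1, hk1⟩ * ν
      rw [if_neg (by norm_num)]

/-- The structure of the centralizer of the standard involution, inside `GL`. -/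
theorem g2_cent_GL (X : G2Ctx F η)
    (hpn : ∀ r, r < chevG2.nroots → chevG2.IsPosRoot r ∨ chevG2.IsNegRoot r)
    (hN : ∀ r, chevG2.IsNegRoot r → NegOK chevG2 r) [Fintype F] (hF : Odd (Fintype.card F))
    {z : GL chevG2.Idx F}
    (hz : (z : Matrix chevG2.Idx chevG2.Idx F) = torusMat chevG2 F (g2c0 F))
    {h7 : 7 < chevG2.nroots} {h11 : 11 < chevG2.nroots}
    (S₇ : StringData chevG2 ⟨7, h7⟩) (S₁₁ : StringData chevG2 ⟨11, h11⟩) :
    (∀ x ∈ (sl2Hom S₇ (F := F)).range, ∀ y ∈ (sl2Hom S₁₁ (F := F)).range, x * y = y * x) ∧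
    (sl2Hom S₇ (F := F)).range ⊓ (sl2Hom S₁₁ (F := F)).range = Subgroup.zpowers z ∧
    (sl2Hom S₇ (F := F)).range ⊔ (sl2Hom S₁₁ (F := F)).range ≤
      Subgroup.centralizer {z} ⊓ chevG2.group F ∧
    ((sl2Hom S₇ (F := F)).range ⊔ (sl2Hom S₁₁ (F := F)).range).relIndex
      (Subgroup.centralizer {z} ⊓ chevG2.group F) = 2 ∧
    Nat.card ↥(Subgroup.centralizer {z} ⊓ chevG2.group F) =
      Fintype.card F ^ 2 * (Fintype.card F ^ 2 - 1) ^ 2 := by
  have I := X.I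
  have h2 := two_ne_zero_of_odd_card hF
  have hm1 : (-1 : F) ≠ 0 := neg_ne_zero.mpr one_ne_zero
  obtain ⟨hz7, hz11⟩ := g2_z_eq hz S₇ S₁₁ hm1
  have hinj7 := g2_sl2Hom_injective I h7 (by norm_num) S₇
  have hcm : ∀ (M M' : Matrix.SpecialLinearGroup (Fin 2) F),
      Commute (sl2Hom S₇ (F := F) M) (sl2Hom S₁₁ (F := F) M') :=
    fun M M' => g2_L_comm I S₇ S₁₁ M M'
  have hinj11 := g2_sl2Hom_injective I h11 (by norm_num) S₁₁
  have hKC : (sl2Hom S₇ (F := F)).range ⊔ (sl2Hom S₁₁ (F := F)).range ≤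
      Subgroup.centralizer {z} ⊓ chevG2.group F := by
    refine le_inf (g2_z_comm hz S₇ S₁₁) (sup_le ?_ ?_)
    · rintro _ ⟨M, rfl⟩
      exact sl2Hom_mem_group S₇ M
    · rintro _ ⟨M, rfl⟩
      exact sl2Hom_mem_group S₁₁ M
  have hrel : ((sl2Hom S₇ (F := F)).range ⊔ (sl2Hom S₁₁ (F := F)).range).relIndex
      (Subgroup.centralizer {z} ⊓ chevG2.group F) = 2 := by
    obtain ⟨a, haG, haz, haK, hall⟩ := g2_index_two X hpn hN hF hz S₇ S₁₁
    refine Subgroup.relIndex_eq_two_iff_exists_notMem_and.mpr ⟨a, ?_, haK, ?_⟩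
    · refine Subgroup.mem_inf.mpr ⟨?_, haG⟩
      rw [Subgroup.mem_centralizer_iff]
      intro h hh
      rw [Set.mem_singleton_iff] at hh
      rw [hh, haz]
    · intro b hb
      obtain ⟨hb1, hbG⟩ := Subgroup.mem_inf.mp hb
      rw [Subgroup.mem_centralizer_iff] at hb1
      have e := hb1 z (Set.mem_singleton _)
      exact hall b hbG (by rw [e, mul_inv_cancel_right])
  refine ⟨?_, ?_, hKC, hrel, ?_⟩
  · rintro _ ⟨M, rfl⟩ _ ⟨M', rfl⟩
    exact g2_L_comm I S₇ S₁₁ M M'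
  · apply le_antisymm
    · intro x hx
      rcases g2_inf I S₇ S₁₁ hm1 (Subgroup.mem_inf.mp hx).1 (Subgroup.mem_inf.mp hx).2 with h | h
      · rw [h]
        exact one_mem _
      · rw [h, ← hz7]
        exact Subgroup.mem_zpowers z
    · rw [Subgroup.zpowers_le]
      exact Subgroup.mem_inf.mpr ⟨⟨_, hz7.symm⟩, ⟨_, hz11.symm⟩⟩
  · have hker : Nat.card ((sl2Hom S₇ (F := F)).noncommCoprod (sl2Hom S₁₁ (F := F))
        hcm).ker = 2 := by
      have hmem : (sl2h (-1 : F) hm1, (sl2h (-1 : F) hm1)⁻¹) ∈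
          ((sl2Hom S₇ (F := F)).noncommCoprod (sl2Hom S₁₁ (F := F))
            hcm).ker := by
        rw [MonoidHom.mem_ker, MonoidHom.noncommCoprod_apply]
        show sl2Hom S₇ (sl2h (-1 : F) hm1) * sl2Hom S₁₁ (sl2h (-1 : F) hm1)⁻¹ = 1
        rw [map_inv, ← hz7, ← hz11, mul_inv_cancel]
      rw [Nat.card_eq_two_iff' (1 : ((sl2Hom S₇ (F := F)).noncommCoprod (sl2Hom S₁₁ (F := F))
        hcm).ker)]
      refine ⟨⟨_, hmem⟩, ?_, ?_⟩
      · intro h
        have := congrArg (fun y : ((sl2Hom S₇ (F := F)).noncommCoprod (sl2Hom S₁₁ (F := F))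
          hcm).ker =>
            (y : Matrix.SpecialLinearGroup (Fin 2) F × Matrix.SpecialLinearGroup (Fin 2) F).1) h
        exact sl2h_neg_one_ne_one h2 hm1 this
      · rintro ⟨⟨M, M'⟩, hy⟩ hy1
        apply Subtype.ext
        show (M, M') = (sl2h (-1 : F) hm1, (sl2h (-1 : F) hm1)⁻¹)
        rw [MonoidHom.mem_ker, MonoidHom.noncommCoprod_apply] at hy
        have hy' : sl2Hom S₇ M * sl2Hom S₁₁ M' = 1 := hy
        have e1 : sl2Hom S₇ M = sl2Hom S₁₁ M'⁻¹ := by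
          rw [map_inv]
          exact eq_inv_of_mul_eq_one_left hy'
        rcases g2_inf I S₇ S₁₁ hm1 ⟨M, rfl⟩ ⟨M'⁻¹, e1.symm⟩ with h | h
        · exfalso
          apply hy1
          have hM : M = 1 := hinj7 (h.trans (map_one _).symm)
          rw [h, one_mul] at hy'
          have hM' : M' = 1 := hinj11 (hy'.trans (map_one _).symm)
          apply Subtype.ext
          show (M, M') = (1, 1)
          rw [hM, hM']
        · have hM : M = sl2h (-1 : F) hm1 := hinj7 h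
          have hM' : M'⁻¹ = sl2h (-1 : F) hm1 :=
            hinj11 (e1.symm.trans (h.trans (hz7.symm.trans hz11)))
          rw [hM, ← hM', inv_inv]
    have h1 := Subgroup.index_ker ((sl2Hom S₇ (F := F)).noncommCoprod (sl2Hom S₁₁ (F := F))
      hcm)
    have h3 := Subgroup.index_mul_card (((sl2Hom S₇ (F := F)).noncommCoprod (sl2Hom S₁₁ (F := F))
      hcm).ker)
    rw [h1, hker, Nat.card_prod, Cfsg.Agent.Lib.helper7.card_SL2 rfl,
      MonoidHom.noncommCoprod_range] at h3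
    have h4 := Subgroup.relIndex_mul_relIndex ⊥ _ _ bot_le hKC
    rw [Subgroup.relIndex_bot_left, Subgroup.relIndex_bot_left, hrel] at h4
    rw [← h4, h3]
    ring

end G2Str

end Cfsg.Agent.Lib.helper22
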