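import Cfsg.Agent.Lib.helper22.ChevOddG2f

/-!
The centralizer of an involution of the Chevalley group of type `G₂` over a finite field of odd
order: transfer of the structure statement from `GL` to the group, and to all involutions.
-/

set_option autoImplicit false
set_option maxRecDepth 100000

namespace Cfsg.Agent.Lib.helper22

open Cfsg.Lie

section Transport

/-- The structure statement on the centralizer of an element. -/
def CentStr {Γ : Type*} [Group Γ] (SL : Type*) [Group SL] (N : ℕ) (t : Γ) : Prop :=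
  Nat.card (Subgroup.centralizer ({t} : Set Γ)) = N ∧
    ∃ L₁ L₂ : Subgroup Γ, Nonempty (L₁ ≃* SL) ∧ Nonempty (L₂ ≃* SL) ∧
      (∀ x ∈ L₁, ∀ y ∈ L₂, x * y = y * x) ∧ L₁ ⊓ L₂ = Subgroup.zpowers t ∧
      L₁ ⊔ L₂ ≤ Subgroup.centralizer ({t} : Set Γ) ∧
      (L₁ ⊔ L₂).relIndex (Subgroup.centralizer ({t} : Set Γ)) = 2

theorem centralizer_map_equiv {Γ Γ' : Type*} [Group Γ] [Group Γ'] (ψ : Γ ≃* Γ') (t : Γ) :
    Subgroup.centralizer ({ψ t} : Set Γ') =
      (Subgroup.centralizer ({t} : Set Γ)).map ψ.toMonoidHom := by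
  ext x
  rw [Subgroup.mem_map_equiv, Subgroup.mem_centralizer_iff, Subgroup.mem_centralizer_iff]
  constructor
  · intro h y hy
    rw [Set.mem_singleton_iff] at hy
    rw [hy]
    apply ψ.injective
    rw [map_mul, map_mul, ψ.apply_symm_apply]
    exact h _ (Set.mem_singleton _)
  · intro h y hy
    rw [Set.mem_singleton_iff] at hy
    rw [hy]
    have := congrArg ψ (h t (Set.mem_singleton _))
    rw [map_mul, map_mul, ψ.apply_symm_apply] at this
    exact this

theorem centStr_map {Γ Γ' : Type*} [Group Γ] [Group Γ'] (ψ : Γ ≃* Γ') {SL : Type*} [Group SL]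
    {N : ℕ} {t : Γ} (h : CentStr SL N t) : CentStr SL N (ψ t) := by
  obtain ⟨hcard, L₁, L₂, ⟨e₁⟩, ⟨e₂⟩, hcomm, hinf, hle, hrel⟩ := h
  have hinj : Function.Injective ψ.toMonoidHom := ψ.injective
  refine ⟨?_, L₁.map ψ.toMonoidHom, L₂.map ψ.toMonoidHom, ⟨(ψ.subgroupMap L₁).symm.trans e₁⟩,
    ⟨(ψ.subgroupMap L₂).symm.trans e₂⟩, ?_, ?_, ?_, ?_⟩
  · rw [centralizer_map_equiv, Subgroup.card_map_of_injective hinj, hcard]
  · rintro _ ⟨x, hx, rfl⟩ _ ⟨y, hy, rfl⟩
    show ψ x * ψ y = ψ y * ψ x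
    rw [← map_mul, ← map_mul, hcomm x hx y hy]
  · rw [← Subgroup.map_inf _ _ _ hinj, hinf, MonoidHom.map_zpowers]
    rfl
  · rw [centralizer_map_equiv, ← Subgroup.map_sup]
    exact Subgroup.map_mono hle
  · rw [centralizer_map_equiv, ← Subgroup.map_sup,
      Subgroup.relIndex_map_map_of_injective _ _ hinj, hrel]

end Transport

section G2Fin

variable {F : Type*} [Field F] {η : ℕ → ℕ → ℤ}

/-- The structure of the centralizer of the standard involution. -/
theorem g2_centStr_std (X : G2Ctx F η)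
    (hpn : ∀ r, r < chevG2.nroots → chevG2.IsPosRoot r ∨ chevG2.IsNegRoot r)
    (hN : ∀ r, chevG2.IsNegRoot r → NegOK chevG2 r) [Fintype F] (hF : Odd (Fintype.card F))
    (t : ↥(chevG2.group F))
    (ht : ((t : GL chevG2.Idx F) : Matrix chevG2.Idx chevG2.Idx F) = torusMat chevG2 F (g2c0 F)) :
    CentStr (Matrix.SpecialLinearGroup (Fin 2) F)
      (Fintype.card F ^ 2 * (Fintype.card F ^ 2 - 1) ^ 2) t := by
  have I := X.I
  have h7 : 7 < chevG2.nroots := g2_lt (by norm_num)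
  have h11 : 11 < chevG2.nroots := g2_lt (by norm_num)
  obtain ⟨S₇, -⟩ := I.hSD ⟨7, h7⟩
  obtain ⟨S₁₁, -⟩ := I.hSD ⟨11, h11⟩
  obtain ⟨hcomm, hinf, hle, hrel, hcard⟩ := g2_cent_GL X hpn hN hF ht S₇ S₁₁
  have hinj7 := g2_sl2Hom_injective I h7 (by norm_num) S₇
  have hinj11 := g2_sl2Hom_injective I h11 (by norm_num) S₁₁
  have hL1G : (sl2Hom S₇ (F := F)).range ≤ chevG2.group F :=
    le_trans le_sup_left (le_trans hle inf_le_right)
  have hL2G : (sl2Hom S₁₁ (F := F)).range ≤ chevG2.group F :=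
    le_trans le_sup_right (le_trans hle inf_le_right)
  have hcent : Subgroup.centralizer ({t} : Set ↥(chevG2.group F)) =
      (Subgroup.centralizer {(t : GL chevG2.Idx F)} ⊓ chevG2.group F).subgroupOf
        (chevG2.group F) := by
    ext x
    rw [Subgroup.mem_subgroupOf, Subgroup.mem_inf, Subgroup.mem_centralizer_iff,
      Subgroup.mem_centralizer_iff]
    constructor
    · intro h
      refine ⟨fun y hy => ?_, x.2⟩
      rw [Set.mem_singleton_iff] at hy
      rw [hy]
      exact congrArg Subtype.val (h t (Set.mem_singleton _))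
    · rintro ⟨h, -⟩ y hy
      rw [Set.mem_singleton_iff] at hy
      rw [hy]
      exact Subtype.ext (h _ (Set.mem_singleton _))
  refine ⟨?_, (sl2Hom S₇ (F := F)).range.subgroupOf (chevG2.group F),
    (sl2Hom S₁₁ (F := F)).range.subgroupOf (chevG2.group F),
    ⟨(Subgroup.subgroupOfEquivOfLe hL1G).trans (MonoidHom.ofInjective hinj7).symm⟩,
    ⟨(Subgroup.subgroupOfEquivOfLe hL2G).trans (MonoidHom.ofInjective hinj11).symm⟩, ?_, ?_, ?_, ?_⟩
  · rw [hcent, Nat.card_congr (Subgroup.subgroupOfEquivOfLe inf_le_right).toEquiv, hcard]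
  · intro x hx y hy
    rw [Subgroup.mem_subgroupOf] at hx hy
    exact Subtype.ext (hcomm _ hx _ hy)
  · ext x
    rw [Subgroup.mem_inf, Subgroup.mem_subgroupOf, Subgroup.mem_subgroupOf, ← Subgroup.mem_inf, hinf,
      Subgroup.mem_zpowers_iff, Subgroup.mem_zpowers_iff]
    constructor
    · rintro ⟨k, hk⟩
      exact ⟨k, Subtype.ext (by rw [Subgroup.coe_zpow]; exact hk)⟩
    · rintro ⟨k, hk⟩
      refine ⟨k, ?_⟩
      rw [← hk, Subgroup.coe_zpow]
  · rw [← Subgroup.subgroupOf_sup hL1G hL2G, hcent]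
    intro x hx
    rw [Subgroup.mem_subgroupOf] at hx ⊢
    exact hle hx
  · rw [← Subgroup.subgroupOf_sup hL1G hL2G, hcent, Subgroup.relIndex_subgroupOf inf_le_right, hrel]

/-- The structure of the centralizer of an involution of the Chevalley group of type `G₂` over a
finite field of odd order. -/
theorem g2_centStr [Fintype F] (X : G2Ctx F η)
    (hpn : ∀ r, r < chevG2.nroots → chevG2.IsPosRoot r ∨ chevG2.IsNegRoot r)
    (hN : ∀ r, chevG2.IsNegRoot r → NegOK chevG2 r) (hF : Odd (Fintype.card F))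
    (t : ↥(chevG2.group F)) (ht : orderOf t = 2) :
    CentStr (Matrix.SpecialLinearGroup (Fin 2) F)
      (Fintype.card F ^ 2 * (Fintype.card F ^ 2 - 1) ^ 2) t := by
  have h1 : t ^ 2 = 1 := by
    rw [← ht]
    exact pow_orderOf_eq_one t
  have h2 : t ≠ 1 := by
    intro h
    rw [h, orderOf_one] at ht
    norm_num at ht
  obtain ⟨k, hk, e⟩ := g2_odd_involution X hF t.2 (by
    have := congrArg Subtype.val h1
    rw [pow_two] at this
    exact this) (fun h => h2 (Subtype.ext h))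
  have hstd := g2_centStr_std X hpn hN hF
    ((⟨k, hk⟩ : ↥(chevG2.group F)) * t * (⟨k, hk⟩ : ↥(chevG2.group F))⁻¹) e
  have h3 := centStr_map (MulAut.conj (⟨k, hk⟩ : ↥(chevG2.group F))⁻¹) hstd
  have e2 : (MulAut.conj (⟨k, hk⟩ : ↥(chevG2.group F))⁻¹)
      ((⟨k, hk⟩ : ↥(chevG2.group F)) * t * (⟨k, hk⟩ : ↥(chevG2.group F))⁻¹) = t := by
    rw [MulAut.conj_apply]
    group
  rw [e2] at h3
  exact h3

end G2Fin

end Cfsg.Agent.Lib.helper22
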