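/-
helper22: the action of the elements of `N` on the supports of products of commuting root elements; subgroups
containing `B`; Levi decompositions of parabolic subgroups of a Chevalley group.
-/
import Cfsg.Agent.Lib.helper22.ChevSupp
import Cfsg.Agent.Lib.helper22.ChevG2Cent

set_option autoImplicit false

namespace Cfsg.Agent.Lib.helper22

open Cfsg.Lie

section SuppConj

variable {D : ChevalleyDatum} {F : Type*} [Field F] {η : ℕ → ℕ → ℤ}

/-- The coefficients of a product over a list of roots of a commuting final segment are determined. -/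
theorem zprod_sub_inj (I : BNInput D F η) {m : ℕ} (hm : m ≤ D.nroots) (hmN : D.nroots / 2 ≤ m)
    (hc : ∀ r, m ≤ r → r < D.nroots → ∀ s, m ≤ s → s < D.nroots → ∀ a b : F,
      xGL I.hSD' r a * xGL I.hSD' s b = xGL I.hSD' s b * xGL I.hSD' r a)
    {L : List ℕ} (hnd : L.Nodup) (hL : ∀ r ∈ L, m ≤ r ∧ r < D.nroots) {τ τ' : ℕ → F}
    (h : zprod I.hSD' L τ = zprod I.hSD' L τ') : ∀ r ∈ L, τ r = τ' r := by
  have hSnd : (List.range' m (D.nroots - m)).Nodup := List.nodup_range'
  have hcS : ∀ r ∈ List.range' m (D.nroots - m), ∀ s ∈ List.range' m (D.nroots - m), ∀ a b : F,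
      xGL I.hSD' r a * xGL I.hSD' s b = xGL I.hSD' s b * xGL I.hSD' r a := by
    intro r hr s hs
    rw [List.mem_range'_1] at hr hs
    exact hc r hr.1 (by omega) s hs.1 (by omega)
  have key : ∀ σ : ℕ → F, zprod I.hSD' L σ =
      zprod I.hSD' (List.range' m (D.nroots - m)) (coordsW (L.map fun r => (r, σ r))) := by
    intro σ
    apply wprod_eq_zprod I.hSD' hSnd hcS
    intro p hp
    rw [List.mem_map] at hp
    obtain ⟨r, hr, rfl⟩ := hp
    right
    show r ∈ List.range' m (D.nroots - m)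
    rw [List.mem_range'_1]
    have := hL r hr
    omega
  rw [key τ, key τ'] at h
  have h3 := zprod_seg_inj I hm hmN h
  intro r hr
  have e := h3 r (hL r hr).1 (hL r hr).2
  have e1 : coordsW (L.map fun r => (r, τ r)) r = τ r :=
    coords_map L hnd (fun r => r) τ (fun _ _ _ _ e => e) hr
  have e2 : coordsW (L.map fun r => (r, τ' r)) r = τ' r :=
    coords_map L hnd (fun r => r) τ' (fun _ _ _ _ e => e) hr
  rw [e1, e2] at e
  exact e

/-- An element of `N` conjugating a product of root elements over a list `m₀ :: L` of roots of a commuting final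
segment to such a product with non-trivial coefficient at the first root `m₀` of the segment maps the support of
the first product into the support of the second. -/
theorem supp_conj (C : ChevFacts D F η) {n : GL D.Idx F} {π π' : ℕ → ℕ} {c c' : ℕ → F}
    (hπ : RootAct D F (n : Matrix D.Idx D.Idx F) π c)
    (hπ' : RootAct D F ((n⁻¹ : GL D.Idx F) : Matrix D.Idx D.Idx F) π' c')
    {m₀ : ℕ} {L : List ℕ} (hm₀ : m₀ < D.nroots) (hmN : D.nroots / 2 ≤ m₀)
    (hc : ∀ r, m₀ ≤ r → r < D.nroots → ∀ s, m₀ ≤ s → s < D.nroots → ∀ a b : F,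
      xGL C.I.hSD' r a * xGL C.I.hSD' s b = xGL C.I.hSD' s b * xGL C.I.hSD' r a)
    (hnd : (m₀ :: L).Nodup) (hL : ∀ r ∈ L, m₀ ≤ r ∧ r < D.nroots)
    {τ₁ τ₂ : ℕ → F} (h1 : τ₁ m₀ ≠ 0)
    (h : n * zprod C.I.hSD' (m₀ :: L) τ₂ * n⁻¹ = zprod C.I.hSD' (m₀ :: L) τ₁) :
    ∀ s ∈ m₀ :: L, τ₂ s ≠ 0 → π s ∈ m₀ :: L ∧ τ₁ (π s) ≠ 0 := by
  have hL₀m : ∀ r ∈ m₀ :: L, m₀ ≤ r ∧ r < D.nroots := by
    intro r hr
    rcases List.mem_cons.mp hr with rfl | hr
    · exact ⟨le_refl _, hm₀⟩
    · exact hL r hr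
  have hcL : ∀ r ∈ m₀ :: L, ∀ s ∈ m₀ :: L, ∀ a b : F,
      xGL C.I.hSD' r a * xGL C.I.hSD' s b = xGL C.I.hSD' s b * xGL C.I.hSD' r a :=
    fun r hr s hs => hc r (hL₀m r hr).1 (hL₀m r hr).2 s (hL₀m s hs).1 (hL₀m s hs).2
  have hlt : ∀ r ∈ m₀ :: L, π r < D.nroots := fun r hr => (hπ r (hL₀m r hr).2).1
  have hinj : ∀ r ∈ m₀ :: L, ∀ r' ∈ m₀ :: L, π r = π r' → r = r' := by
    intro r hr r' hr' e
    have e1 := rootAct_inv_comp C.I hπ hπ' (hL₀m r hr).2
    have e2 := rootAct_inv_comp C.I hπ hπ' (hL₀m r' hr').2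
    rw [← e1, ← e2, e]
  have key : ∀ r ∈ m₀ :: L, ∀ t : F, n * xGL C.I.hSD' r t * n⁻¹ = xGL C.I.hSD' (π r) (c r * t) :=
    fun r hr t => Units.ext (rootAct_conj hπ (hL₀m r hr).2 (xGL_coe C.I.hSD' r t))
  have hconj : ∀ τ : ℕ → F, n * zprod C.I.hSD' (m₀ :: L) τ * n⁻¹ =
      wprod C.I.hSD' ((m₀ :: L).map fun r => (π r, c r * τ r)) := by
    intro τ
    unfold zprod
    rw [wprod_conj C.I.hSD' hπ (by
      intro p hp
      rw [List.mem_map] at hp
      obtain ⟨r, hr, rfl⟩ := hp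
      exact (hL₀m r hr).2), List.map_map]
    rfl
  -- Step A: the roots of the support are mapped to positive roots
  have hsplit : zprod C.I.hSD' (m₀ :: L) τ₂ =
      zprod C.I.hSD' (m₀ :: L) (fun r => if D.nroots / 2 ≤ π r then τ₂ r else 0) *
        zprod C.I.hSD' (m₀ :: L) (fun r => if D.nroots / 2 ≤ π r then 0 else τ₂ r) := by
    rw [← zprod_add C.I.hSD' hcL]
    apply zprod_congr
    intro r _
    show τ₂ r = (if D.nroots / 2 ≤ π r then τ₂ r else 0) + (if D.nroots / 2 ≤ π r then 0 else τ₂ r)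
    split_ifs <;> simp
  have hPU : n * zprod C.I.hSD' (m₀ :: L) (fun r => if D.nroots / 2 ≤ π r then τ₂ r else 0) * n⁻¹ ∈
      D.posUnipotent F := by
    rw [hconj]
    apply wprod_mem
    intro p hp
    rw [List.mem_map] at hp
    obtain ⟨r, hr, rfl⟩ := hp
    show xGL C.I.hSD' (π r) (c r * (if D.nroots / 2 ≤ π r then τ₂ r else 0)) ∈ _
    by_cases hh : D.nroots / 2 ≤ π r
    · exact x_mem_pos C.I (hlt r hr) hh (xGL_coe _ _ _)
    · rw [if_neg hh, mul_zero, xGL_zero]
      exact one_mem _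
  have hMV : n * zprod C.I.hSD' (m₀ :: L) (fun r => if D.nroots / 2 ≤ π r then 0 else τ₂ r) * n⁻¹ ∈
      D.negUnipotent F := by
    rw [hconj]
    apply wprod_mem
    intro p hp
    rw [List.mem_map] at hp
    obtain ⟨r, hr, rfl⟩ := hp
    show xGL C.I.hSD' (π r) (c r * (if D.nroots / 2 ≤ π r then 0 else τ₂ r)) ∈ _
    by_cases hh : D.nroots / 2 ≤ π r
    · rw [if_pos hh, mul_zero, xGL_zero]
      exact one_mem _
    · exact x_mem_neg C.I C.hpn (hlt r hr) (by omega) (xGL_coe _ _ _)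
  have hU1 : zprod C.I.hSD' (m₀ :: L) τ₁ ∈ D.posUnipotent F := by
    unfold zprod
    apply wprod_mem
    intro p hp
    rw [List.mem_map] at hp
    obtain ⟨r, hr, rfl⟩ := hp
    exact x_mem_pos C.I (hL₀m r hr).2 (by have := (hL₀m r hr).1; omega) (xGL_coe _ _ _)
  have hW : n * zprod C.I.hSD' (m₀ :: L) (fun r => if D.nroots / 2 ≤ π r then 0 else τ₂ r) * n⁻¹ =
      (n * zprod C.I.hSD' (m₀ :: L) (fun r => if D.nroots / 2 ≤ π r then τ₂ r else 0) * n⁻¹)⁻¹ *
        zprod C.I.hSD' (m₀ :: L) τ₁ := by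
    rw [← h, hsplit]
    group
  have hW1 := borel_inf_neg C.I C.hN (by
    rw [hW]
    exact Subgroup.mem_sup_left (mul_mem (inv_mem hPU) hU1)) hMV
  have hm1 : zprod C.I.hSD' (m₀ :: L) (fun r => if D.nroots / 2 ≤ π r then 0 else τ₂ r) =
      zprod C.I.hSD' (m₀ :: L) (fun _ => 0) := by
    rw [zprod_zero C.I.hSD' (τ := fun _ => (0 : F)) (fun r _ => rfl)]
    calc zprod C.I.hSD' (m₀ :: L) (fun r => if D.nroots / 2 ≤ π r then 0 else τ₂ r)
        = n⁻¹ * (n * zprod C.I.hSD' (m₀ :: L) (fun r => if D.nroots / 2 ≤ π r then 0 else τ₂ r) * n⁻¹) *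
            n := by group
      _ = 1 := by
        rw [hW1]
        group
  have hτm := zprod_sub_inj C.I (le_of_lt hm₀) hmN hc hnd hL₀m hm1
  have hA : ∀ s ∈ m₀ :: L, τ₂ s ≠ 0 → D.nroots / 2 ≤ π s := by
    intro s hs hne
    by_contra hh
    have e := hτm s hs
    simp only [if_neg hh] at e
    exact hne e
  -- Step B: the leading terms
  have hg : wprod C.I.hSD' ((m₀ :: L).map fun r => (π r, c r * τ₂ r)) = zprod C.I.hSD' (m₀ :: L) τ₁ :=
    (hconj τ₂).symm.trans h
  have hLW := leadW_wprod C.I ((m₀ :: L).map fun r => (π r, c r * τ₂ r)) (by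
      intro p hp
      rw [List.mem_map] at hp
      obtain ⟨r, hr, rfl⟩ := hp
      refine ⟨hlt r hr, ?_⟩
      by_cases h0 : τ₂ r = 0
      · left
        show c r * τ₂ r = 0
        rw [h0, mul_zero]
      · right
        exact hA r hr h0) (by
      rw [List.pairwise_map]
      exact hnd.imp_of_mem (fun ha hb hab e => hab (hinj _ ha _ hb e))) (by
      intro p hp q hq
      rw [List.mem_map] at hp hq
      obtain ⟨r, hr, rfl⟩ := hp
      obtain ⟨s, hs, rfl⟩ := hq
      show xGL C.I.hSD' (π r) (c r * τ₂ r) * xGL C.I.hSD' (π s) (c s * τ₂ s) =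
        xGL C.I.hSD' (π s) (c s * τ₂ s) * xGL C.I.hSD' (π r) (c r * τ₂ r)
      rw [← key r hr, ← key s hs]
      exact hi_conj_comm n (hcL r hr s hs _ _))
  rw [hg] at hLW
  have hLW1 := leadW_wprod C.I ((m₀ :: L).map fun r => (r, τ₁ r)) (by
      intro p hp
      rw [List.mem_map] at hp
      obtain ⟨r, hr, rfl⟩ := hp
      exact ⟨(hL₀m r hr).2, Or.inr (by have := (hL₀m r hr).1; omega)⟩) (by
      rw [List.pairwise_map]
      exact hnd) (by
      intro p hp q hq
      rw [List.mem_map] at hp hq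
      obtain ⟨r, hr, rfl⟩ := hp
      obtain ⟨s, hs, rfl⟩ := hq
      exact hcL r hr s hs _ _)
  have hlead : LeadAt D F (zprod C.I.hSD' (m₀ :: L) τ₁) m₀ := by
    have hmem : (m₀, τ₁ m₀) ∈ (m₀ :: L).map fun r => (r, τ₁ r) :=
      List.mem_map.mpr ⟨m₀, List.mem_cons_self, rfl⟩
    rcases hLW1 with h0 | ⟨p, hp, hp2, hl, hmin⟩
    · exact absurd (h0 _ hmem) h1
    · have h2 := hmin _ hmem h1
      rw [List.mem_map] at hp
      obtain ⟨r, hr, rfl⟩ := hp
      have h3 := (hL₀m r hr).1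
      have e : r = m₀ := le_antisymm h2 h3
      have hl' : LeadAt D F (zprod C.I.hSD' (m₀ :: L) τ₁) r := hl
      rw [e] at hl'
      exact hl'
  have hB : ∀ r ∈ m₀ :: L, τ₂ r ≠ 0 → m₀ ≤ π r := by
    intro r hr hne
    have hmem : (π r, c r * τ₂ r) ∈ (m₀ :: L).map fun r => (π r, c r * τ₂ r) :=
      List.mem_map.mpr ⟨r, hr, rfl⟩
    have hcr : c r * τ₂ r ≠ 0 := mul_ne_zero (rootAct_ne_zero' C.I hπ (hL₀m r hr).2) hne
    rcases hLW with h0 | ⟨p, hp, hp2, hl, hmin⟩
    · exact absurd (h0 _ hmem) hcr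
    · have e := leadAt_unique C.I hl hlead
      have h2 := hmin _ hmem hcr
      rw [e] at h2
      exact h2
  -- Step C: the coordinates
  have hSnd : (List.range' m₀ (D.nroots - m₀)).Nodup := List.nodup_range'
  have hcS : ∀ r ∈ List.range' m₀ (D.nroots - m₀), ∀ s ∈ List.range' m₀ (D.nroots - m₀), ∀ a b : F,
      xGL C.I.hSD' r a * xGL C.I.hSD' s b = xGL C.I.hSD' s b * xGL C.I.hSD' r a := by
    intro r hr s hs
    rw [List.mem_range'_1] at hr hs
    exact hc r hr.1 (by omega) s hs.1 (by omega)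
  have e1 : wprod C.I.hSD' ((m₀ :: L).map fun r => (π r, c r * τ₂ r)) =
      zprod C.I.hSD' (List.range' m₀ (D.nroots - m₀))
        (coordsW ((m₀ :: L).map fun r => (π r, c r * τ₂ r))) := by
    apply wprod_eq_zprod C.I.hSD' hSnd hcS
    intro p hp
    rw [List.mem_map] at hp
    obtain ⟨r, hr, rfl⟩ := hp
    by_cases h0 : τ₂ r = 0
    · left
      show c r * τ₂ r = 0
      rw [h0, mul_zero]
    · right
      show π r ∈ List.range' m₀ (D.nroots - m₀)
      rw [List.mem_range'_1]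
      have := hB r hr h0
      have := hlt r hr
      omega
  have e2 : zprod C.I.hSD' (m₀ :: L) τ₁ = zprod C.I.hSD' (List.range' m₀ (D.nroots - m₀))
      (coordsW ((m₀ :: L).map fun r => (r, τ₁ r))) := by
    apply wprod_eq_zprod C.I.hSD' hSnd hcS
    intro p hp
    rw [List.mem_map] at hp
    obtain ⟨r, hr, rfl⟩ := hp
    right
    show r ∈ List.range' m₀ (D.nroots - m₀)
    rw [List.mem_range'_1]
    have := hL₀m r hr
    omega
  have e3 := zprod_seg_inj C.I (le_of_lt hm₀) hmN (e1.symm.trans (hg.trans e2))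
  intro s hs hne
  have hπs := hB s hs hne
  have e4 := e3 (π s) hπs (hlt s hs)
  have e5 : coordsW ((m₀ :: L).map fun r => (π r, c r * τ₂ r)) (π s) = c s * τ₂ s :=
    coords_map (m₀ :: L) hnd π (fun r => c r * τ₂ r) hinj hs
  rw [e5] at e4
  have hcs : c s * τ₂ s ≠ 0 := mul_ne_zero (rootAct_ne_zero' C.I hπ (hL₀m s hs).2) hne
  by_cases hmem : π s ∈ m₀ :: L
  · refine ⟨hmem, ?_⟩
    have e6 : coordsW ((m₀ :: L).map fun r => (r, τ₁ r)) (π s) = τ₁ (π s) :=
      coords_map (m₀ :: L) hnd (fun r => r) τ₁ (fun _ _ _ _ e => e) hmem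
    rw [e6] at e4
    rw [← e4]
    exact hcs
  · exfalso
    have e6 : coordsW ((m₀ :: L).map fun r => (r, τ₁ r)) (π s) = 0 :=
      coords_map_not (m₀ :: L) (fun r => r) τ₁ (fun r hr e => hmem (e ▸ hr))
    rw [e6] at e4
    exact hcs e4

/-- A subgroup containing `B`: its elements in the Chevalley group lie in the subgroup generated by `B` and the
`n_{p_i}` it contains. -/
theorem sub_inf_group_le (I : BNInput D F η) (hBG : D.borelSubgroup F ≤ D.group F)
    (hNG : D.monomialSubgroup F ≤ D.group F) (hG : D.group F ≤ D.borelSubgroup F ⊔ D.monomialSubgroup F)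
    (M : Subgroup (GL D.Idx F)) (hBM : D.borelSubgroup F ≤ M) {g : GL D.Idx F} (hgG : g ∈ D.group F)
    (hgM : g ∈ M) :
    g ∈ D.borelSubgroup F ⊔ Subgroup.closure {y : GL D.Idx F | ∃ i, i < D.rank ∧ nGL I.hSD' i ∈ M ∧
      y = nGL I.hSD' i} := by
  obtain ⟨P, hPB, hPN, hPS⟩ := chev_bnPair I hBG hNG hG
  have hM : P.B ≤ M.subgroupOf (D.group F) := by
    rw [hPB]
    intro x hx
    rw [Subgroup.mem_subgroupOf] at hx ⊢
    exact hBM hx
  have hpar := Cfsg.Agent.Lib.helper8.eq_parabolic_of_le P hM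
  have h1 : (⟨g, hgG⟩ : ↥(D.group F)) ∈ M.subgroupOf (D.group F) := Subgroup.mem_subgroupOf.mpr hgM
  rw [hpar] at h1
  have h2 : P.B ⊔ Subgroup.closure (P.S ∩ (M.subgroupOf (D.group F) : Set ↥(D.group F))) ≤
      (D.borelSubgroup F ⊔ Subgroup.closure {y : GL D.Idx F | ∃ i, i < D.rank ∧ nGL I.hSD' i ∈ M ∧
        y = nGL I.hSD' i}).subgroupOf (D.group F) := by
    refine sup_le ?_ ?_
    · rw [hPB]
      intro x hx
      rw [Subgroup.mem_subgroupOf] at hx ⊢
      exact Subgroup.mem_sup_left hx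
    · rw [Subgroup.closure_le]
      rintro s ⟨hs1, hs2⟩
      rw [hPS] at hs1
      obtain ⟨i, hi, hsi⟩ := hs1
      have e : (s : GL D.Idx F) = nGL I.hSD' i := Units.ext (hsi.trans (nGL_coe I.hSD' i).symm)
      have hs3 : (nGL I.hSD' i : GL D.Idx F) ∈ M := by
        rw [← e]
        exact Subgroup.mem_subgroupOf.mp hs2
      show s ∈ Subgroup.subgroupOf _ _
      rw [Subgroup.mem_subgroupOf, e]
      exact Subgroup.mem_sup_right (Subgroup.subset_closure ⟨i, hi, hs3, rfl⟩)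
  exact Subgroup.mem_subgroupOf.mp (h2 h1)

/-- An element of `N` whose inverse maps the fundamental root elements to positive root elements lies in `H`. -/
theorem ChevFacts.mono_simple_mem_diag (C : ChevFacts D F η) :
    ∀ n ∈ D.monomialSubgroup F,
      (∀ (π : ℕ → ℕ) (c : ℕ → F), RootAct D F ((n⁻¹ : GL D.Idx F) : Matrix D.Idx D.Idx F) π c →
        ∀ i, i < D.rank → D.nroots / 2 ≤ π (D.simple i)) → n ∈ D.diagonalSubgroup F := by
  apply monomial_induction C.I C.hBG C.hNG C.hG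
    (fun n => (∀ (π : ℕ → ℕ) (c : ℕ → F), RootAct D F ((n⁻¹ : GL D.Idx F) : Matrix D.Idx D.Idx F) π c →
        ∀ i, i < D.rank → D.nroots / 2 ≤ π (D.simple i)) → n ∈ D.diagonalSubgroup F)
  · intro h hh _
    exact hh
  · intro m hm h hh ih hpos
    refine mul_mem hh (ih fun π c hπ i hi => ?_)
    obtain ⟨c', hc'⟩ := rootAct_diag C.I (inv_mem hh)
    have h2 := hπ.mul hc'
    rw [← Units.val_mul, ← mul_inv_rev] at h2
    exact hpos _ _ h2 i hi
  · intro m hm i hi np hnp hmpos ih hpos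
    exfalso
    obtain ⟨π, c, hπ⟩ := rootAct_of_mem_monomial C.I (inv_mem hm)
    have hnp' : np = nGL C.I.hSD' i := Units.ext (hnp.trans (nGL_coe C.I.hSD' i).symm)
    obtain ⟨c', hc'⟩ := rootAct_diag C.I (inv_mem (simple_sq_mem C.I hi hnp))
    have h1 := hc'.mul (rootAct_nGL C.I hi)
    have h2 := hπ.mul h1
    have e : ((m⁻¹ : GL D.Idx F) : Matrix D.Idx D.Idx F) *
        ((((np * np)⁻¹ : GL D.Idx F) : Matrix D.Idx D.Idx F) *
          ((nGL C.I.hSD' i : GL D.Idx F) : Matrix D.Idx D.Idx F)) =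
        (((np * m)⁻¹ : GL D.Idx F) : Matrix D.Idx D.Idx F) := by
      rw [← Units.val_mul, ← Units.val_mul, ← hnp']
      congr 1
      group
    rw [e] at h2
    have hp := C.simple_lt hi
    have h3 := hpos _ _ h2 i hi
    have h3' : D.nroots / 2 ≤ π (D.reflectRoot i (D.simple i)) := h3
    rw [reflect_self, (hπ (D.simple i) hp).2.1] at h3'
    have h4 := hmpos π c hπ
    have h5 := C.I.hU.negrev _ (hπ (D.simple i) hp).1
    have h6 := C.I.hU.even
    omega

/-- The torus elements whose non-trivial parameters are at fundamental roots with root subgroups (of the root and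
of its negative) in `C₀` lie in `C₀`. -/
theorem torusHom_mem_of_triv (I : BNInput D F η) (C₀ : Subgroup (GL D.Idx F)) (c : Fin D.rank → Fˣ)
    (hx : ∀ i : Fin D.rank, c i ≠ 1 → ∀ t : F,
      xGL I.hSD' (D.simple i.val) t ∈ C₀ ∧ xGL I.hSD' (D.neg (D.simple i.val)) t ∈ C₀) :
    torusHom D F c ∈ C₀ := by
  have : c ∈ C₀.comap (torusHom D F) := by
    apply Subgroup.pi_mem_of_mulSingle_mem c
    intro i
    rw [Subgroup.mem_comap]
    by_cases hik : c i = 1
    · rw [hik, Pi.mulSingle_one, map_one]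
      exact one_mem _
    · obtain ⟨S⟩ := I.hSD' ⟨D.simple i.val, (I.hS i).1⟩
      rw [← hi_sl2h_eq_torusHom I i S (c i)]
      have hu : ∀ t : F, sl2Hom S (sl2u t) ∈ C₀ := fun t => by
        rw [sl2Hom_sl2u_eq I.hSD' S]
        exact (hx i hik t).1
      have hl : ∀ t : F, sl2Hom S (sl2l t) ∈ C₀ := fun t => by
        rw [sl2Hom_sl2l_eq I.hSD' S]
        exact (hx i hik t).2
      have hn : ∀ (t : F) (ht : t ≠ 0), sl2Hom S (sl2n t ht) ∈ C₀ := fun t ht => by
        rw [sl2n_eq_uLu, map_mul, map_mul]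
        exact mul_mem (mul_mem (hu _) (hl _)) (hu _)
      rw [sl2h_eq_nn, map_mul]
      exact mul_mem (hn _ _) (hn _ _)
  exact this

end SuppConj

/-! ### Levi decompositions -/

/-- The root elements of the positive roots outside the list `ex`. -/
def upSetL (D : ChevalleyDatum) (F : Type*) [Field F] (ex : List ℕ) : Set (GL D.Idx F) :=
  {g : GL D.Idx F | ∃ (r : ℕ) (c : F), D.IsPosRoot r ∧ r ∉ ex ∧ (g : Matrix D.Idx D.Idx F) = D.x F r c}

/-- The root elements of the roots of the list `Lr`. -/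
def rootSetL (D : ChevalleyDatum) (F : Type*) [Field F] (Lr : List ℕ) : Set (GL D.Idx F) :=
  {g : GL D.Idx F | ∃ s ∈ Lr, ∃ c : F, (g : Matrix D.Idx D.Idx F) = D.x F s c}

/-- Boolean check: the roots of `Lr` are roots, and the terms of the commutator words of `(q, s)`, `q ∈ Lr`,
`s` a positive root outside `ex`, are positive roots outside `ex`. -/
def leviNormOK (D : ChevalleyDatum) (ex Lr : List ℕ) : Bool :=
  Lr.all fun q => decide (q < D.nroots) &&
    (List.range' (D.nroots / 2) (D.nroots / 2)).all fun s =>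
      ex.contains s || (s != q && (s != D.neg q &&
        (D.commTerms q s).all (fun c =>
          decide (D.nroots / 2 ≤ c.1) && (decide (c.1 < D.nroots) && !ex.contains c.1))))

section Levi

variable {D : ChevalleyDatum} {F : Type*} [Field F] {η : ℕ → ℕ → ℤ}

theorem conj_mem_upL (hSD : ∀ r : Fin D.nroots, Nonempty (StringData D r)) (hcomm : CommFormula D F)
    {ex : List ℕ} {q : ℕ} (hq : q < D.nroots)
    (hterms : ∀ s, D.IsPosRoot s → s ∉ ex → s ≠ q ∧ s ≠ D.neg q ∧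
      ∀ c ∈ D.commTerms q s, D.IsPosRoot c.1 ∧ c.1 ∉ ex)
    (g : GL D.Idx F) (t : F) (hg : (g : Matrix D.Idx D.Idx F) = D.x F q t) :
    ∀ x ∈ upSetL D F ex, g * x * g⁻¹ ∈ Subgroup.closure (upSetL D F ex) := by
  rintro x ⟨s, u, hs, hsp, hx⟩
  obtain ⟨h1, h2, h3⟩ := hterms s hs hsp
  obtain ⟨h, hh, hh'⟩ := wordMat_mem_closure hSD (upSetL D F ex) (D.commWord F q s (-t) u) (by
    intro c hc
    unfold ChevalleyDatum.commWord at hc
    rw [List.mem_map] at hc
    obtain ⟨c0, hc0, rfl⟩ := hc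
    obtain ⟨h4, h5⟩ := h3 c0 hc0
    exact ⟨h4.1, fun g hg => ⟨c0.1, _, h4, h5, hg⟩⟩)
  have hginv : ((g⁻¹ : GL D.Idx F) : Matrix D.Idx D.Idx F) = D.x F q (-t) :=
    gl_inv_eq (by rw [hg, x_mul_neg hSD])
  have : g * x * g⁻¹ = x * h := by
    apply Units.ext
    rw [Units.val_mul, Units.val_mul, Units.val_mul, hg, hx, hginv, hh',
      conj_x_eq hSD hcomm hq hs.1 h1 h2]
  rw [this]
  exact mul_mem (Subgroup.subset_closure ⟨s, u, hs, hsp, hx⟩) hh

theorem leviNorm_lt {ex Lr : List ℕ} (h : leviNormOK D ex Lr = true) : ∀ q ∈ Lr, q < D.nroots := by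
  unfold leviNormOK at h
  rw [List.all_eq_true] at h
  intro q hq
  have h1 := h q hq
  rw [Bool.and_eq_true, decide_eq_true_eq] at h1
  exact h1.1

/-- The root subgroups of the roots of `Lr` normalise the subgroup generated by the root subgroups of the
positive roots outside `ex`. -/
theorem levi_normal (I : BNInput D F η) {ex Lr : List ℕ} (h : leviNormOK D ex Lr = true) :
    ∀ l ∈ Subgroup.closure (rootSetL D F Lr), ∀ a ∈ Subgroup.closure (upSetL D F ex),
      l * a * l⁻¹ ∈ Subgroup.closure (upSetL D F ex) := by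
  have hle : Subgroup.closure (rootSetL D F Lr) ≤
      Subgroup.normalizer (Subgroup.closure (upSetL D F ex) : Set (GL D.Idx F)) := by
    rw [Subgroup.closure_le]
    rintro g ⟨q, hq, t, hg⟩
    unfold leviNormOK at h
    rw [List.all_eq_true] at h
    have h1 := h q hq
    rw [Bool.and_eq_true, decide_eq_true_eq, List.all_eq_true] at h1
    obtain ⟨hqlt, h2⟩ := h1
    have hterms : ∀ s, D.IsPosRoot s → s ∉ ex → s ≠ q ∧ s ≠ D.neg q ∧
        ∀ c ∈ D.commTerms q s, D.IsPosRoot c.1 ∧ c.1 ∉ ex := by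
      intro s hs hsex
      have hs' := (I.hU.pos_iff s).mp hs
      have h3 := h2 s (by
        rw [List.mem_range'_1]
        have := I.hU.even
        omega)
      simp only [Bool.or_eq_true, Bool.and_eq_true, bne_iff_ne, ne_eq, List.all_eq_true,
        decide_eq_true_eq, Bool.not_eq_true', List.contains_iff_mem] at h3
      rcases h3 with h3 | ⟨h3, h4, h5⟩
      · exact absurd h3 hsex
      · refine ⟨h3, h4, fun c hc => ?_⟩
        obtain ⟨h6, h7, h8⟩ := h5 c hc
        refine ⟨(I.hU.pos_iff _).mpr ⟨h6, h7⟩, ?_⟩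
        intro hmem
        have : ex.contains c.1 = true := List.contains_iff_mem.mpr hmem
        rw [h8] at this
        exact Bool.false_ne_true this
    apply mem_normalizer_closure
    · exact conj_mem_upL I.hSD' I.hcomm hqlt hterms g t hg
    · have hginv : ((g⁻¹ : GL D.Idx F) : Matrix D.Idx D.Idx F) = D.x F q (-t) :=
        gl_inv_eq (by rw [hg, x_mul_neg I.hSD'])
      intro x hx
      have := conj_mem_upL I.hSD' I.hcomm hqlt hterms g⁻¹ (-t) hginv x hx
      rwa [inv_inv] at this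
  intro l hl a ha
  exact (Subgroup.mem_normalizer_iff.mp (hle hl) a).mp ha

theorem diag_conj_upL (I : BNInput D F η) (ex : List ℕ) {h : GL D.Idx F} (hh : h ∈ D.diagonalSubgroup F)
    {y : GL D.Idx F} (hy : y ∈ Subgroup.closure (upSetL D F ex)) :
    h * y * h⁻¹ ∈ Subgroup.closure (upSetL D F ex) := by
  obtain ⟨χ, hχ⟩ := rootAct_diag I hh
  refine conj_mem_closure _ h ?_ y hy
  rintro x ⟨s, t, hs, hsp, hx⟩
  exact Subgroup.subset_closure ⟨s, χ s * t, hs, hsp, rootAct_conj hχ hs.1 hx⟩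

theorem diag_conj_rootSetL (I : BNInput D F η) {Lr : List ℕ} (hLr : ∀ q ∈ Lr, q < D.nroots)
    {h : GL D.Idx F} (hh : h ∈ D.diagonalSubgroup F)
    {y : GL D.Idx F} (hy : y ∈ Subgroup.closure (rootSetL D F Lr)) :
    h * y * h⁻¹ ∈ Subgroup.closure (rootSetL D F Lr) := by
  obtain ⟨χ, hχ⟩ := rootAct_diag I hh
  refine conj_mem_closure _ h ?_ y hy
  rintro x ⟨s, hs, t, hx⟩
  exact Subgroup.subset_closure ⟨s, hs, χ s * t, rootAct_conj hχ (hLr s hs) hx⟩

/-- The elements of `⟨X_s (s positive, outside ex), X_q (q ∈ Lr), H⟩` as products. -/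
theorem levi_decomp (I : BNInput D F η) {ex Lr : List ℕ} (h : leviNormOK D ex Lr = true) {g : GL D.Idx F}
    (hg : g ∈ (Subgroup.closure (upSetL D F ex) ⊔ Subgroup.closure (rootSetL D F Lr)) ⊔
      D.diagonalSubgroup F) :
    ∃ v ∈ Subgroup.closure (upSetL D F ex), ∃ l ∈ Subgroup.closure (rootSetL D F Lr),
      ∃ k ∈ D.diagonalSubgroup F, g = v * l * k := by
  have hLr := leviNorm_lt h
  have hH : ∀ k ∈ D.diagonalSubgroup F,
      ∀ a ∈ Subgroup.closure (upSetL D F ex) ⊔ Subgroup.closure (rootSetL D F Lr),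
      k * a * k⁻¹ ∈ Subgroup.closure (upSetL D F ex) ⊔ Subgroup.closure (rootSetL D F Lr) := by
    intro k hk a ha
    have h1 : (Subgroup.closure (upSetL D F ex) ⊔ Subgroup.closure (rootSetL D F Lr)).map
          (MulAut.conj k).toMonoidHom ≤
        Subgroup.closure (upSetL D F ex) ⊔ Subgroup.closure (rootSetL D F Lr) := by
      rw [Subgroup.map_sup]
      refine sup_le (le_trans ?_ le_sup_left) (le_trans ?_ le_sup_right)
      · rw [map_conj_le_iff]
        exact fun z hz => diag_conj_upL I ex hk hz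
      · rw [map_conj_le_iff]
        exact fun z hz => diag_conj_rootSetL I hLr hk hz
    exact (map_conj_le_iff _ _ k).mp h1 a ha
  obtain ⟨a, ha, k, hk, rfl⟩ := hi_sup_decomp _ _ hH hg
  obtain ⟨v, hv, l, hl, rfl⟩ := hi_sup_decomp _ _ (levi_normal I h) ha
  exact ⟨v, hv, l, hl, k, hk, rfl⟩

theorem upL_le_pos (ex : List ℕ) : Subgroup.closure (upSetL D F ex) ≤ D.posUnipotent F := by
  unfold ChevalleyDatum.posUnipotent
  apply Subgroup.closure_mono
  rintro x ⟨r, t, hr, _, hx⟩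
  exact ⟨r, t, hr, hx⟩

theorem pos_le_levi {ex Lr : List ℕ} (hex : ∀ s ∈ ex, s ∈ Lr) :
    D.posUnipotent F ≤ Subgroup.closure (upSetL D F ex) ⊔ Subgroup.closure (rootSetL D F Lr) := by
  unfold ChevalleyDatum.posUnipotent
  rw [Subgroup.closure_le]
  rintro g ⟨s, t, hs, hg⟩
  by_cases hsx : s ∈ ex
  · exact Subgroup.mem_sup_right (Subgroup.subset_closure ⟨s, hex s hsx, t, hg⟩)
  · exact Subgroup.mem_sup_left (Subgroup.subset_closure ⟨s, t, hs, hsx, hg⟩)

theorem rootSubgroup_le_rootSetL {Lr : List ℕ} {s : ℕ} (hs : s ∈ Lr) :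
    D.rootSubgroup F s ≤ Subgroup.closure (rootSetL D F Lr) := by
  unfold ChevalleyDatum.rootSubgroup
  apply Subgroup.closure_mono
  rintro g ⟨t, hg⟩
  exact ⟨s, hs, t, hg⟩

end Levi

end Cfsg.Agent.Lib.helper22
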