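/-
helper22: tables of orbits of tuples of roots under the Weyl group, and conjugation of products of commuting
root elements by root elements (characteristic two).
-/
import Cfsg.Agent.Lib.helper22.ChevSuppB

set_option autoImplicit false

namespace Cfsg.Agent.Lib.helper22

open Cfsg.Lie

/-! ### Orbits of tuples of roots -/

/-- Boolean check: `tab` is the table of the fundamental reflections. -/
def reflTabOK (D : ChevalleyDatum) (tab : List (List ℕ)) : Bool :=
  (List.range D.rank).all fun i => (List.range D.nroots).all fun s =>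
    D.reflectRoot i s == (tab.getD i []).getD s 0

/-- The reflection read off a table. -/
def tupRefl (tab : List (List ℕ)) (i s : ℕ) : ℕ := (tab.getD i []).getD s 0

/-- Membership of a tuple in a list of tuples grouped by the first entry. -/
def tupMem (orbG : List (List (List ℕ))) (t : List ℕ) : Bool := (orbG.getD (t.headD 0) []).contains t

/-- The check, for the tuples of the group with index `k` of the grouped list `orbG` of tuples of roots, that
the entries are roots and that the images under the reflections of the table lie in `orbG`. -/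
def tupCell (n rank : ℕ) (tab : List (List ℕ)) (orbG : List (List (List ℕ))) (k : ℕ) : Bool :=
  (orbG.getD k []).all fun t =>
    t.all (fun s => decide (s < n)) && (List.range rank).all fun i => tupMem orbG (t.map (tupRefl tab i))

theorem tupMem_mem {orbG : List (List (List ℕ))} {t : List ℕ} (h : tupMem orbG t = true) :
    ∃ k, k < orbG.length ∧ t ∈ orbG.getD k [] := by
  unfold tupMem at h
  rw [List.contains_iff_mem] at h
  refine ⟨t.headD 0, ?_, h⟩
  by_contra hk
  rw [List.getD_eq_default _ _ (not_lt.mp hk)] at h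
  exact absurd h List.not_mem_nil

theorem tupG_of_ok {D : ChevalleyDatum} {tab : List (List ℕ)} {orbG : List (List (List ℕ))} {base : List ℕ}
    (h1 : reflTabOK D tab = true) (h3 : tupMem orbG base = true)
    (h4 : (List.range orbG.length).all (tupCell D.nroots D.rank tab orbG) = true) (w : List ℕ)
    (hw : ∀ i ∈ w, i < D.rank) : ∃ k, k < orbG.length ∧ base.map (hiRefl D w) ∈ orbG.getD k [] := by
  rw [List.all_eq_true] at h4
  unfold reflTabOK at h1
  rw [List.all_eq_true] at h1
  induction w with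
  | nil =>
    have : base.map (hiRefl D []) = base := by
      have : hiRefl D [] = id := rfl
      rw [this, List.map_id]
    rw [this]
    exact tupMem_mem h3
  | cons i w ih =>
    obtain ⟨k, hk, ht⟩ := ih fun j hj => hw j (List.mem_cons_of_mem _ hj)
    have hi := hw i List.mem_cons_self
    have h5 := h4 k (List.mem_range.mpr hk)
    unfold tupCell at h5
    rw [List.all_eq_true] at h5
    have h6 := h5 _ ht
    rw [Bool.and_eq_true, List.all_eq_true, List.all_eq_true] at h6
    obtain ⟨h7, h8⟩ := h6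
    have h9 := h8 i (List.mem_range.mpr hi)
    have e : base.map (hiRefl D (i :: w)) = (base.map (hiRefl D w)).map (tupRefl tab i) := by
      rw [List.map_map]
      apply List.map_congr_left
      intro s hs
      show D.reflectRoot i (hiRefl D w s) = tupRefl tab i (hiRefl D w s)
      have hlt : hiRefl D w s < D.nroots :=
        of_decide_eq_true (h7 (hiRefl D w s) (List.mem_map.mpr ⟨s, hs, rfl⟩))
      have h10 := h1 i (List.mem_range.mpr hi)
      rw [List.all_eq_true] at h10
      have h11 := h10 _ (List.mem_range.mpr hlt)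
      rw [beq_iff_eq] at h11
      exact h11
    rw [e]
    exact tupMem_mem h9

/-! ### Commuting root elements -/

/-- Boolean check: the root elements of the roots from `m` on commute in characteristic two. -/
def segCommOK (D : ChevalleyDatum) (m : ℕ) : Bool :=
  decide (D.nroots / 2 ≤ m) && (List.range' m (D.nroots - m)).all fun r =>
    (List.range' m (D.nroots - m)).all fun s => commEven D r s

/-- Boolean check: the root elements of `q` commute with the root elements of the roots of `L` in characteristic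
two. -/
def commListOK (D : ChevalleyDatum) (q : ℕ) (L : List ℕ) : Bool :=
  decide (q < D.nroots) && L.all fun s => decide (s < D.nroots) && (decide (s ≠ D.neg q) && commEven D q s)

section Conj

variable {D : ChevalleyDatum} {F : Type*} [Field F] {η : ℕ → ℕ → ℤ}

theorem seg_comm_of_ok [CharP F 2] (I : BNInput D F η) {m : ℕ} (h : segCommOK D m = true) :
    ∀ r, m ≤ r → r < D.nroots → ∀ s, m ≤ s → s < D.nroots → ∀ a b : F,
      xGL I.hSD' r a * xGL I.hSD' s b = xGL I.hSD' s b * xGL I.hSD' r a := by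
  unfold segCommOK at h
  rw [Bool.and_eq_true, decide_eq_true_eq, List.all_eq_true] at h
  obtain ⟨hm, h2⟩ := h
  intro r hr1 hr2 s hs1 hs2 a b
  have h3 := h2 r (List.mem_range'_1.mpr ⟨hr1, by omega⟩)
  rw [List.all_eq_true] at h3
  have h4 := h3 s (List.mem_range'_1.mpr ⟨hs1, by omega⟩)
  have hne : s ≠ D.neg r := by
    have := I.hU.negrev r hr2
    have := I.hU.even
    omega
  exact xGL_comm_of_even I hr2 hs2 hne h4 a b

theorem comm_of_listOK [CharP F 2] (I : BNInput D F η) {q : ℕ} {L : List ℕ} (h : commListOK D q L = true) :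
    ∀ s ∈ L, ∀ a b : F, xGL I.hSD' q a * xGL I.hSD' s b = xGL I.hSD' s b * xGL I.hSD' q a := by
  unfold commListOK at h
  rw [Bool.and_eq_true, decide_eq_true_eq, List.all_eq_true] at h
  obtain ⟨hq, h2⟩ := h
  intro s hs a b
  have h3 := h2 s hs
  rw [Bool.and_eq_true, Bool.and_eq_true, decide_eq_true_eq, decide_eq_true_eq] at h3
  exact xGL_comm_of_even I hq h3.1 h3.2.1 h3.2.2 a b

theorem zprod_conj_triv (hSD : ∀ r : Fin D.nroots, Nonempty (StringData D r)) {x : GL D.Idx F} {L : List ℕ}
    (h : ∀ s ∈ L, ∀ b : F, x * xGL hSD s b = xGL hSD s b * x) (τ : ℕ → F) :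
    x * zprod hSD L τ * x⁻¹ = zprod hSD L τ := by
  rw [zprod_comm_x hSD h τ, mul_inv_cancel_right]

/-- Conjugation of a product of commuting root elements by an element commuting with all the factors but the one
at `s₀`, which it conjugates to `x_{s₀}(u) x_k(t u)`. -/
theorem zprod_conj_single (hSD : ∀ r : Fin D.nroots, Nonempty (StringData D r)) {L : List ℕ} (hnd : L.Nodup)
    (hc : ∀ r ∈ L, ∀ s ∈ L, ∀ a b : F, xGL hSD r a * xGL hSD s b = xGL hSD s b * xGL hSD r a)
    {x : GL D.Idx F} {s₀ k : ℕ} {t : F} (hs₀ : s₀ ∈ L) (hk : k ∈ L)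
    (hx : ∀ s ∈ L, s ≠ s₀ → ∀ b : F, x * xGL hSD s b = xGL hSD s b * x)
    (hx₀ : ∀ u : F, x * xGL hSD s₀ u * x⁻¹ = xGL hSD s₀ u * xGL hSD k (t * u)) (τ : ℕ → F) :
    x * zprod hSD L τ * x⁻¹ = zprod hSD L (fun s => τ s + if k = s then t * τ s₀ else 0) := by
  have e1 : zprod hSD L τ = xGL hSD s₀ (τ s₀) * zprod hSD L (fun s => if s₀ = s then 0 else τ s) := by
    rw [← zprod_single hSD hnd (Or.inr hs₀) (a := τ s₀), ← zprod_add hSD hc]
    apply zprod_congr
    intro s _
    show τ s = (if s₀ = s then τ s₀ else 0) + (if s₀ = s then 0 else τ s)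
    by_cases h : s₀ = s
    · rw [if_pos h, if_pos h, add_zero, h]
    · rw [if_neg h, if_neg h, zero_add]
  have e2 : x * zprod hSD L (fun s => if s₀ = s then 0 else τ s) =
      zprod hSD L (fun s => if s₀ = s then 0 else τ s) * x := by
    unfold zprod
    apply wprod_comm
    intro p hp
    rw [List.mem_map] at hp
    obtain ⟨s, hs, rfl⟩ := hp
    show x * xGL hSD s (if s₀ = s then 0 else τ s) = xGL hSD s (if s₀ = s then 0 else τ s) * x
    by_cases h : s₀ = s
    · rw [if_pos h, xGL_zero, mul_one, one_mul]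
    · rw [if_neg h]
      exact hx s hs (fun e => h e.symm) _
  have e3 : x * zprod hSD L τ * x⁻¹ =
      (xGL hSD s₀ (τ s₀) * xGL hSD k (t * τ s₀)) * zprod hSD L (fun s => if s₀ = s then 0 else τ s) := by
    calc x * zprod hSD L τ * x⁻¹
        = x * (xGL hSD s₀ (τ s₀) * zprod hSD L (fun s => if s₀ = s then 0 else τ s)) * x⁻¹ := by rw [← e1]
      _ = (x * xGL hSD s₀ (τ s₀) * x⁻¹) * (x * zprod hSD L (fun s => if s₀ = s then 0 else τ s)) * x⁻¹ := by
          group
      _ = (xGL hSD s₀ (τ s₀) * xGL hSD k (t * τ s₀)) * zprod hSD L (fun s => if s₀ = s then 0 else τ s) := by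
          rw [hx₀, e2]
          group
  rw [e3, ← zprod_single hSD hnd (Or.inr hs₀) (a := τ s₀), ← zprod_single hSD hnd (Or.inr hk) (a := t * τ s₀),
    ← zprod_add hSD hc, ← zprod_add hSD hc]
  apply zprod_congr
  intro s _
  show (if s₀ = s then τ s₀ else 0) + (if k = s then t * τ s₀ else 0) + (if s₀ = s then 0 else τ s) =
    τ s + if k = s then t * τ s₀ else 0
  by_cases h : s₀ = s
  · rw [if_pos h, if_pos h, add_zero, h]
  · rw [if_neg h, if_neg h, zero_add, add_comm]

theorem zprod_conj_rootAct (hSD : ∀ r : Fin D.nroots, Nonempty (StringData D r)) {n : GL D.Idx F} {π : ℕ → ℕ}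
    {c : ℕ → F} (hπ : RootAct D F (n : Matrix D.Idx D.Idx F) π c) {L : List ℕ}
    (hL : ∀ r ∈ L, r < D.nroots) (τ : ℕ → F) :
    n * zprod hSD L τ * n⁻¹ = wprod hSD (L.map fun r => (π r, c r * τ r)) := by
  unfold zprod
  rw [wprod_conj hSD hπ (by
    intro p hp
    rw [List.mem_map] at hp
    obtain ⟨r, hr, rfl⟩ := hp
    exact hL r hr), List.map_map]
  rfl

theorem zprod_conj_diag (hSD : ∀ r : Fin D.nroots, Nonempty (StringData D r)) {h : GL D.Idx F} {χ : ℕ → F}
    (hχ : RootAct D F (h : Matrix D.Idx D.Idx F) (fun s => s) χ) {L : List ℕ}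
    (hL : ∀ r ∈ L, r < D.nroots) (τ : ℕ → F) :
    h * zprod hSD L τ * h⁻¹ = zprod hSD L (fun s => χ s * τ s) := by
  rw [zprod_conj_rootAct hSD hχ hL]
  rfl

/-- Conjugation by a product of root elements, each of which acts on the products over `L` by `act`. -/
theorem zprod_conj_fold (hSD : ∀ r : Fin D.nroots, Nonempty (StringData D r)) {L : List ℕ}
    (act : ℕ → F → (ℕ → F) → ℕ → F) (Lq : List ℕ)
    (h : ∀ q ∈ Lq, ∀ (t : F) (τ : ℕ → F),
      xGL hSD q t * zprod hSD L τ * (xGL hSD q t)⁻¹ = zprod hSD L (act q t τ))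
    (t : ℕ → F) (τ : ℕ → F) :
    zprod hSD Lq t * zprod hSD L τ * (zprod hSD Lq t)⁻¹ =
      zprod hSD L (Lq.foldr (fun q σ => act q (t q) σ) τ) := by
  induction Lq with
  | nil => rw [zprod_nil, one_mul, inv_one, mul_one, List.foldr_nil]
  | cons q Lq ih =>
    rw [zprod_cons, List.foldr_cons, ← h q List.mem_cons_self,
      ← ih (fun q' hq' => h q' (List.mem_cons_of_mem _ hq'))]
    group

/-- The elements of `U` as ordered products. -/
theorem pos_eq_zprod (I : BNInput D F η) {u : GL D.Idx F} (hu : u ∈ D.posUnipotent F) :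
    ∃ t : ℕ → F, u = zprod I.hSD' (List.range' (D.nroots / 2) (D.nroots / 2)) t := by
  obtain ⟨t, ht⟩ := posUnipotent_mem_prodSet I.hSD' I.hU I.hcomm hu
  exact ⟨t, Units.ext (ht.trans (zprod_coe I.hSD' _ t).symm)⟩

theorem refl_fix_of_stabX (I : BNInput D F η) {i r : ℕ} (hi : i < D.rank) (hr : r < D.nroots)
    (h : (nGL I.hSD' i : GL D.Idx F) ∈ stabX I.hSD' r) : D.reflectRoot i r = r := by
  obtain ⟨a', ea⟩ := ((mem_stabX I.hSD' r (nGL I.hSD' i)).mp h).1 (1 : F)
  have e3 : nGL I.hSD' i * xGL I.hSD' r 1 * (nGL I.hSD' i)⁻¹ =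
      xGL I.hSD' (D.reflectRoot i r) ((η i r : F) * 1) :=
    Units.ext (rootAct_conj (rootAct_nGL I hi) hr (xGL_coe I.hSD' r 1))
  exact xGL_label_inj I (reflect_lt I hi hr) hr
    (mul_ne_zero (rootAct_ne_zero' I (rootAct_nGL I hi) hr) one_ne_zero) (e3.symm.trans ea)

/-- An element of `N` fixing the fundamental roots lies in `H`. -/
theorem mono_fix_simple (C : ChevFacts D F η) {m : GL D.Idx F} (hm : m ∈ D.monomialSubgroup F) {ρ : ℕ → ℕ}
    {d : ℕ → F} (hρ : RootAct D F (m : Matrix D.Idx D.Idx F) ρ d)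
    (hfix : ∀ i, i < D.rank → ρ (D.simple i) = D.simple i) : m ∈ D.diagonalSubgroup F := by
  apply C.mono_simple_mem_diag m hm
  intro π'' c'' h'' i hi
  have := rootAct_inv_comp C.I hρ h'' (C.simple_lt hi)
  rw [hfix i hi] at this
  rw [this]
  exact simple_pos C.I hi

/-- The value of a torus character at a root with at most two non-zero Cartan integers. -/
theorem torusChar_of_two {r j k : ℕ} (hj : j < D.rank) (hk : k < D.rank) (hjk : j ≠ k)
    (hcart : ∀ i, i < D.rank → i ≠ j → i ≠ k → cartanZ D i r = 0) (c : Fin D.rank → F) :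
    torusChar D F c r = c ⟨j, hj⟩ ^ cartanZ D j r * c ⟨k, hk⟩ ^ cartanZ D k r := by
  unfold torusChar
  refine Finset.prod_eq_mul (⟨j, hj⟩ : Fin D.rank) ⟨k, hk⟩ (fun h => hjk (congrArg Fin.val h)) ?_
    (fun h => absurd (Finset.mem_univ _) h) (fun h => absurd (Finset.mem_univ _) h)
  intro b _ hb
  have hbj : b.val ≠ j := fun h => hb.1 (Fin.ext h)
  have hbk : b.val ≠ k := fun h => hb.2 (Fin.ext h)
  rw [hcart b.val b.isLt hbj hbk, zpow_zero]

end Conj

end Cfsg.Agent.Lib.helper22
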