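/-
helper22: the table facts `UFacts` and `simpleNormOK` for the seven tabulated data.
-/
import Cfsg.Agent.Lib.helper22.ChevUCertG2
import Cfsg.Agent.Lib.helper22.ChevUCertB2
import Cfsg.Agent.Lib.helper22.ChevUCertD4
import Cfsg.Agent.Lib.helper22.ChevUCertF4
import Cfsg.Agent.Lib.helper22.ChevUCertE6
import Cfsg.Agent.Lib.helper22.ChevUCertE7
import Cfsg.Agent.Lib.helper22.ChevUCertE8

set_option autoImplicit false

namespace Cfsg.Agent.Lib.helper22

open Cfsg.Lie

theorem uFacts_all (D : ChevalleyDatum)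
    (hD : D ∈ [chevG2, chevB2, chevD4, chevF4, chevE6, chevE7, chevE8]) : UFacts D := by
  simp only [List.mem_cons, List.not_mem_nil, or_false] at hD
  rcases hD with rfl | rfl | rfl | rfl | rfl | rfl | rfl
  · exact uFacts_G2
  · exact uFacts_B2
  · exact uFacts_D4
  · exact uFacts_F4
  · exact uFacts_E6
  · exact uFacts_E7
  · exact uFacts_E8

theorem simpleNormOK_all (D : ChevalleyDatum)
    (hD : D ∈ [chevG2, chevB2, chevD4, chevF4, chevE6, chevE7, chevE8]) : simpleNormOK D = true := by
  simp only [List.mem_cons, List.not_mem_nil, or_false] at hD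
  rcases hD with rfl | rfl | rfl | rfl | rfl | rfl | rfl
  · exact simpleNormOK_G2
  · exact simpleNormOK_B2
  · exact simpleNormOK_D4
  · exact simpleNormOK_F4
  · exact simpleNormOK_E6
  · exact simpleNormOK_E7
  · exact simpleNormOK_E8

end Cfsg.Agent.Lib.helper22
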