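import Mathlib

/-!
Piece C5 of the S4441 / S0960 project (architect helper84): a complex linear relation among
integer vectors gives an integer relation with a coefficient prime to `p`.
-/

set_option autoImplicit false

namespace Cfsg.Agent.Lib.helper22

/-- a nonzero rational relation -/
theorem d1_rat_relation_of_complex {J : Type*} (m : ℕ) (w : Fin (m + 1) → J → ℤ)
    (q : Fin (m + 1) → ℂ) (hq : q ≠ 0) (h : ∀ j, ∑ k, q k * (w k j : ℂ) = 0) :
    ∃ r : Fin (m + 1) → ℚ, r ≠ 0 ∧ ∀ j, ∑ k, r k * (w k j : ℚ) = 0 := by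
  obtain ⟨k₀, hk₀⟩ : ∃ k₀, q k₀ ≠ 0 := by
    by_contra hcon
    push Not at hcon
    exact hq (funext hcon)
  let b := Module.Basis.ofVectorSpace ℚ ℂ
  have hrep : b.repr (q k₀) ≠ 0 := by
    intro h0
    exact hk₀ (by simpa using congrArg b.repr.symm h0)
  obtain ⟨i, hi⟩ : ∃ i, b.repr (q k₀) i ≠ 0 := by
    by_contra hcon
    push Not at hcon
    exact hrep (Finsupp.ext hcon)
  refine ⟨fun k => b.coord i (q k), ?_, ?_⟩
  · intro h0
    exact hi (by simpa [Module.Basis.coord_apply] using congrFun h0 k₀)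
  · intro j
    have h1 := congrArg (b.coord i) (h j)
    rw [map_sum, map_zero] at h1
    rw [← h1]
    apply Finset.sum_congr rfl
    intro k _
    have : q k * (w k j : ℂ) = ((w k j : ℤ) : ℚ) • q k := by
      rw [Rat.smul_def]; push_cast; ring
    rw [this, map_smul, smul_eq_mul, mul_comm]

/-- a nonzero integer relation -/
theorem d1_int_relation_aux {J : Type*} (m : ℕ) (w : Fin (m + 1) → J → ℤ)
    (r : Fin (m + 1) → ℚ) (hr : r ≠ 0) (h : ∀ j, ∑ k, r k * (w k j : ℚ) = 0) :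
    ∃ n : Fin (m + 1) → ℤ, n ≠ 0 ∧ ∀ j, ∑ k, n k * w k j = 0 := by
  obtain ⟨k₀, hk₀⟩ : ∃ k₀, r k₀ ≠ 0 := by
    by_contra hcon
    push Not at hcon
    exact hr (funext hcon)
  let D : ℤ := ∏ k, ((r k).den : ℤ)
  have hD : D ≠ 0 := by
    apply Finset.prod_ne_zero_iff.mpr
    intro k _
    exact_mod_cast (r k).den_nz
  have hint : ∀ k, ∃ z : ℤ, (z : ℚ) = r k * (D : ℚ) := by
    intro k
    refine ⟨(r k).num * ∏ k' ∈ Finset.univ.erase k, ((r k').den : ℤ), ?_⟩
    have hD' : D = ((r k).den : ℤ) * ∏ k' ∈ Finset.univ.erase k, ((r k').den : ℤ) :=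
      (Finset.mul_prod_erase Finset.univ (fun k' => ((r k').den : ℤ)) (Finset.mem_univ k)).symm
    rw [hD']
    push_cast
    have h3 : ((r k).num : ℚ) = r k * ((r k).den : ℚ) := by
      rw [Rat.mul_den_eq_num]
    rw [h3]; ring
  choose n hn using hint
  refine ⟨n, ?_, ?_⟩
  · intro h0
    have h1 := hn k₀
    rw [h0] at h1
    simp only [Pi.zero_apply, Int.cast_zero] at h1
    have hDq : (D : ℚ) ≠ 0 := by exact_mod_cast hD
    rcases mul_eq_zero.mp h1.symm with h2 | h2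
    · exact hk₀ h2
    · exact hDq h2
  · intro j
    have : ((∑ k, n k * w k j : ℤ) : ℚ) = 0 := by
      push_cast
      have h4 : ∑ k, (n k : ℚ) * (w k j : ℚ) = (D : ℚ) * ∑ k, r k * (w k j : ℚ) := by
        rw [Finset.mul_sum]
        apply Finset.sum_congr rfl
        intro k _
        rw [hn k]; ring
      rw [h4, h j, mul_zero]
    exact_mod_cast this

/-- PIECE C5 (pure linear algebra). -/
theorem d1_int_relation_of_complex {J : Type*} (m : ℕ) (w : Fin (m + 1) → J → ℤ)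
    (q : Fin (m + 1) → ℂ) (hq : q ≠ 0) (h : ∀ j, ∑ k, q k * (w k j : ℂ) = 0)
    (p : ℕ) [Fact p.Prime] :
    ∃ n : Fin (m + 1) → ℤ, (∃ k, ¬ (p : ℤ) ∣ n k) ∧ ∀ j, ∑ k, n k * w k j = 0 := by
  obtain ⟨r, hr, hrel⟩ := d1_rat_relation_of_complex m w q hq h
  obtain ⟨n', hn', hrel'⟩ := d1_int_relation_aux m w r hr hrel
  obtain ⟨k₀, hk₀⟩ : ∃ k₀, n' k₀ ≠ 0 := by
    by_contra hcon
    push Not at hcon
    exact hn' (funext hcon)
  obtain ⟨g, hg, hg1⟩ := Finset.extract_gcd n' (Finset.univ_nonempty (α := Fin (m + 1)))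
  have hgcd : Finset.univ.gcd n' ≠ 0 := by
    intro h0
    exact hk₀ ((Finset.gcd_eq_zero_iff.mp h0) k₀ (Finset.mem_univ k₀))
  refine ⟨g, ?_, ?_⟩
  · by_contra hcon
    push Not at hcon
    have h1 : (p : ℤ) ∣ Finset.univ.gcd g := Finset.dvd_gcd (fun k _ => hcon k)
    rw [hg1] at h1
    have h2 : p ∣ 1 := by exact_mod_cast h1
    exact (Fact.out : p.Prime).one_lt.ne' (Nat.dvd_one.mp h2)
  · intro j
    have h1 := hrel' j
    have h2 : ∑ k, n' k * w k j = Finset.univ.gcd n' * ∑ k, g k * w k j := by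
      rw [Finset.mul_sum]
      apply Finset.sum_congr rfl
      intro k _
      rw [hg k (Finset.mem_univ k)]; ring
    rw [h2] at h1
    rcases mul_eq_zero.mp h1 with h3 | h3
    · exact absurd h3 hgcd
    · exact h3

end Cfsg.Agent.Lib.helper22
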