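import Mathlib

/-!
Piece C7a of the S4441 / S0960 project (architect helper84): the trace of a quasi-idempotent
endomorphism of a lattice is `m` times the rank of its lattice of "fixed points".
-/

set_option autoImplicit false

namespace Cfsg.Agent.Lib.helper22

/-- PIECE C7a (abstract trace / rank lemma). -/
theorem d1_finrank_of_quasi_idempotent {Λ : Type*} [AddCommGroup Λ] [Module.Free ℤ Λ]
    [Module.Finite ℤ Λ] (π : Λ →ₗ[ℤ] Λ) (m : ℤ) (hm : m ≠ 0) (hπ : π ∘ₗ π = m • π)
    (F : Submodule ℤ Λ) (h1 : LinearMap.range π ≤ F) (h2 : ∀ v ∈ F, π v = m • v) :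
    m * (Module.finrank ℤ F : ℤ) = LinearMap.trace ℤ Λ π := by
  have e1 : F.subtype ∘ₗ (π.codRestrict F (fun v => h1 (LinearMap.mem_range_self π v))) = π := by
    ext v; rfl
  have e2 : (π.codRestrict F (fun v => h1 (LinearMap.mem_range_self π v))) ∘ₗ F.subtype
      = m • (LinearMap.id : F →ₗ[ℤ] F) := by
    ext ⟨v, hv⟩
    simp [h2 v hv]
  calc m * (Module.finrank ℤ F : ℤ)
      = LinearMap.trace ℤ F (m • (LinearMap.id : F →ₗ[ℤ] F)) := by
        rw [map_smul, LinearMap.trace_id]; simp
    _ = LinearMap.trace ℤ F ((π.codRestrict F (fun v => h1 (LinearMap.mem_range_self π v)))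
          ∘ₗ F.subtype) := by rw [e2]
    _ = LinearMap.trace ℤ Λ (F.subtype ∘ₗ
          (π.codRestrict F (fun v => h1 (LinearMap.mem_range_self π v)))) :=
        LinearMap.trace_comp_comm' _ _
    _ = LinearMap.trace ℤ Λ π := by rw [e1]

end Cfsg.Agent.Lib.helper22
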