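import Cfsg.Agent.Lib.helper84.Def1Defs

/-!
Piece C7b of the S4441 / S0960 project (architect helper84): the rank of the fixed points of a
subgroup `H` on the lattice `d1L S` is the average of `d1Eps S` over `H`.

The core statement `d1_finrank_fix_of_mem` takes `d1E S ∈ d1L S` (piece C3) as a hypothesis.
-/

set_option autoImplicit false

namespace Cfsg.Agent.Lib.helper22

open Cfsg Cfsg.Agent.Lib.helper84

/-- trace of an endomorphism that maps into a submodule on which it is a scalar -/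
theorem d1_trace_of_fix {Λ : Type*} [AddCommGroup Λ] [Module.Free ℤ Λ]
    [Module.Finite ℤ Λ] (π : Λ →ₗ[ℤ] Λ) (m : ℤ)
    (F : Submodule ℤ Λ) (h1 : LinearMap.range π ≤ F) (h2 : ∀ v ∈ F, π v = m • v) :
    m * (Module.finrank ℤ F : ℤ) = LinearMap.trace ℤ Λ π := by
  have e1 : F.subtype ∘ₗ (π.codRestrict F (fun v => h1 (LinearMap.mem_range_self π v))) = π := by
    ext v; rfl
  have e2 : (π.codRestrict F (fun v => h1 (LinearMap.mem_range_self π v))) ∘ₗ F.subtype
      = m • (LinearMap.id : F →ₗ[ℤ] F) := by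
    ext ⟨v, hv⟩
    simp [h2 v hv]
  calc m * (Module.finrank ℤ F : ℤ)
      = LinearMap.trace ℤ F (m • (LinearMap.id : F →ₗ[ℤ] F)) := by
        rw [map_smul, LinearMap.trace_id]; simp
    _ = LinearMap.trace ℤ F ((π.codRestrict F (fun v => h1 (LinearMap.mem_range_self π v)))
          ∘ₗ F.subtype) := by rw [e2]
    _ = LinearMap.trace ℤ Λ (F.subtype ∘ₗ
          (π.codRestrict F (fun v => h1 (LinearMap.mem_range_self π v)))) :=
        LinearMap.trace_comp_comm' _ _
    _ = LinearMap.trace ℤ Λ π := by rw [e1]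

section

variable {G : Type*} [Group G] [Fintype G]

theorem d1Eps_conj (S : Finset (IrrCharacter G)) (g x : G) :
    d1Eps S (x * g * x⁻¹) = d1Eps S g := by
  unfold d1Eps
  congr 2
  apply Finset.sum_congr rfl
  intro χ _
  congr 1
  have h1 : (x * g * x⁻¹)⁻¹ = x * g⁻¹ * x⁻¹ := by group
  rw [h1]
  obtain ⟨n, ρ, hρ, hχ⟩ := χ.2
  rw [← hχ]
  exact Representation.char_conj ρ g⁻¹ x

theorem d1E_coeff (S : Finset (IrrCharacter G)) (x : G) : (d1E S).coeff x = d1Eps S x := by
  classical
  unfold d1E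
  rw [MonoidAlgebra.coeff_sum, Finsupp.finsetSum_apply]
  simp [MonoidAlgebra.coeff_single, Finsupp.single_apply]

/-- the basis of the group elements -/
noncomputable def d1Basis : Module.Basis G ℤ (MonoidAlgebra ℤ G) :=
  Finsupp.basisSingleOne.map (MonoidAlgebra.coeffLinearEquiv ℤ).symm

theorem d1Basis_apply (g : G) : (d1Basis g : MonoidAlgebra ℤ G) = MonoidAlgebra.single g 1 := rfl

theorem d1Basis_repr (v : MonoidAlgebra ℤ G) (g : G) : (d1Basis (G := G)).repr v g = v.coeff g := rfl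

/-- the trace of `a ↦ h * a * E` on the integral group ring -/
theorem d1_trace_mulLeft_mulRight (S : Finset (IrrCharacter G)) (h : G) :
    LinearMap.trace ℤ (MonoidAlgebra ℤ G)
      (LinearMap.mulRight ℤ (d1E S) ∘ₗ LinearMap.mulLeft ℤ (MonoidAlgebra.of ℤ G h))
      = (Fintype.card G : ℤ) * d1Eps S h⁻¹ := by
  classical
  rw [LinearMap.trace_eq_matrix_trace ℤ (d1Basis (G := G)), Matrix.trace]
  have hterm : ∀ g : G, Matrix.diag (LinearMap.toMatrix d1Basis d1Basis
      (LinearMap.mulRight ℤ (d1E S) ∘ₗ LinearMap.mulLeft ℤ (MonoidAlgebra.of ℤ G h))) g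
      = d1Eps S h⁻¹ := by
    intro g
    rw [Matrix.diag_apply, LinearMap.toMatrix_apply, d1Basis_repr, d1Basis_apply]
    simp only [LinearMap.comp_apply, LinearMap.mulLeft_apply, LinearMap.mulRight_apply]
    rw [MonoidAlgebra.of_apply, MonoidAlgebra.single_mul_single, mul_one,
      MonoidAlgebra.coeff_single_mul_apply, one_mul, d1E_coeff]
    have h2 : (h * g)⁻¹ * g = g⁻¹ * h⁻¹ * g⁻¹⁻¹ := by group
    rw [h2, d1Eps_conj]
  rw [Finset.sum_congr rfl (fun g _ => hterm g)]
  simp

/-- the trace of the action of `h` on the lattice -/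
theorem d1_trace_rho (S : Finset (IrrCharacter G)) (hE : d1E S ∈ d1L S) (h : G) :
    LinearMap.trace ℤ (d1L S) (d1Rho S h) = d1Eps S h⁻¹ := by
  have hEE : d1E S * d1E S = (Fintype.card G : ℤ) • d1E S := (mem_d1L S _).mp hE
  have hrange : ∀ a : MonoidAlgebra ℤ G, LinearMap.mulRight ℤ (d1E S) a ∈ d1L S := by
    intro a
    rw [LinearMap.mulRight_apply, mem_d1L, mul_assoc, hEE, mul_smul_comm]
  have e1 : (d1L S).subtype ∘ₗ (((LinearMap.mulRight ℤ (d1E S)).codRestrict (d1L S) hrange) ∘ₗ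
        LinearMap.mulLeft ℤ (MonoidAlgebra.of ℤ G h))
      = LinearMap.mulRight ℤ (d1E S) ∘ₗ LinearMap.mulLeft ℤ (MonoidAlgebra.of ℤ G h) := by
    apply LinearMap.ext
    intro a
    rfl
  have e2 : (((LinearMap.mulRight ℤ (d1E S)).codRestrict (d1L S) hrange) ∘ₗ
        LinearMap.mulLeft ℤ (MonoidAlgebra.of ℤ G h)) ∘ₗ (d1L S).subtype
      = (Fintype.card G : ℤ) • d1Rho S h := by
    apply LinearMap.ext
    intro a
    apply Subtype.ext
    have ha := (mem_d1L S _).mp a.2
    show MonoidAlgebra.of ℤ G h * (a : MonoidAlgebra ℤ G) * d1E S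
      = (Fintype.card G : ℤ) • (MonoidAlgebra.of ℤ G h * (a : MonoidAlgebra ℤ G))
    rw [mul_assoc, ha, mul_smul_comm]
  have h3 := d1_trace_mulLeft_mulRight S h
  rw [← e1, LinearMap.trace_comp_comm', e2, map_smul, smul_eq_mul] at h3
  have hN : (Fintype.card G : ℤ) ≠ 0 := by exact_mod_cast Fintype.card_ne_zero
  exact mul_left_cancel₀ hN h3

/-- PIECE C7b, with `d1E S ∈ d1L S` (piece C3) as a hypothesis. -/
theorem d1_finrank_fix_of_mem (S : Finset (IrrCharacter G)) (hE : d1E S ∈ d1L S)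
    (H : Subgroup G) :
    (Nat.card H : ℤ) * (Module.finrank ℤ (d1Fix (d1Rho S) H) : ℤ)
      = ∑ h : G, Set.indicator (H : Set G) (fun h => d1Eps S h) h := by
  classical
  have hcard : (Nat.card H : ℤ) = ((Finset.univ.filter (fun h : G => h ∈ H)).card : ℤ) := by
    rw [Nat.card_eq_fintype_card, Fintype.card_subtype]
  have h1 : LinearMap.range (∑ h ∈ Finset.univ.filter (fun h : G => h ∈ H), d1Rho S h)
      ≤ d1Fix (d1Rho S) H := by
    rintro _ ⟨v, rfl⟩ g hg
    simp only [LinearMap.sum_apply, map_sum]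
    apply Finset.sum_bij' (fun h _ => g * h) (fun h _ => g⁻¹ * h)
    · intro h hh
      simp only [Finset.mem_filter, Finset.mem_univ, true_and] at hh ⊢
      exact H.mul_mem hg hh
    · intro h hh
      simp only [Finset.mem_filter, Finset.mem_univ, true_and] at hh ⊢
      exact H.mul_mem (H.inv_mem hg) hh
    · intro h _; simp
    · intro h _; simp
    · intro h _
      rw [map_mul]; rfl
  have h2 : ∀ v ∈ d1Fix (d1Rho S) H,
      (∑ h ∈ Finset.univ.filter (fun h : G => h ∈ H), d1Rho S h) v = (Nat.card H : ℤ) • v := by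
    intro v hv
    simp only [LinearMap.sum_apply]
    rw [Finset.sum_congr rfl (fun h hh => hv h (by simpa using hh)), Finset.sum_const, hcard,
      natCast_zsmul]
  rw [d1_trace_of_fix _ _ _ h1 h2, map_sum,
    Finset.sum_congr rfl (fun h _ => d1_trace_rho S hE h), Finset.sum_indicator_eq_sum_filter]
  refine Finset.sum_bij' (fun h _ => h⁻¹) (fun h _ => h⁻¹) ?_ ?_ ?_ ?_ ?_ <;>
    intro h hh <;>
    first
      | exact inv_inv h
      | rfl
      | (simp only [Finset.mem_filter, Finset.mem_univ, true_and, SetLike.mem_coe] at hh ⊢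
         exact H.inv_mem hh)

end

end Cfsg.Agent.Lib.helper22
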