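import Cfsg.Agent.Lib.helper20.D1EDefs
import Cfsg.Agent.Lib.helper81.CharOrtho

/-!
# SP-E piece E2 of the defect-one project (S4441 / S0960): block orthogonality on `P#`
-/

set_option autoImplicit false

namespace Cfsg.Agent.Lib.helper22.D1E

open Cfsg Cfsg.Agent.Lib.helper84 Cfsg.Agent.Lib.helper20.D1E Cfsg.Agent.Lib.helper81

theorem e2_pow_val_mul {M : Type*} [Monoid M] (p : ℕ) (x : M) (hxp : x ^ p = 1) (a b : ZMod p) :
    x ^ (a * b).val = (x ^ a.val) ^ b.val := by
  rw [← pow_mul, ZMod.val_mul, ← pow_eq_pow_mod _ hxp]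

section

variable {G : Type*} [Group G] [Fintype G] (p : ℕ) [Fact p.Prime]

theorem e2_pow_eq_one (P : Sylow p G) (hP : Nat.card P = p) (x : G)
    (hx : x ∈ (P : Subgroup G)) : x ^ p = 1 := by
  have h1 : (⟨x, hx⟩ : (P : Subgroup G)) ^ Nat.card (P : Subgroup G) = 1 := pow_card_eq_one'
  have hP' : Nat.card (P : Subgroup G) = p := hP
  rw [hP'] at h1
  have := congrArg Subtype.val h1
  simpa using this

theorem e2_orderOf (P : Sylow p G) (hP : Nat.card P = p) (x : G)
    (hx : x ∈ (P : Subgroup G)) (hx1 : x ≠ 1) : orderOf x = p :=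
  orderOf_eq_prime (e2_pow_eq_one p P hP x hx) hx1

theorem e2_pow_ne_one (P : Sylow p G) (hP : Nat.card P = p) (x : G)
    (hx : x ∈ (P : Subgroup G)) (hx1 : x ≠ 1) (u : (ZMod p)ˣ) :
    x ^ (u : ZMod p).val ≠ 1 := by
  intro h
  have h1 := orderOf_dvd_of_pow_eq_one h
  rw [e2_orderOf p P hP x hx hx1] at h1
  have h2 := ZMod.val_coe_unit_coprime u
  have h3 := Nat.Coprime.eq_one_of_dvd h2.symm h1
  exact (Fact.out : p.Prime).one_lt.ne' h3

theorem e2_mem_centralizer (P : Sylow p G) (hP : Nat.card P = p) (z : G)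
    (hz : z ∈ (P : Subgroup G)) (hz1 : z ≠ 1) (c : G) (hc : Commute c z) :
    c ∈ Subgroup.centralizer ((P : Subgroup G) : Set G) := by
  rw [Subgroup.mem_centralizer_iff]
  intro w hw
  have hw' : w ∈ (P : Subgroup G) := hw
  have hz1' : (⟨z, hz⟩ : (P : Subgroup G)) ≠ 1 := fun h => hz1 (congrArg Subtype.val h)
  have hP' : Nat.card (P : Subgroup G) = p := hP
  have htop := zpowers_eq_top_of_prime_card hP' hz1'
  have hmem : (⟨w, hw'⟩ : (P : Subgroup G)) ∈ Subgroup.zpowers (⟨z, hz⟩ : (P : Subgroup G)) := by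
    rw [htop]; trivial
  obtain ⟨k, hk⟩ := Subgroup.mem_zpowers_iff.mp hmem
  have hwz : w = z ^ k := by
    have := congrArg Subtype.val hk
    simpa using this.symm
  rw [hwz]
  exact ((hc.zpow_right k).eq).symm

theorem e2_card_centralizer (P : Sylow p G) (hP : Nat.card P = p) (z : G)
    (hz : z ∈ (P : Subgroup G)) (hz1 : z ≠ 1) :
    Nat.card (Subgroup.centralizer ({z} : Set G)) =
      Nat.card (Subgroup.centralizer ((P : Subgroup G) : Set G)) := by
  have h : Subgroup.centralizer ({z} : Set G) =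
      Subgroup.centralizer ((P : Subgroup G) : Set G) := by
    apply le_antisymm
    · intro c hc
      rw [Subgroup.mem_centralizer_iff] at hc
      exact e2_mem_centralizer p P hP z hz hz1 c (hc z rfl).symm
    · apply Subgroup.centralizer_le
      intro w hw
      rw [Set.mem_singleton_iff] at hw
      rw [hw]; exact hz
  rw [h]

theorem e2_orderOf_mul (P : Sylow p G) (hP : Nat.card P = p) (z : G)
    (hz : z ∈ (P : Subgroup G)) (hz1 : z ≠ 1) (y : G)
    (hy : y ∈ Subgroup.centralizer ((P : Subgroup G) : Set G)) (hpy : ¬ p ∣ orderOf y) :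
    orderOf (z * y) = p * orderOf y := by
  have hc : Commute z y := by
    rw [Subgroup.mem_centralizer_iff] at hy
    exact hy z hz
  have ho := e2_orderOf p P hP z hz hz1
  have h := hc.orderOf_mul_eq_mul_orderOf_of_coprime
    (by rw [ho]; exact ((Fact.out : p.Prime).coprime_iff_not_dvd).mpr hpy)
  rw [h, ho]

omit [Fintype G] in
theorem e2_isConj_orderOf {a b : G} (h : IsConj a b) : orderOf a = orderOf b := by
  obtain ⟨c, hc⟩ := isConj_iff.mp h
  rw [← hc]
  exact ((MulAut.conj c).orderOf_eq a).symm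

open Classical in
/-- The common core: column orthogonality summed over the `p`-regular elements of `C_G(P)`. -/
theorem e2_core (M : Ideal AlgInt) (P : Sylow p G) [Fintype (PB M G)]
    (hin : ∀ χ : IrrCharacter G, χ ∈ principalBlock M G → ∀ z ∈ (P : Subgroup G), z ≠ 1 →
      ∀ y ∈ Subgroup.centralizer ((P : Subgroup G) : Set G), ¬ p ∣ orderOf y →
        (χ : G → ℂ) (z * y) = (χ : G → ℂ) z)
    (hout : ∀ χ : IrrCharacter G, χ ∉ principalBlock M G → ∀ z ∈ (P : Subgroup G), z ≠ 1 →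
      ∑ y : G, Set.indicator
        {y : G | y ∈ Subgroup.centralizer ((P : Subgroup G) : Set G) ∧ ¬ p ∣ orderOf y}
        (fun y => (χ : G → ℂ) (z * y)) y = 0)
    (z : G) (hz : z ∈ (P : Subgroup G)) (hz1 : z ≠ 1) (h : G) :
    (Nat.card {c : G // c ∈ Subgroup.centralizer ((P : Subgroup G) : Set G) ∧
        ¬ p ∣ orderOf c} : ℂ) *
      ∑ i : PB M G, (i.1 : G → ℂ) z * (starRingEnd ℂ) ((i.1 : G → ℂ) h)
    = ∑ y : G, Set.indicator
        {y : G | y ∈ Subgroup.centralizer ((P : Subgroup G) : Set G) ∧ ¬ p ∣ orderOf y}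
        (fun y => if IsConj (z * y) h then
          (Nat.card (Subgroup.centralizer ({z * y} : Set G)) : ℂ) else 0) y := by
  set S : Set G :=
    {y : G | y ∈ Subgroup.centralizer ((P : Subgroup G) : Set G) ∧ ¬ p ∣ orderOf y} with hS
  -- the right-hand side through column orthogonality
  have hR : ∀ y : G, Set.indicator S (fun y => if IsConj (z * y) h then
        (Nat.card (Subgroup.centralizer ({z * y} : Set G)) : ℂ) else 0) y
      = ∑ χ : IrrCharacter G, (if y ∈ S then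
          (χ : G → ℂ) (z * y) * (starRingEnd ℂ) ((χ : G → ℂ) h) else 0) := by
    intro y
    by_cases hy : y ∈ S
    · rw [Set.indicator_of_mem hy]
      simp only [if_pos hy]
      exact (irr_col_orth (z * y) h).symm
    · rw [Set.indicator_of_notMem hy]
      simp only [if_neg hy, Finset.sum_const_zero]
  rw [Finset.sum_congr rfl (fun y _ => hR y), Finset.sum_comm]
  -- the inner sums
  have hI : ∀ χ : IrrCharacter G, ∑ y : G, (if y ∈ S then
        (χ : G → ℂ) (z * y) * (starRingEnd ℂ) ((χ : G → ℂ) h) else 0)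
      = if χ ∈ principalBlock M G then
          (Nat.card {c : G // c ∈ S} : ℂ) *
            ((χ : G → ℂ) z * (starRingEnd ℂ) ((χ : G → ℂ) h)) else 0 := by
    intro χ
    by_cases hχ : χ ∈ principalBlock M G
    · rw [if_pos hχ]
      have h1 : ∀ y : G, (if y ∈ S then
          (χ : G → ℂ) (z * y) * (starRingEnd ℂ) ((χ : G → ℂ) h) else 0)
          = if y ∈ S then (χ : G → ℂ) z * (starRingEnd ℂ) ((χ : G → ℂ) h) else 0 := by
        intro y
        by_cases hy : y ∈ S
        · rw [if_pos hy, if_pos hy, hin χ hχ z hz hz1 y hy.1 hy.2]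
        · rw [if_neg hy, if_neg hy]
      rw [Finset.sum_congr rfl (fun y _ => h1 y), Finset.sum_ite, Finset.sum_const,
        Finset.sum_const_zero, add_zero, nsmul_eq_mul, Nat.card_eq_fintype_card,
        Fintype.card_subtype]
    · rw [if_neg hχ]
      have h2 := hout χ hχ z hz hz1
      have h3 : ∀ y : G, (if y ∈ S then
          (χ : G → ℂ) (z * y) * (starRingEnd ℂ) ((χ : G → ℂ) h) else 0)
          = Set.indicator S (fun y => (χ : G → ℂ) (z * y)) y *
              (starRingEnd ℂ) ((χ : G → ℂ) h) := by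
        intro y
        by_cases hy : y ∈ S
        · rw [if_pos hy, Set.indicator_of_mem hy]
        · rw [if_neg hy, Set.indicator_of_notMem hy, zero_mul]
      rw [Finset.sum_congr rfl (fun y _ => h3 y), ← Finset.sum_mul, h2, zero_mul]
  rw [Finset.sum_congr rfl (fun χ _ => hI χ), ← Finset.sum_filter, ← Finset.mul_sum]
  congr 1
  exact (Finset.sum_subtype (Finset.univ.filter (fun χ : IrrCharacter G => χ ∈ principalBlock M G))
    (fun χ => by simp) (fun χ => (χ : G → ℂ) z * (starRingEnd ℂ) ((χ : G → ℂ) h))).symm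

theorem e2_card_ne_zero (P : Sylow p G) :
    (Nat.card {c : G // c ∈ Subgroup.centralizer ((P : Subgroup G) : Set G) ∧
        ¬ p ∣ orderOf c} : ℂ) ≠ 0 := by
  have : Nonempty {c : G // c ∈ Subgroup.centralizer ((P : Subgroup G) : Set G) ∧
        ¬ p ∣ orderOf c} :=
    ⟨⟨1, Subgroup.one_mem _, by
      rw [orderOf_one]
      exact (Fact.out : p.Prime).one_lt.ne' ∘ Nat.dvd_one.mp⟩⟩
  have h : Nat.card {c : G // c ∈ Subgroup.centralizer ((P : Subgroup G) : Set G) ∧
        ¬ p ∣ orderOf c} ≠ 0 := Nat.card_pos.ne'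
  exact_mod_cast h

/-- Conjugacy of the powers of `x` in terms of `H`. -/
theorem e2_isConj_iff (P : Sylow p G) (hP : Nat.card P = p)
    (x : G) (hx : x ∈ (P : Subgroup G))
    (H : Subgroup (ZMod p)ˣ)
    (hH : ∀ r : (ZMod p)ˣ, r ∈ H ↔ ∃ n : G, n * x * n⁻¹ = x ^ ((r : ZMod p).val))
    (u v : (ZMod p)ˣ) :
    IsConj (x ^ (u : ZMod p).val) (x ^ (v : ZMod p).val) ↔ u * v⁻¹ ∈ H := by
  have hxp := e2_pow_eq_one p P hP x hx
  have hone : (1 : ZMod p).val = 1 := by
    rw [ZMod.val_one_eq_one_mod, Nat.mod_eq_of_lt (Fact.out : p.Prime).one_lt]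
  constructor
  · intro hc
    obtain ⟨n, hn⟩ := isConj_iff.mp hc
    have h1 : v * u⁻¹ ∈ H := by
      rw [hH]
      refine ⟨n, ?_⟩
      have h2 : x = (x ^ (u : ZMod p).val) ^ ((u⁻¹ : (ZMod p)ˣ) : ZMod p).val := by
        rw [← e2_pow_val_mul p x hxp, Units.mul_inv, hone, pow_one]
      have h3 : n * x * n⁻¹ = (n * x ^ (u : ZMod p).val * n⁻¹) ^
          ((u⁻¹ : (ZMod p)ˣ) : ZMod p).val := by
        rw [conj_pow, ← h2]
      rw [h3, hn, ← e2_pow_val_mul p x hxp, Units.val_mul]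
    have h4 : u * v⁻¹ = (v * u⁻¹)⁻¹ := by
      rw [mul_inv_rev, inv_inv]
    rw [h4]
    exact H.inv_mem h1
  · intro hm
    have h1 : v * u⁻¹ ∈ H := by
      have h4 : v * u⁻¹ = (u * v⁻¹)⁻¹ := by
        rw [mul_inv_rev, inv_inv]
      rw [h4]
      exact H.inv_mem hm
    obtain ⟨n, hn⟩ := (hH _).mp h1
    rw [isConj_iff]
    refine ⟨n, ?_⟩
    rw [← conj_pow, hn, ← e2_pow_val_mul p x hxp, ← Units.val_mul, inv_mul_cancel_right]

open Classical in
/-- PIECE E2a : block orthogonality on `P#` (hypotheses `hin`, `hout`, `hcard` = E1a, E1b, GK1). -/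
theorem orth_singular {G : Type*} [Group G] [Fintype G] (p : ℕ) [Fact p.Prime]
    (M : Ideal AlgInt) (P : Sylow p G) (hP : Nat.card P = p)
    (x : G) (hx : x ∈ (P : Subgroup G)) (hx1 : x ≠ 1)
    (H : Subgroup (ZMod p)ˣ)
    (hH : ∀ r : (ZMod p)ˣ, r ∈ H ↔ ∃ n : G, n * x * n⁻¹ = x ^ ((r : ZMod p).val))
    [Fintype (PB M G)]
    (hin : ∀ χ : IrrCharacter G, χ ∈ principalBlock M G → ∀ z ∈ (P : Subgroup G), z ≠ 1 →
      ∀ y ∈ Subgroup.centralizer ((P : Subgroup G) : Set G), ¬ p ∣ orderOf y →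
        (χ : G → ℂ) (z * y) = (χ : G → ℂ) z)
    (hout : ∀ χ : IrrCharacter G, χ ∉ principalBlock M G → ∀ z ∈ (P : Subgroup G), z ≠ 1 →
      ∑ y : G, Set.indicator
        {y : G | y ∈ Subgroup.centralizer ((P : Subgroup G) : Set G) ∧ ¬ p ∣ orderOf y}
        (fun y => (χ : G → ℂ) (z * y)) y = 0)
    (hcard : Nat.card (Subgroup.centralizer ((P : Subgroup G) : Set G)) =
      p * Nat.card {c : G // c ∈ Subgroup.centralizer ((P : Subgroup G) : Set G) ∧
        ¬ p ∣ orderOf c})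
    (u v : (ZMod p)ˣ) :
    (u * v⁻¹ ∈ H → ∑ i : PB M G, (i.1 : G → ℂ) (x ^ (u : ZMod p).val) *
        (starRingEnd ℂ) ((i.1 : G → ℂ) (x ^ (v : ZMod p).val)) = (p : ℂ)) ∧
    (u * v⁻¹ ∉ H → ∑ i : PB M G, (i.1 : G → ℂ) (x ^ (u : ZMod p).val) *
        (starRingEnd ℂ) ((i.1 : G → ℂ) (x ^ (v : ZMod p).val)) = 0) := by
  have hzu : x ^ (u : ZMod p).val ∈ (P : Subgroup G) := pow_mem hx _
  have hzu1 := e2_pow_ne_one p P hP x hx hx1 u
  have hzv : x ^ (v : ZMod p).val ∈ (P : Subgroup G) := pow_mem hx _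
  have hzv1 := e2_pow_ne_one p P hP x hx hx1 v
  have hcore := e2_core p M P hin hout (x ^ (u : ZMod p).val) hzu hzu1 (x ^ (v : ZMod p).val)
  have hK := e2_card_ne_zero p P
  -- only `y = 1` contributes
  have hsum : ∑ y : G, Set.indicator
        {y : G | y ∈ Subgroup.centralizer ((P : Subgroup G) : Set G) ∧ ¬ p ∣ orderOf y}
        (fun y => if IsConj (x ^ (u : ZMod p).val * y) (x ^ (v : ZMod p).val) then
          (Nat.card (Subgroup.centralizer ({x ^ (u : ZMod p).val * y} : Set G)) : ℂ) else 0) y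
      = if IsConj (x ^ (u : ZMod p).val) (x ^ (v : ZMod p).val) then
          (Nat.card {c : G // c ∈ Subgroup.centralizer ((P : Subgroup G) : Set G) ∧
            ¬ p ∣ orderOf c} : ℂ) * (p : ℂ) else 0 := by
    rw [Finset.sum_eq_single (1 : G)]
    · have h1 : (1 : G) ∈
          {y : G | y ∈ Subgroup.centralizer ((P : Subgroup G) : Set G) ∧ ¬ p ∣ orderOf y} := by
        refine ⟨Subgroup.one_mem _, ?_⟩
        rw [orderOf_one]
        exact (Fact.out : p.Prime).one_lt.ne' ∘ Nat.dvd_one.mp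
      rw [Set.indicator_of_mem h1]
      simp only [mul_one]
      rw [e2_card_centralizer p P hP _ hzu hzu1, hcard]
      push_cast
      rw [mul_comm]
    · intro y _ hy1
      by_cases hy : y ∈
          {y : G | y ∈ Subgroup.centralizer ((P : Subgroup G) : Set G) ∧ ¬ p ∣ orderOf y}
      · rw [Set.indicator_of_mem hy]
        have hnc : ¬ IsConj (x ^ (u : ZMod p).val * y) (x ^ (v : ZMod p).val) := by
          intro hc
          have ho := e2_isConj_orderOf hc
          rw [e2_orderOf_mul p P hP _ hzu hzu1 y hy.1 hy.2, e2_orderOf p P hP _ hzv hzv1] at ho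
          have hp0 : 0 < p := (Fact.out : p.Prime).pos
          have ho1 : orderOf y = 1 := by
            have : p * orderOf y = p * 1 := by rw [ho, mul_one]
            exact Nat.eq_of_mul_eq_mul_left hp0 this
          exact hy1 (orderOf_eq_one_iff.mp ho1)
        rw [if_neg hnc]
      · rw [Set.indicator_of_notMem hy]
    · intro h1
      exact absurd (Finset.mem_univ _) h1
  rw [hsum] at hcore
  have hiff := e2_isConj_iff p P hP x hx H hH u v
  constructor
  · intro hm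
    rw [if_pos (hiff.mpr hm)] at hcore
    exact mul_left_cancel₀ hK hcore
  · intro hm
    rw [if_neg (fun hc => hm (hiff.mp hc))] at hcore
    exact (mul_eq_zero.mp hcore).resolve_left hK

open Classical in
/-- PIECE E2b : block orthogonality between `P#` and `p`-regular elements. -/
theorem orth_regular {G : Type*} [Group G] [Fintype G] (p : ℕ) [Fact p.Prime]
    (M : Ideal AlgInt) (P : Sylow p G) (hP : Nat.card P = p)
    (x : G) (hx : x ∈ (P : Subgroup G)) (hx1 : x ≠ 1)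
    [Fintype (PB M G)]
    (hin : ∀ χ : IrrCharacter G, χ ∈ principalBlock M G → ∀ z ∈ (P : Subgroup G), z ≠ 1 →
      ∀ y ∈ Subgroup.centralizer ((P : Subgroup G) : Set G), ¬ p ∣ orderOf y →
        (χ : G → ℂ) (z * y) = (χ : G → ℂ) z)
    (hout : ∀ χ : IrrCharacter G, χ ∉ principalBlock M G → ∀ z ∈ (P : Subgroup G), z ≠ 1 →
      ∑ y : G, Set.indicator
        {y : G | y ∈ Subgroup.centralizer ((P : Subgroup G) : Set G) ∧ ¬ p ∣ orderOf y}
        (fun y => (χ : G → ℂ) (z * y)) y = 0)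
    (u : (ZMod p)ˣ) (g : G) (hg : ¬ p ∣ orderOf g) :
    ∑ i : PB M G, (i.1 : G → ℂ) (x ^ (u : ZMod p).val) *
        (starRingEnd ℂ) ((i.1 : G → ℂ) g) = 0 := by
  have hzu : x ^ (u : ZMod p).val ∈ (P : Subgroup G) := pow_mem hx _
  have hzu1 := e2_pow_ne_one p P hP x hx hx1 u
  have hcore := e2_core p M P hin hout (x ^ (u : ZMod p).val) hzu hzu1 g
  have hK := e2_card_ne_zero p P
  have hsum : ∑ y : G, Set.indicator
        {y : G | y ∈ Subgroup.centralizer ((P : Subgroup G) : Set G) ∧ ¬ p ∣ orderOf y}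
        (fun y => if IsConj (x ^ (u : ZMod p).val * y) g then
          (Nat.card (Subgroup.centralizer ({x ^ (u : ZMod p).val * y} : Set G)) : ℂ) else 0) y
      = 0 := by
    apply Finset.sum_eq_zero
    intro y _
    by_cases hy : y ∈
        {y : G | y ∈ Subgroup.centralizer ((P : Subgroup G) : Set G) ∧ ¬ p ∣ orderOf y}
    · rw [Set.indicator_of_mem hy]
      have hnc : ¬ IsConj (x ^ (u : ZMod p).val * y) g := by
        intro hc
        have ho := e2_isConj_orderOf hc
        rw [e2_orderOf_mul p P hP _ hzu hzu1 y hy.1 hy.2] at ho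
        exact hg (ho ▸ Dvd.intro _ rfl)
      rw [if_neg hnc]
    · rw [Set.indicator_of_notMem hy]
  rw [hsum] at hcore
  exact (mul_eq_zero.mp hcore).resolve_left hK

end

end Cfsg.Agent.Lib.helper22.D1E

section Check
open Cfsg Cfsg.Agent.Lib.helper84 Cfsg.Agent.Lib.helper20.D1E

example {G : Type*} [Group G] [Fintype G] (p : ℕ) [Fact p.Prime]
    (M : Ideal AlgInt) (P : Sylow p G) (hP : Nat.card P = p)
    (x : G) (hx : x ∈ (P : Subgroup G)) (hx1 : x ≠ 1)
    (H : Subgroup (ZMod p)ˣ)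
    (hH : ∀ r : (ZMod p)ˣ, r ∈ H ↔ ∃ n : G, n * x * n⁻¹ = x ^ ((r : ZMod p).val))
    [Fintype (PB M G)]
    (hin : ∀ χ : IrrCharacter G, χ ∈ principalBlock M G → ∀ z ∈ (P : Subgroup G), z ≠ 1 →
      ∀ y ∈ Subgroup.centralizer ((P : Subgroup G) : Set G), ¬ p ∣ orderOf y →
        (χ : G → ℂ) (z * y) = (χ : G → ℂ) z)
    (hout : ∀ χ : IrrCharacter G, χ ∉ principalBlock M G → ∀ z ∈ (P : Subgroup G), z ≠ 1 →
      ∑ y : G, Set.indicator
        {y : G | y ∈ Subgroup.centralizer ((P : Subgroup G) : Set G) ∧ ¬ p ∣ orderOf y}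
        (fun y => (χ : G → ℂ) (z * y)) y = 0)
    (hcard : Nat.card (Subgroup.centralizer ((P : Subgroup G) : Set G)) =
      p * Nat.card {c : G // c ∈ Subgroup.centralizer ((P : Subgroup G) : Set G) ∧
        ¬ p ∣ orderOf c})
    (u v : (ZMod p)ˣ) :
    (u * v⁻¹ ∈ H → ∑ i : PB M G, (i.1 : G → ℂ) (x ^ (u : ZMod p).val) *
        (starRingEnd ℂ) ((i.1 : G → ℂ) (x ^ (v : ZMod p).val)) = (p : ℂ)) ∧
    (u * v⁻¹ ∉ H → ∑ i : PB M G, (i.1 : G → ℂ) (x ^ (u : ZMod p).val) *
        (starRingEnd ℂ) ((i.1 : G → ℂ) (x ^ (v : ZMod p).val)) = 0) :=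
  Cfsg.Agent.Lib.helper22.D1E.orth_singular p M P hP x hx hx1 H hH hin hout hcard u v

example {G : Type*} [Group G] [Fintype G] (p : ℕ) [Fact p.Prime]
    (M : Ideal AlgInt) (P : Sylow p G) (hP : Nat.card P = p)
    (x : G) (hx : x ∈ (P : Subgroup G)) (hx1 : x ≠ 1)
    [Fintype (PB M G)]
    (hin : ∀ χ : IrrCharacter G, χ ∈ principalBlock M G → ∀ z ∈ (P : Subgroup G), z ≠ 1 →
      ∀ y ∈ Subgroup.centralizer ((P : Subgroup G) : Set G), ¬ p ∣ orderOf y →
        (χ : G → ℂ) (z * y) = (χ : G → ℂ) z)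
    (hout : ∀ χ : IrrCharacter G, χ ∉ principalBlock M G → ∀ z ∈ (P : Subgroup G), z ≠ 1 →
      ∑ y : G, Set.indicator
        {y : G | y ∈ Subgroup.centralizer ((P : Subgroup G) : Set G) ∧ ¬ p ∣ orderOf y}
        (fun y => (χ : G → ℂ) (z * y)) y = 0)
    (u : (ZMod p)ˣ) (g : G) (hg : ¬ p ∣ orderOf g) :
    ∑ i : PB M G, (i.1 : G → ℂ) (x ^ (u : ZMod p).val) *
        (starRingEnd ℂ) ((i.1 : G → ℂ) g) = 0 :=
  Cfsg.Agent.Lib.helper22.D1E.orth_regular p M P hP x hx hx1 hin hout u g hg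
end Check
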