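import Cfsg.Agent.Lib.helper20.D1EDefs
import Cfsg.Agent.Lib.helper79.GaloisChar

/-!
# SP-E piece GAL of the defect-one project (S4441 / S0960): Galois action on rows
-/

set_option autoImplicit false

namespace Cfsg.Agent.Lib.helper22.D1E

open Cfsg Cfsg.Agent.Lib.helper84 Cfsg.Agent.Lib.helper20.D1E

theorem zeta_pow_self (p : ℕ) [Fact p.Prime] : zeta p ^ p = 1 := by
  have h := Complex.isPrimitiveRoot_exp p (Fact.out : p.Prime).ne_zero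
  exact h.pow_eq_one

theorem zeta_pow_val_mul (p : ℕ) [Fact p.Prime] (a b : ZMod p) :
    zeta p ^ (a * b).val = (zeta p ^ a.val) ^ b.val := by
  rw [← pow_mul, ZMod.val_mul, ← pow_eq_pow_mod _ (zeta_pow_self p)]

/-- PIECE GAL1 : rows of a Galois conjugate (hypotheses `hint`, `hinv` = R0a, R1a for `χ`). -/
theorem galois_row {G : Type*} [Group G] [Fintype G] (p : ℕ) [Fact p.Prime]
    (x : G) (hxp : x ^ p = 1) (τ : ℂ ≃+* ℂ) (c : (ZMod p)ˣ)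
    (hτ : τ (zeta p) = zeta p ^ ((c : ZMod p).val)) (χ ψ : G → ℂ)
    (hψ : ψ = fun g => τ (χ g))
    (hint : ∀ b : (ZMod p)ˣ, rowC p x χ b = (rowZ p x χ b : ℂ))
    (b : (ZMod p)ˣ) :
    rowC p x ψ (b * c) = rowC p x χ b := by
  have h1 : rowC p x ψ (b * c) = τ (rowC p x χ b) := by
    unfold rowC
    rw [map_mul, map_inv₀, map_natCast, map_sum]
    congr 1
    refine Finset.sum_congr rfl (fun u _ => ?_)
    rw [map_mul, map_sub, map_inv₀, map_pow, map_one, hτ, hψ]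
    congr 3
    have h2 : ((b * c * u : (ZMod p)ˣ) : ZMod p) = (c : ZMod p) * ((b * u : (ZMod p)ˣ) : ZMod p) := by
      push_cast
      ring
    rw [h2, zeta_pow_val_mul]
  rw [h1, hint b, map_intCast]

/-- PIECE GAL2. -/
theorem exists_galois (p : ℕ) [Fact p.Prime] (c : (ZMod p)ˣ) :
    ∃ τ : ℂ ≃+* ℂ, τ (zeta p) = zeta p ^ ((c : ZMod p).val) := by
  obtain ⟨τ, hτ⟩ := Cfsg.Agent.Lib.helper79.exists_ringEquiv_complex_pow p
    (Fact.out : p.Prime).pos ((c : ZMod p).val) (ZMod.val_coe_unit_coprime c)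
  exact ⟨τ, hτ _ (zeta_pow_self p)⟩

/-- PIECE GAL3. -/
theorem exists_unit_of_aut (p : ℕ) [Fact p.Prime] (τ : ℂ ≃+* ℂ) :
    ∃ c : (ZMod p)ˣ, τ (zeta p) = zeta p ^ ((c : ZMod p).val) := by
  obtain ⟨m, hm, hτ⟩ := Cfsg.Agent.Lib.helper79.exists_pow_of_ringHom_rootsOfUnity
    (τ : ℂ →+* ℂ) p (Fact.out : p.Prime).pos
  refine ⟨ZMod.unitOfCoprime m hm, ?_⟩
  have h := hτ _ (zeta_pow_self p)
  rw [ZMod.coe_unitOfCoprime, ZMod.val_natCast, ← pow_eq_pow_mod _ (zeta_pow_self p)]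
  exact h

end Cfsg.Agent.Lib.helper22.D1E

section Check
open Cfsg Cfsg.Agent.Lib.helper84 Cfsg.Agent.Lib.helper20.D1E

example {G : Type*} [Group G] [Fintype G] (p : ℕ) [Fact p.Prime]
    (x : G) (hxp : x ^ p = 1) (τ : ℂ ≃+* ℂ) (c : (ZMod p)ˣ)
    (hτ : τ (zeta p) = zeta p ^ ((c : ZMod p).val)) (χ ψ : G → ℂ)
    (hψ : ψ = fun g => τ (χ g))
    (hint : ∀ b : (ZMod p)ˣ, rowC p x χ b = (rowZ p x χ b : ℂ))
    (b : (ZMod p)ˣ) :
    rowC p x ψ (b * c) = rowC p x χ b :=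
  Cfsg.Agent.Lib.helper22.D1E.galois_row p x hxp τ c hτ χ ψ hψ hint b

example (p : ℕ) [Fact p.Prime] (c : (ZMod p)ˣ) :
    ∃ τ : ℂ ≃+* ℂ, τ (zeta p) = zeta p ^ ((c : ZMod p).val) :=
  Cfsg.Agent.Lib.helper22.D1E.exists_galois p c

example (p : ℕ) [Fact p.Prime] (τ : ℂ ≃+* ℂ) :
    ∃ c : (ZMod p)ˣ, τ (zeta p) = zeta p ^ ((c : ZMod p).val) :=
  Cfsg.Agent.Lib.helper22.D1E.exists_unit_of_aut p τ
end Check
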