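import Cfsg.Agent.Lib.helper42.FGDefs

/-!
S1915 piece C1 (`inf_eq_bot`), architect helper42.
-/

set_option autoImplicit false

open scoped Pointwise

namespace Cfsg.Agent.Lib.helper42.FG

/-- The closure of two commuting involutions is elementary abelian. -/
theorem h22_el_closure_pair {G : Type*} [Group G] (u z : G) (hu : u * u = 1) (hz : z * z = 1)
    (huz : u * z = z * u) : El (Subgroup.closure ({u, z} : Set G)) := by
  have hc1 : ∀ x ∈ Subgroup.closure ({u, z} : Set G), Commute x u ∧ Commute x z := by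
    intro x hx
    induction hx using Subgroup.closure_induction with
    | mem y hy =>
      rcases hy with rfl | rfl
      · exact ⟨Commute.refl _, huz⟩
      · exact ⟨(show Commute u y from huz).symm, Commute.refl _⟩
    | one => exact ⟨Commute.one_left _, Commute.one_left _⟩
    | mul x y _ _ hx hy => exact ⟨hx.1.mul_left hy.1, hx.2.mul_left hy.2⟩
    | inv x _ hx => exact ⟨hx.1.inv_left, hx.2.inv_left⟩
  have hc2 : ∀ x ∈ Subgroup.closure ({u, z} : Set G),
      ∀ y ∈ Subgroup.closure ({u, z} : Set G), Commute y x := by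
    intro x hx
    induction hx using Subgroup.closure_induction with
    | mem w hw =>
      intro y hy
      rcases hw with rfl | rfl
      · exact (hc1 y hy).1
      · exact (hc1 y hy).2
    | one => intro y _; exact Commute.one_right _
    | mul a b _ _ ha hb => intro y hy; exact (ha y hy).mul_right (hb y hy)
    | inv a _ ha => intro y hy; exact (ha y hy).inv_right
  refine ⟨fun x hx y hy => (hc2 y hy x hx).eq, ?_⟩
  intro x hx
  induction hx using Subgroup.closure_induction with
  | mem w hw =>
    rcases hw with rfl | rfl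
    · rw [pow_two, hu]
    · rw [pow_two, hz]
  | one => exact one_pow _
  | mul a b ha hb iha ihb => rw [(hc2 b hb a ha).mul_pow, iha, ihb, one_mul]
  | inv a _ iha => rw [inv_pow, iha, inv_one]

variable {G : Type*} [Group G] [Finite G]

/-- C1 -/
theorem inf_eq_bot (A U : Subgroup G) (hU : IsKleinFour U)
    (hb : ∀ u ∈ U, u ≠ 1 → ∀ E : Subgroup G, E ≤ A → (∀ e ∈ E, u * e = e * u) → El E → Nat.card E ≤ 2)
    (hc : ∃ E : Subgroup G, E ≤ A ∧ El E ∧ 2 < Nat.card E) : U ⊓ A = ⊥ := by
  rw [eq_bot_iff]
  intro u hu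
  rw [Subgroup.mem_bot]
  by_contra hu1
  obtain ⟨huU, huA⟩ := hu
  have hu2 : u * u = 1 := by
    have h := Monoid.pow_exponent_eq_one (⟨u, huU⟩ : U)
    rw [hU.exponent_two] at h
    have h' := congrArg Subtype.val h
    simpa [pow_two] using h'
  obtain ⟨E, hEA, hE, hEc⟩ := hc
  haveI : Fact (Nat.Prime 2) := ⟨Nat.prime_two⟩
  have hu'1 : (⟨u, huA⟩ : A) ≠ 1 := by
    intro h
    exact hu1 (congrArg Subtype.val h)
  have hu'2 : (⟨u, huA⟩ : A) ^ 2 = 1 := by
    apply Subtype.ext
    simp [pow_two, hu2]
  have hzp : IsPGroup 2 (Subgroup.zpowers (⟨u, huA⟩ : A)) := by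
    apply IsPGroup.of_card (n := 1)
    rw [Nat.card_zpowers, pow_one]
    exact orderOf_eq_prime hu'2 hu'1
  obtain ⟨P, hP⟩ := hzp.exists_le_sylow
  have hE' : IsPGroup 2 (E.subgroupOf A) := by
    intro x
    refine ⟨1, ?_⟩
    apply Subtype.ext
    apply Subtype.ext
    have := hE.2 (x : A) (Subgroup.mem_subgroupOf.mp x.2)
    simpa using this
  obtain ⟨Q, hQ⟩ := hE'.exists_le_sylow
  obtain ⟨g, hg⟩ := MulAction.exists_smul_eq A Q P
  have huP : (⟨u, huA⟩ : A) ∈ (P : Subgroup A) := hP (Subgroup.mem_zpowers _)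
  haveI : Nontrivial (P : Subgroup A) :=
    ⟨⟨⟨⟨u, huA⟩, huP⟩, 1, fun h => hu'1 (congrArg Subtype.val h)⟩⟩
  have hcn : Nontrivial (Subgroup.center (P : Subgroup A)) := P.isPGroup'.center_nontrivial
  have hcp : IsPGroup 2 (Subgroup.center (P : Subgroup A)) := P.isPGroup'.to_subgroup _
  obtain ⟨n, hn⟩ := IsPGroup.iff_card.mp hcp
  have h2 : 2 ∣ Nat.card (Subgroup.center (P : Subgroup A)) := by
    rw [hn]
    cases n with
    | zero =>
      exfalso
      have := Finite.one_lt_card (α := Subgroup.center (P : Subgroup A))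
      rw [hn] at this
      simp at this
    | succ n => exact dvd_pow_self 2 (Nat.succ_ne_zero n)
  obtain ⟨z0, hz0⟩ := exists_prime_orderOf_dvd_card' 2 h2
  have hz01 : z0 ≠ 1 := by
    intro h
    rw [h, orderOf_one] at hz0
    omega
  have hz02 : z0 ^ 2 = 1 := by
    have := pow_orderOf_eq_one z0
    rwa [hz0] at this
  -- the element of `G`
  have hz1 : (((z0 : (P : Subgroup A)) : A) : G) ≠ 1 := by
    intro h
    apply hz01
    apply Subtype.ext
    apply Subtype.ext
    apply Subtype.ext
    simpa using h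
  have hz2 : (((z0 : (P : Subgroup A)) : A) : G) * (((z0 : (P : Subgroup A)) : A) : G) = 1 := by
    have := congrArg (fun x : Subgroup.center (P : Subgroup A) => (((x : (P : Subgroup A)) : A) : G)) hz02
    simpa [pow_two] using this
  have hzc : ∀ p : A, p ∈ (P : Subgroup A) →
      (p : G) * (((z0 : (P : Subgroup A)) : A) : G) = (((z0 : (P : Subgroup A)) : A) : G) * (p : G) := by
    intro p hp
    have := Subgroup.mem_center_iff.mp z0.2 ⟨p, hp⟩
    have := congrArg (fun x : (P : Subgroup A) => ((x : A) : G)) this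
    simpa using this
  have hzA : (((z0 : (P : Subgroup A)) : A) : G) ∈ A := ((z0 : (P : Subgroup A)) : A).2
  by_cases huz : u = (((z0 : (P : Subgroup A)) : A) : G)
  · -- `u` is central in `P`, which contains a conjugate of `E`
    have hE1 : ∀ e ∈ E, (g : G) * e * (g : G)⁻¹ ∈ A ∧
        ∀ h : (g : G) * e * (g : G)⁻¹ ∈ A, (⟨(g : G) * e * (g : G)⁻¹, h⟩ : A) ∈ (P : Subgroup A) := by
      intro e he
      have heQ : (⟨e, hEA he⟩ : A) ∈ (Q : Subgroup A) := hQ (Subgroup.mem_subgroupOf.mpr he)
      have h1 : MulAut.conj g • (⟨e, hEA he⟩ : A) ∈ MulAut.conj g • (Q : Subgroup A) :=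
        Subgroup.smul_mem_pointwise_smul _ _ _ heQ
      rw [← Sylow.coe_subgroup_smul, hg] at h1
      have h2 : (g : G) * e * (g : G)⁻¹ ∈ A := A.mul_mem (A.mul_mem g.2 (hEA he)) (A.inv_mem g.2)
      refine ⟨h2, fun h => ?_⟩
      have h3 : (⟨(g : G) * e * (g : G)⁻¹, h⟩ : A) = MulAut.conj g • (⟨e, hEA he⟩ : A) := by
        apply Subtype.ext
        simp [MulAut.smul_def]
      rw [h3]
      exact h1
    have hcard : Nat.card (E.map (MulAut.conj (g : G)).toMonoidHom) = Nat.card E :=
      Subgroup.card_map_of_injective (MulAut.conj (g : G)).injective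
    have hle := hb u huU hu1 (E.map (MulAut.conj (g : G)).toMonoidHom) (by
        rintro x ⟨e, he, rfl⟩
        simpa using (hE1 e he).1) (by
        rintro x ⟨e, he, rfl⟩
        have h1 := (hE1 e he).1
        have h2 := (hE1 e he).2 h1
        have h3 := hzc _ h2
        rw [← huz] at h3
        simpa using h3.symm) (by
        refine ⟨?_, ?_⟩
        · rintro x ⟨e, he, rfl⟩ y ⟨f, hf, rfl⟩
          have := hE.1 e he f hf
          simp only [MulEquiv.coe_toMonoidHom, MulAut.conj_apply]
          calc (g : G) * e * (g : G)⁻¹ * ((g : G) * f * (g : G)⁻¹)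
              = (g : G) * (e * f) * (g : G)⁻¹ := by group
            _ = (g : G) * (f * e) * (g : G)⁻¹ := by rw [this]
            _ = (g : G) * f * (g : G)⁻¹ * ((g : G) * e * (g : G)⁻¹) := by group
        · rintro x ⟨e, he, rfl⟩
          have := hE.2 e he
          simp only [MulEquiv.coe_toMonoidHom, MulAut.conj_apply]
          rw [pow_two] at this ⊢
          calc (g : G) * e * (g : G)⁻¹ * ((g : G) * e * (g : G)⁻¹)
              = (g : G) * (e * e) * (g : G)⁻¹ := by group
            _ = 1 := by rw [this]; group)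
    omega
  · -- `closure {u, z}` has more than two elements and is centralized by `u`
    have hcomm : u * (((z0 : (P : Subgroup A)) : A) : G) = (((z0 : (P : Subgroup A)) : A) : G) * u :=
      hzc ⟨u, huA⟩ huP
    have hEl := h22_el_closure_pair u _ hu2 hz2 hcomm
    have huF : u ∈ Subgroup.closure ({u, (((z0 : (P : Subgroup A)) : A) : G)} : Set G) :=
      Subgroup.subset_closure (Set.mem_insert _ _)
    have hzF : (((z0 : (P : Subgroup A)) : A) : G) ∈
        Subgroup.closure ({u, (((z0 : (P : Subgroup A)) : A) : G)} : Set G) :=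
      Subgroup.subset_closure (Set.mem_insert_of_mem _ rfl)
    have hle := hb u huU hu1 (Subgroup.closure ({u, (((z0 : (P : Subgroup A)) : A) : G)} : Set G))
      ((Subgroup.closure_le A).mpr (by
        intro x hx
        rcases hx with rfl | rfl
        · exact huA
        · exact hzA))
      (fun e he => hEl.1 u huF e he) hEl
    have h3 : ({1, u, (((z0 : (P : Subgroup A)) : A) : G)} : Set G).ncard = 3 := by
      rw [Set.ncard_eq_three]
      exact ⟨1, u, _, fun h => hu1 h.symm, fun h => hz1 h.symm, huz, rfl⟩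
    have hsub : ({1, u, (((z0 : (P : Subgroup A)) : A) : G)} : Set G) ⊆
        ((Subgroup.closure ({u, (((z0 : (P : Subgroup A)) : A) : G)} : Set G) : Subgroup G) : Set G) := by
      intro x hx
      rcases hx with rfl | rfl | rfl
      · exact Subgroup.one_mem _
      · exact huF
      · exact hzF
    have h4 := Set.ncard_le_ncard hsub (Set.toFinite _)
    rw [h3] at h4
    have h5 : Nat.card (Subgroup.closure ({u, (((z0 : (P : Subgroup A)) : A) : G)} : Set G)) =
        ((Subgroup.closure ({u, (((z0 : (P : Subgroup A)) : A) : G)} : Set G) : Subgroup G) : Set G).ncard :=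
      (Nat.card_coe_set_eq _)
    omega

end Cfsg.Agent.Lib.helper42.FG
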