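import Cfsg.Agent.Lib.helper42.FGDefs
import Cfsg.Agent.Lib.helper17.FGAUT
import Cfsg.Agent.Lib.helper73.FGK1C

/-!
S1915 piece T2C4 (`case_faithful_k2`), racer copy by helper22 (architect helper42).
Counting route: `ψ y = y (σ y)⁻¹` and `N y = y (σ y)` for `σ` = conjugation by `s` on `B`.
-/

set_option autoImplicit false

namespace Cfsg.Agent.Lib.helper42.FG

/-- Counting lemma: in a finite commutative group with an involutory endomorphism `σ` having
at most two fixed points and `b * σ b ≠ 1` for some `b`, every `β` with `β * σ β = 1` is of the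
form `y * (σ y)⁻¹`. -/
theorem h22_count {H : Type*} [Group H] [Finite H] (hcomm : ∀ x y : H, x * y = y * x)
    (σ : H →* H) (z : H) (hker : ∀ y : H, σ y = y → y = 1 ∨ y = z) (hσ2 : ∀ y, σ (σ y) = y)
    (b : H) (hb : b * σ b ≠ 1) (β : H) (hβ : β * σ β = 1) : ∃ y : H, y * (σ y)⁻¹ = β := by
  let ψ : H →* H := MonoidHom.mk' (fun y => y * (σ y)⁻¹) (by
    intro x y
    show x * y * (σ (x * y))⁻¹ = x * (σ x)⁻¹ * (y * (σ y)⁻¹)
    rw [map_mul, mul_inv_rev, mul_assoc, mul_assoc]
    congr 1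
    rw [hcomm (σ x)⁻¹ (y * (σ y)⁻¹), mul_assoc])
  let N : H →* H := MonoidHom.mk' (fun y => y * σ y) (by
    intro x y
    show x * y * σ (x * y) = x * σ x * (y * σ y)
    rw [map_mul, mul_assoc, mul_assoc]
    congr 1
    rw [← mul_assoc, ← mul_assoc, hcomm y (σ x)])
  have hψ : ∀ y, ψ y = y * (σ y)⁻¹ := fun y => rfl
  have hN : ∀ y, N y = y * σ y := fun y => rfl
  have hle : ψ.range ≤ N.ker := by
    rintro _ ⟨y, rfl⟩
    rw [MonoidHom.mem_ker, hN, hψ, map_mul, map_inv, hσ2]
    group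
  have hk2 : Nat.card ψ.ker ≤ 2 := by
    have hsub : (ψ.ker : Set H) ⊆ {1, z} := by
      intro y hy
      have hy' : y * (σ y)⁻¹ = 1 := hy
      have h1 : σ y = y := (mul_inv_eq_one.mp hy').symm
      rcases hker y h1 with h | h
      · exact Or.inl h
      · exact Or.inr h
    have h1 := Set.ncard_le_ncard hsub (Set.toFinite _)
    have h2 : ({1, z} : Set H).ncard ≤ 2 :=
      (Set.ncard_insert_le 1 {z}).trans (by rw [Set.ncard_singleton])
    have h3 : Nat.card ψ.ker = (ψ.ker : Set H).ncard := (Nat.card_coe_set_eq _)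
    omega
  have hNtop : N.ker ≠ ⊤ := by
    intro h
    have h1 : b ∈ N.ker := h ▸ Subgroup.mem_top b
    exact hb h1
  have hidx : 2 ≤ N.ker.index := by
    have h0 : N.ker.index ≠ 0 := Subgroup.index_ne_zero_of_finite
    have h1 : N.ker.index ≠ 1 := fun h => hNtop (Subgroup.index_eq_one.mp h)
    omega
  have hc1 : Nat.card ψ.ker * Nat.card ψ.range = Nat.card H := by
    rw [← Subgroup.index_ker]
    exact Subgroup.card_mul_index _
  have hc2 : Nat.card N.ker * N.ker.index = Nat.card H := Subgroup.card_mul_index _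
  have hcard : Nat.card N.ker ≤ Nat.card ψ.range := by
    have h1 : Nat.card N.ker * 2 ≤ Nat.card N.ker * N.ker.index := Nat.mul_le_mul_left _ hidx
    have h2 : Nat.card ψ.ker * Nat.card ψ.range ≤ 2 * Nat.card ψ.range :=
      Nat.mul_le_mul_right _ hk2
    omega
  have heq : ψ.range = N.ker := Subgroup.eq_of_le_of_card_ge hle hcard
  have hβ' : β ∈ N.ker := hβ
  rw [← heq] at hβ'
  obtain ⟨y, hy⟩ := hβ'
  exact ⟨y, hy⟩

variable {G : Type*} [Group G] [Finite G]

theorem h22_idx2 {S B : Subgroup G} (hidx : B.relIndex S = 2) {y s : G} (hy : y ∈ S) (hs : s ∈ S) :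
    y * s ∈ B ↔ (y ∈ B ↔ s ∈ B) := by
  have := Subgroup.mul_mem_iff_of_index_two (H := B.subgroupOf S) hidx (a := ⟨y, hy⟩) (b := ⟨s, hs⟩)
  simpa [Subgroup.mem_subgroupOf] using this

theorem h22_central_of {S B : Subgroup G} (hidx : B.relIndex S = 2) {s : G} (hsS : s ∈ S)
    (hsB : s ∉ B) (y : G) (hyB : ∀ x ∈ B, y * x = x * y) (hys : y * s = s * y) :
    ∀ w ∈ S, y * w = w * y := by
  intro w hw
  by_cases hwB : w ∈ B
  · exact hyB w hwB
  · have h1 : w * s ∈ B :=
      (h22_idx2 hidx hw hsS).mpr ⟨fun h => absurd h hwB, fun h => absurd h hsB⟩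
    have h2 := hyB _ h1
    have h3 : y * w * s = w * y * s := by
      calc y * w * s = y * (w * s) := mul_assoc _ _ _
        _ = w * s * y := h2
        _ = w * (s * y) := mul_assoc _ _ _
        _ = w * (y * s) := by rw [hys]
        _ = w * y * s := (mul_assoc _ _ _).symm
    exact mul_right_cancel h3

/-- T2C4 (racer copy) -/
theorem h22_case_faithful_k2 {A S U : Subgroup G} (h : Cfg A S U) {B : Subgroup G} (hB : BData S U B)
    {z : G} (hzB : z ∈ B) (hz : ZData S z) (b : G) (hb : Subgroup.zpowers b = B) (hbz : b * b ≠ z)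
    (u₀ : G) (hu₀ : u₀ ∈ U) (hu₀b : u₀ * b * u₀⁻¹ = b * z)
    (hu₀s : ∀ s ∈ S, s ∉ B → s ^ 2 = 1 → u₀ * s * u₀⁻¹ = s * z)
    (u₁ : G) (hu₁ : u₁ ∈ U) (hu₁b : u₁ * b * u₁⁻¹ = b⁻¹ * z) : Inner S U := by
  have hbB : b ∈ B := hb ▸ Subgroup.mem_zpowers b
  have hbS : b ∈ S := hB.hBS hbB
  have hz1 : z ≠ 1 := by
    intro h0
    have := hz.hz2
    rw [h0, orderOf_one] at this
    omega
  have hzz : z * z = 1 := by
    have := pow_orderOf_eq_one z
    rw [hz.hz2, pow_two] at this
    exact this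
  have hBc : ∀ x ∈ B, ∀ y ∈ B, x * y = y * x := by
    intro x hx y hy
    rw [← hb] at hx hy
    obtain ⟨i, rfl⟩ := Subgroup.mem_zpowers_iff.mp hx
    obtain ⟨j, rfl⟩ := Subgroup.mem_zpowers_iff.mp hy
    exact (Commute.zpow_zpow_self b i j).eq
  -- an involution outside `B`
  obtain ⟨s, hsS, hsB, hs2⟩ : ∃ s ∈ S, s ∉ B ∧ s * s = 1 := by
    obtain ⟨E, hES, hE, hEc⟩ := h.hc
    by_contra hcon
    have hsub : (E : Set G) ⊆ {1, z} := by
      intro e he
      have he2 : e ^ 2 = 1 := hE.2 e he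
      by_cases heB : e ∈ B
      · rcases k1_of_cyclic hB hzB hz e heB he2 with h1 | h1
        · exact Or.inl h1
        · exact Or.inr h1
      · exact absurd ⟨e, hES he, heB, by rw [← pow_two]; exact he2⟩ hcon
    have h1 := Set.ncard_le_ncard hsub (Set.toFinite _)
    have h2 : ({1, z} : Set G).ncard ≤ 2 :=
      (Set.ncard_insert_le 1 {z}).trans (by rw [Set.ncard_singleton])
    have h3 : Nat.card E = (E : Set G).ncard := (Nat.card_coe_set_eq _)
    omega
  have hsinv : s⁻¹ = s := inv_eq_of_mul_eq_one_left hs2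
  have hSN : ∀ t ∈ S, ∀ y ∈ B, t * y * t⁻¹ ∈ B := by
    intro t ht y hy
    exact (Subgroup.mem_normalizer_iff.mp (hB.hSB ht) y).mp hy
  have hUNB : ∀ t ∈ U, ∀ y, y ∈ B ↔ t * y * t⁻¹ ∈ B :=
    fun t ht y => Subgroup.mem_normalizer_iff.mp (hB.hUB ht) y
  have hUNS : ∀ t ∈ U, ∀ y, y ∈ S ↔ t * y * t⁻¹ ∈ S :=
    fun t ht y => Subgroup.mem_normalizer_iff.mp (h.hUS ht) y
  have h2pow : ∃ n : ℕ, orderOf b = 2 ^ n := by
    have h1 : orderOf b ∣ Nat.card S := by
      have := orderOf_dvd_natCard (⟨b, hbS⟩ : S)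
      rwa [Subgroup.orderOf_mk] at this
    rw [h.hSyl] at h1
    obtain ⟨m, _, hm⟩ := (Nat.dvd_prime_pow Nat.prime_two).mp h1
    exact ⟨m, hm⟩
  have hzc : ∀ y ∈ S, y * z = z * y := hz.hzc
  -- `s b s⁻¹ = b⁻¹ z`
  have hsb : s * b * s⁻¹ = b⁻¹ * z := by
    have haut := aut_cyclic_two b z s h2pow (hb ▸ hzB) hz.hz2 (hb ▸ hSN s hsS b hbB)
      (by rw [hs2, one_mul, mul_one])
    rcases haut with h1 | h1 | h1 | h1
    · exfalso
      apply hsB
      apply hB.hself s hsS
      have hsbc : s * b = b * s := by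
        have := congrArg (· * s) h1
        simpa using this
      intro x hx
      rw [← hb] at hx
      obtain ⟨i, rfl⟩ := Subgroup.mem_zpowers_iff.mp hx
      exact ((show Commute s b from hsbc).zpow_right i).eq
    · exfalso
      have hbsS : b * s ∈ S := S.mul_mem hbS hsS
      have hbsB : b * s ∉ B := fun hh => hsB (((h22_idx2 hB.hidx hbS hsS).mp hh).mp hbB)
      have hbs2 : (b * s) ^ 2 = 1 := by
        rw [pow_two]
        calc b * s * (b * s) = b * (s * b * s⁻¹) * (s * s) := by group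
          _ = b * b⁻¹ * 1 := by rw [h1, hs2]
          _ = 1 := by group
      have e1 := hu₀s (b * s) hbsS hbsB hbs2
      have e2 := hu₀s s hsS hsB (by rw [pow_two]; exact hs2)
      have e3 : u₀ * (b * s) * u₀⁻¹ = (u₀ * b * u₀⁻¹) * (u₀ * s * u₀⁻¹) := by group
      rw [e3, hu₀b, e2] at e1
      have hsz := hzc s hsS
      have e4 : b * z * (s * z) = b * s := by
        calc b * z * (s * z) = b * (z * s) * z := by group
          _ = b * (s * z) * z := by rw [hsz]
          _ = b * s * (z * z) := by group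
          _ = b * s := by rw [hzz, mul_one]
      rw [e4] at e1
      exact hz1 (mul_left_cancel (e1.symm.trans (mul_one (b * s)).symm))
    · have hb2c : ∀ w ∈ S, (b * b) * w = w * (b * b) := by
        apply h22_central_of hB.hidx hsS hsB
        · intro x hx
          exact hBc _ (B.mul_mem hbB hbB) x hx
        · have hbz' := hzc b hbS
          have e : s * (b * b) * s⁻¹ = b * b := by
            calc s * (b * b) * s⁻¹ = (s * b * s⁻¹) * (s * b * s⁻¹) := by group
              _ = b * z * (b * z) := by rw [h1]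
              _ = b * (z * b) * z := by group
              _ = b * (b * z) * z := by rw [← hbz']
              _ = b * b * (z * z) := by group
              _ = b * b := by rw [hzz, mul_one]
          have := congrArg (· * s) e
          simpa using this.symm
      rcases hz.hzu (b * b) (S.mul_mem hbS hbS) hb2c with h3 | h3
      · have h4 : b⁻¹ = b := inv_eq_of_mul_eq_one_left h3
        rw [h4]
        exact h1
      · exact absurd h3 hbz
    · exact h1
  -- `u₁ ≠ 1`
  have hu₁1 : u₁ ≠ 1 := by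
    intro h1
    rw [h1] at hu₁b
    apply hbz
    have h2 : b = b⁻¹ * z := by simpa using hu₁b
    calc b * b = b * (b⁻¹ * z) := by rw [← h2]
      _ = z := by group
  -- conjugation by `s` on `B`
  let σ : B →* B := MonoidHom.mk' (fun y => ⟨s * y * s⁻¹, hSN s hsS y y.2⟩) (by
    intro x y
    apply Subtype.ext
    simp [mul_assoc])
  have hs'S : u₁ * s * u₁⁻¹ ∈ S := (hUNS u₁ hu₁ s).mp hsS
  have hs'B : u₁ * s * u₁⁻¹ ∉ B := fun hh => hsB ((hUNB u₁ hu₁ s).mpr hh)
  have hβB : u₁ * s * u₁⁻¹ * s ∈ B :=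
    (h22_idx2 hB.hidx hs'S hsS).mpr ⟨fun hh => absurd hh hs'B, fun hh => absurd hh hsB⟩
  obtain ⟨y, hy⟩ := h22_count (H := B) (fun x y => Subtype.ext (hBc x x.2 y y.2)) σ ⟨z, hzB⟩
    (by
      intro y hy
      have hy' : s * (y : G) * s⁻¹ = y := congrArg Subtype.val hy
      have hys : (y : G) * s = s * y := by
        have := congrArg (· * s) hy'
        simpa using this.symm
      rcases hz.hzu y (hB.hBS y.2)
        (h22_central_of hB.hidx hsS hsB y (fun x hx => hBc y y.2 x hx) hys) with h1 | h1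
      · exact Or.inl (Subtype.ext h1)
      · exact Or.inr (Subtype.ext h1))
    (by
      intro y
      apply Subtype.ext
      show s * (s * (y : G) * s⁻¹) * s⁻¹ = y
      rw [hsinv]
      calc s * (s * (y : G) * s) * s = (s * s) * y * (s * s) := by group
        _ = y := by rw [hs2, one_mul, mul_one])
    ⟨b, hbB⟩
    (by
      intro hh
      have hh' : b * (s * b * s⁻¹) = 1 := congrArg Subtype.val hh
      rw [hsb] at hh'
      apply hz1
      simpa using hh')
    ⟨u₁ * s * u₁⁻¹ * s, hβB⟩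
    (by
      apply Subtype.ext
      show u₁ * s * u₁⁻¹ * s * (s * (u₁ * s * u₁⁻¹ * s) * s⁻¹) = 1
      calc u₁ * s * u₁⁻¹ * s * (s * (u₁ * s * u₁⁻¹ * s) * s⁻¹)
          = u₁ * s * u₁⁻¹ * (s * s) * (u₁ * s * u₁⁻¹) := by group
        _ = u₁ * s * u₁⁻¹ * 1 * (u₁ * s * u₁⁻¹) := by rw [hs2]
        _ = u₁ * (s * s) * u₁⁻¹ := by group
        _ = 1 := by rw [hs2]; group)
  have hy' : (y : G) * (s * y * s⁻¹)⁻¹ = u₁ * s * u₁⁻¹ * s := congrArg Subtype.val hy
  have hys : (y : G) * s * (y : G)⁻¹ = u₁ * s * u₁⁻¹ := by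
    have e : (y : G) * (s * y * s⁻¹)⁻¹ = (y : G) * s * (y : G)⁻¹ * s⁻¹ := by group
    rw [e, hsinv] at hy'
    exact mul_right_cancel hy'
  refine ⟨u₁, hu₁, hu₁1, (y : G) * s, S.mul_mem (hB.hBS y.2) hsS, ?_⟩
  have hxs : u₁ * s * u₁⁻¹ = (y : G) * s * s * ((y : G) * s)⁻¹ := by
    rw [← hys]
    group
  have hxb : u₁ * b * u₁⁻¹ = (y : G) * s * b * ((y : G) * s)⁻¹ := by
    rw [hu₁b]
    have e : (y : G) * s * b * ((y : G) * s)⁻¹ = (y : G) * (s * b * s⁻¹) * (y : G)⁻¹ := by group
    rw [e, hsb]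
    have hc := hBc y y.2 (b⁻¹ * z) (B.mul_mem (B.inv_mem hbB) hzB)
    rw [hc]
    group
  have hK : ∀ w ∈ S, (MulAut.conj u₁) w = (MulAut.conj ((y : G) * s)) w := by
    let K : Subgroup G :=
      MonoidHom.eqLocus (MulAut.conj u₁).toMonoidHom (MulAut.conj ((y : G) * s)).toMonoidHom
    have hbK : b ∈ K := by
      show (MulAut.conj u₁) b = (MulAut.conj ((y : G) * s)) b
      rw [MulAut.conj_apply, MulAut.conj_apply]
      exact hxb
    have hsK : s ∈ K := by
      show (MulAut.conj u₁) s = (MulAut.conj ((y : G) * s)) s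
      rw [MulAut.conj_apply, MulAut.conj_apply]
      exact hxs
    have hBK : B ≤ K := by
      rw [← hb]
      exact (Subgroup.zpowers_le).mpr hbK
    intro w hw
    by_cases hwB : w ∈ B
    · exact hBK hwB
    · have h1 : w * s ∈ B :=
        (h22_idx2 hB.hidx hw hsS).mpr ⟨fun hh => absurd hh hwB, fun hh => absurd hh hsB⟩
      have h2 : w * s * s⁻¹ ∈ K := K.mul_mem (hBK h1) (K.inv_mem hsK)
      have h3 : w * s * s⁻¹ = w := by group
      rw [h3] at h2
      exact h2
  intro w hw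
  have := hK w hw
  rw [MulAut.conj_apply, MulAut.conj_apply] at this
  exact this

end Cfsg.Agent.Lib.helper42.FG
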