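import Mathlib
import Cfsg.Prelude.Def_Classical
import Cfsg.Prelude.Def_GeometricClasses
import Cfsg.Agent.Lib.helper63.Elusive1

/-!
S5977/S5978 block [B] (architect helper96), piece CYC (`fe_cyclic`): a `y`-invariant subspace of
dimension `ord_r(q)` without non-zero fixed vectors is `y`-cyclic.
-/

set_option autoImplicit false

namespace Cfsg.Agent.Lib.helper96.FE

open Polynomial

/-- CYC (M): a `y`-invariant subspace of dimension `ord_r(q)` without fixed vectors is `y`-cyclic. -/
theorem fe_cyclic {F : Type*} [Field F] [Fintype F] {V : Type*} [AddCommGroup V] [Module F V]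
    [FiniteDimensional F V] (r : ℕ) [Fact r.Prime] (y : Module.End F V) (hyr : y ^ r = 1)
    (W : Submodule F V) (hWy : ∀ w ∈ W, y w ∈ W) (hW1 : ∀ w ∈ W, y w = w → w = 0)
    (hdim : Module.finrank F W = orderOf ((Fintype.card F : ℕ) : ZMod r))
    (w : V) (hw : w ∈ W) (hw0 : w ≠ 0) (w' : V) (hw' : w' ∈ W) :
    ∃ g : F[X], w' = aeval y g w := by
  classical
  -- the cyclic submodule generated by `w`
  let φ : F[X] →ₗ[F] V :=
    { toFun := fun g => aeval y g w
      map_add' := by intro a b; simp
      map_smul' := by intro c a; simp }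
  have hφ : ∀ g, φ g = aeval y g w := fun g => rfl
  have hpow : ∀ n : ℕ, (y ^ n) w ∈ W := by
    intro n
    induction n with
    | zero => simpa using hw
    | succ n ih =>
      rw [pow_succ', Module.End.mul_apply]
      exact hWy _ ih
  have hUW : LinearMap.range φ ≤ W := by
    rintro _ ⟨g, rfl⟩
    rw [hφ]
    induction g using Polynomial.induction_on' with
    | add p q hp hq =>
      rw [map_add, LinearMap.add_apply]
      exact W.add_mem hp hq
    | monomial n a =>
      rw [← C_mul_X_pow_eq_monomial, map_mul, aeval_C, map_pow, aeval_X, Module.End.mul_apply,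
        Module.algebraMap_end_apply]
      exact W.smul_mem _ (hpow n)
  have hUy : ∀ u ∈ LinearMap.range φ, y u ∈ LinearMap.range φ := by
    rintro _ ⟨g, rfl⟩
    refine ⟨X * g, ?_⟩
    rw [hφ, hφ, map_mul, aeval_X, Module.End.mul_apply]
  have hwU : w ∈ LinearMap.range φ := ⟨1, by rw [hφ, map_one, Module.End.one_apply]⟩
  have hfin : Finite (LinearMap.range φ) := Module.finite_of_finite F
  have hfr : (y.restrict hUy) ^ r = 1 := by
    rw [Module.End.pow_restrict]
    ext u
    rw [LinearMap.restrict_apply]
    simp [hyr]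
  have hker : LinearMap.ker (y.restrict hUy - 1) = ⊥ := by
    rw [eq_bot_iff]
    intro u hu
    rw [LinearMap.mem_ker, LinearMap.sub_apply, sub_eq_zero] at hu
    have h1 : y (u : V) = u := congrArg Subtype.val hu
    have h2 : (u : V) = 0 := hW1 _ (hUW u.2) h1
    rw [Submodule.mem_bot]
    exact Subtype.ext h2
  have hcount := Cfsg.Agent.Lib.helper63.Elusive.fix_count r (y.restrict hUy) hfr
  rw [hker, finrank_bot, pow_zero] at hcount
  have hdvd : orderOf ((Fintype.card F : ℕ) : ZMod r) ∣ Module.finrank F (LinearMap.range φ) :=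
    orderOf_dvd_of_pow_eq_one hcount
  have hpos : 0 < Module.finrank F (LinearMap.range φ) :=
    Module.finrank_pos_iff_exists_ne_zero.mpr
      ⟨⟨w, hwU⟩, fun h => hw0 (congrArg Subtype.val h)⟩
  have hle : Module.finrank F (LinearMap.range φ) ≤ Module.finrank F W :=
    Submodule.finrank_mono hUW
  have heq : Module.finrank F (LinearMap.range φ) = Module.finrank F W := by
    have := Nat.le_of_dvd hpos hdvd
    omega
  have hUeq : LinearMap.range φ = W := Submodule.eq_of_le_of_finrank_eq hUW heq
  rw [← hUeq] at hw'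
  obtain ⟨g, hg⟩ := hw'
  exact ⟨g, hg.symm⟩

end Cfsg.Agent.Lib.helper96.FE
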