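import Mathlib
import Cfsg.Agent.Lib.helper3.GfDefs
import Cfsg.Agent.Lib.helper50.SymForm2

/-!
# S4395 piece FORMS (helper22, racer copy): invariant alternating forms on an irreducible module

Short route: no field structure.  A nonzero invariant alternating form is nondegenerate, so the
dimension is even.  For `q` odd the map `(β, β') ↦ β(v₀, ·) - β'(v₀, T⁻¹ ·)` into the dual space
is injective, which bounds the number of forms by the square root of `card V`.
-/

set_option autoImplicit false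
set_option linter.style.haveILetI false

namespace Cfsg.Agent.Lib.helper3.Gf

section Basic

variable {V : Type*} [AddCommGroup V] {p : ℕ} {T : V ≃+ V} {β : V → V → ZMod p}

theorem h22_inv_left (hβ : InvAlt p T β) (u x : V) : β (T u) x = β u (T.symm x) := by
  have h := hβ.2.2.2 u (T.symm x)
  rw [AddEquiv.apply_symm_apply] at h
  exact h

theorem h22_skew (hβ : InvAlt p T β) (u v : V) : β u v = - β v u := by
  have h := hβ.2.2.1 (u + v)
  rw [hβ.1, hβ.2.1, hβ.2.1, hβ.2.2.1 u, hβ.2.2.1 v] at h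
  linear_combination h

theorem h22_zero_right (hβ : InvAlt p T β) (u : V) : β u 0 = 0 := by
  have h := hβ.2.1 u 0 0
  rw [add_zero] at h
  exact left_eq_add.mp h

theorem h22_neg_right (hβ : InvAlt p T β) (u v : V) : β u (-v) = - β u v := by
  have h := hβ.2.1 u v (-v)
  rw [add_neg_cancel, h22_zero_right hβ] at h
  linear_combination (-1 : ZMod p) * h

theorem h22_sub_right (hβ : InvAlt p T β) (u v w : V) : β u (v - w) = β u v - β u w := by
  rw [sub_eq_add_neg, hβ.2.1, h22_neg_right hβ]
  ring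

theorem h22_invAlt_sub {β₁ β₂ : V → V → ZMod p} (h1 : InvAlt p T β₁) (h2 : InvAlt p T β₂) :
    InvAlt p T (fun u v => β₁ u v - β₂ u v) := by
  refine ⟨fun u u' v => ?_, fun u v v' => ?_, fun v => ?_, fun u v => ?_⟩
  · show β₁ (u + u') v - β₂ (u + u') v = β₁ u v - β₂ u v + (β₁ u' v - β₂ u' v)
    rw [h1.1, h2.1]
    ring
  · show β₁ u (v + v') - β₂ u (v + v') = β₁ u v - β₂ u v + (β₁ u v' - β₂ u v')
    rw [h1.2.1, h2.2.1]
    ring
  · show β₁ v v - β₂ v v = 0
    rw [h1.2.2.1, h2.2.2.1, sub_zero]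
  · show β₁ (T u) (T v) - β₂ (T u) (T v) = β₁ u v - β₂ u v
    rw [h1.2.2.2, h2.2.2.2]

/-- A form, additive on the left and compatible with `T`, that vanishes on one nonzero left
argument vanishes identically. -/
theorem h22_left_rad {q : ℕ} (h : Irr p q T) (δ : V → V → ZMod p)
    (hadd : ∀ u u' x, δ (u + u') x = δ u x + δ u' x)
    (hT : ∀ u x, δ (T u) x = δ u (T.symm x))
    (v0 : V) (hv0 : v0 ≠ 0) (h0 : ∀ x, δ v0 x = 0) : ∀ u x, δ u x = 0 := by
  have hz : ∀ x, δ 0 x = 0 := by
    intro x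
    have h1 := hadd 0 0 x
    rw [add_zero] at h1
    exact left_eq_add.mp h1
  have hneg : ∀ u x, δ (-u) x = - δ u x := by
    intro u x
    have h1 := hadd u (-u) x
    rw [add_neg_cancel, hz] at h1
    linear_combination (-1 : ZMod p) * h1
  obtain ⟨R, hR⟩ : ∃ R : AddSubgroup V, ∀ u, u ∈ R ↔ ∀ x, δ u x = 0 :=
    ⟨{ carrier := {u | ∀ x, δ u x = 0}
       add_mem' := fun {a b} ha hb x => by rw [hadd, ha x, hb x, add_zero]
       zero_mem' := hz
       neg_mem' := fun {a} ha x => by rw [hneg, ha x, neg_zero] }, fun u => Iff.rfl⟩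
  have hinv : ∀ w ∈ R, T w ∈ R := by
    intro w hw
    rw [hR] at hw ⊢
    intro x
    rw [hT]
    exact hw _
  rcases h.irr R hinv with hbot | htop
  · exfalso
    have : v0 ∈ R := (hR v0).2 h0
    rw [hbot, AddSubgroup.mem_bot] at this
    exact hv0 this
  · intro u
    have : u ∈ R := by rw [htop]; trivial
    exact (hR u).1 this

end Basic

section Core

variable {V : Type*} [AddCommGroup V] [Finite V] {p q : ℕ} {T : V ≃+ V}

omit [Finite V] in
theorem h22_iter_odd (hTT : ∀ y : V, T (T y) = y) (k : ℕ) (y : V) :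
    (⇑T)^[2 * k + 1] y = T y := by
  induction k with
  | zero => rfl
  | succ k ih =>
    have e : 2 * (k + 1) + 1 = (2 * k + 1) + 2 := by ring
    rw [e, Function.iterate_add_apply]
    have e2 : (⇑T)^[2] y = y := by
      show T (T y) = y
      exact hTT y
    rw [e2, ih]

/-- The key injectivity statement. -/
theorem h22_core [Fact q.Prime] (hq2 : q ≠ 2) (h : Irr p q T)
    {γ γ' : V → V → ZMod p} (hγ : InvAlt p T γ) (hγ' : InvAlt p T γ') (v0 : V) (hv0 : v0 ≠ 0)
    (heq : ∀ x, γ v0 x = γ' v0 (T.symm x)) : (∀ u x, γ u x = 0) ∧ (∀ u x, γ' u x = 0) := by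
  -- Step A
  have hA : ∀ u x, γ u x - γ' u (T.symm x) = 0 := by
    refine h22_left_rad h (fun u x => γ u x - γ' u (T.symm x)) ?_ ?_ v0 hv0 ?_
    · intro u u' x
      show γ (u + u') x - γ' (u + u') (T.symm x) = γ u x - γ' u (T.symm x) +
        (γ u' x - γ' u' (T.symm x))
      rw [hγ.1, hγ'.1]
      ring
    · intro u x
      show γ (T u) x - γ' (T u) (T.symm x) = γ u (T.symm x) - γ' u (T.symm (T.symm x))
      rw [h22_inv_left hγ, h22_inv_left hγ']
    · intro x
      show γ v0 x - γ' v0 (T.symm x) = 0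
      rw [heq, sub_self]
  have hA' : ∀ u x, γ u x = γ' u (T.symm x) := fun u x => sub_eq_zero.mp (hA u x)
  -- Step B
  have hB0 : ∀ u x, γ' u (T.symm x) = γ' u (T x) := by
    intro u x
    have e1 : γ u x = γ' (T.symm u) x := by
      rw [h22_skew hγ, hA', h22_skew hγ', neg_neg]
    have e2 : γ' (T.symm u) x = γ' u (T x) := by
      have := hγ'.2.2.2 (T.symm u) x
      rw [AddEquiv.apply_symm_apply] at this
      exact this.symm
    rw [← hA', e1, e2]
  have hB : ∀ u y, γ' u (T (T y)) = γ' u y := by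
    intro u y
    have := hB0 u (T y)
    rw [AddEquiv.symm_apply_apply] at this
    exact this.symm
  -- Step C
  obtain ⟨K, hK⟩ : ∃ K : AddSubgroup V, ∀ y, y ∈ K ↔ T (T y) = y :=
    ⟨{ carrier := {y | T (T y) = y}
       add_mem' := fun {a b} ha hb => by
         show T (T (a + b)) = a + b
         rw [map_add, map_add, ha, hb]
       zero_mem' := by
         show T (T 0) = 0
         rw [map_zero, map_zero]
       neg_mem' := fun {a} ha => by
         show T (T (-a)) = -a
         rw [map_neg, map_neg, ha] }, fun y => Iff.rfl⟩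
  have hKinv : ∀ w ∈ K, T w ∈ K := by
    intro w hw
    rw [hK] at hw ⊢
    rw [hw]
  have hKbot : K = ⊥ := by
    rcases h.irr K hKinv with hbot | htop
    · exact hbot
    · exfalso
      have hTT : ∀ y : V, T (T y) = y := fun y => (hK y).1 (by rw [htop]; trivial)
      have hodd : Odd q := (Fact.out : q.Prime).odd_of_ne_two hq2
      obtain ⟨k, hk⟩ := hodd
      obtain ⟨v, hv⟩ := h.ne
      apply hv
      have h1 := h.pow v
      rw [hk, h22_iter_odd hTT] at h1
      exact h1
  obtain ⟨f, hf⟩ : ∃ f : V →+ V, ∀ y, f y = T (T y) - y :=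
    ⟨AddMonoidHom.mk' (fun y => T (T y) - y) (fun a b => by
      show T (T (a + b)) - (a + b) = T (T a) - a + (T (T b) - b)
      rw [map_add, map_add]
      abel), fun y => rfl⟩
  have hfinj : Function.Injective f := by
    rw [injective_iff_map_eq_zero]
    intro y hy
    rw [hf, sub_eq_zero] at hy
    have : y ∈ K := (hK y).2 hy
    rw [hKbot, AddSubgroup.mem_bot] at this
    exact this
  have hfsurj : Function.Surjective f := Finite.surjective_of_injective hfinj
  have hγ'0 : ∀ u x, γ' u x = 0 := by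
    intro u z
    obtain ⟨y, rfl⟩ := hfsurj z
    rw [hf, h22_sub_right hγ', hB, sub_self]
  refine ⟨?_, hγ'0⟩
  intro u x
  rw [hA', hγ'0]

end Core

section Main

theorem h22_card_dual {p : ℕ} [Fact p.Prime] {V : Type*} [AddCommGroup V] [Module (ZMod p) V]
    [Finite V] (a : ℕ) (hcard : Nat.card V = p ^ a) :
    Nat.card (Module.Dual (ZMod p) V) = p ^ a := by
  have h1 := Module.natCard_eq_pow_finrank (K := ZMod p) (V := Module.Dual (ZMod p) V)
  have h2 := Module.natCard_eq_pow_finrank (K := ZMod p) (V := V)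
  rw [Subspace.dual_finrank_eq] at h1
  rw [h1, ← h2, hcard]

/-- the odd case, with a `ZMod p`-module structure as an instance argument -/
theorem h22_forms_odd {p q : ℕ} [Fact p.Prime] {V : Type*} [AddCommGroup V] [Module (ZMod p) V]
    [Finite V] (T : V ≃+ V) (h : Irr p q T) (a : ℕ) (hcard : Nat.card V = p ^ a)
    (hodd : a % 2 = 1) (β : V → V → ZMod p) (hβ : InvAlt p T β) : β = 0 := by
  classical
  have hp : p.Prime := Fact.out
  by_contra hne
  obtain ⟨ω, hω⟩ : ∃ ω : V →ₗ[ZMod p] V →ₗ[ZMod p] ZMod p, ∀ u v, ω u v = β u v :=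
    ⟨AddMonoidHom.toZModLinearMap p
      (AddMonoidHom.mk' (fun u => AddMonoidHom.toZModLinearMap p
          (AddMonoidHom.mk' (β u) (hβ.2.1 u)))
        (fun u u' => LinearMap.ext (fun v => by
          show β (u + u') v = β u v + β u' v
          exact hβ.1 u u' v))), fun u v => rfl⟩
  have halt : ∀ v, ω v v = 0 := fun v => by rw [hω]; exact hβ.2.2.1 v
  have hnd : ∀ v, (∀ w, ω v w = 0) → v = 0 := by
    intro v hv
    by_contra hv0'
    have h1 := h22_left_rad h β hβ.1 (h22_inv_left hβ) v hv0' (fun x => by rw [← hω]; exact hv x)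
    apply hne
    funext u x
    exact h1 u x
  have hfin : Module.finrank (ZMod p) V = a := by
    have h2 := Module.natCard_eq_pow_finrank (K := ZMod p) (V := V)
    rw [hcard, Nat.card_zmod] at h2
    exact (Nat.pow_right_injective hp.two_le h2).symm
  have heven := Cfsg.Agent.Lib.helper50.even_finrank_of_alt_nondeg a V ω halt hnd hfin
  rw [Nat.even_iff] at heven
  omega

/-- the even case for odd `q`, with a `ZMod p`-module structure as an instance argument -/
theorem h22_forms_even {p q : ℕ} [Fact p.Prime] [Fact q.Prime] (hq2 : q ≠ 2) {V : Type*}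
    [AddCommGroup V] [Module (ZMod p) V] [Finite V] (T : V ≃+ V) (h : Irr p q T) (a : ℕ)
    (hcard : Nat.card V = p ^ a) (hev : a % 2 = 0) :
    Nat.card {β : V → V → ZMod p // InvAlt p T β} ≤ p ^ (a / 2) := by
  classical
  obtain ⟨v0, hv0T⟩ := h.ne
  have hv0 : v0 ≠ 0 := by
    rintro rfl
    exact hv0T (map_zero T)
  have hfinD : Finite (Module.Dual (ZMod p) V) :=
    Finite.of_injective (fun (f : Module.Dual (ZMod p) V) (x : V) => f x)
      DFunLike.coe_injective
  obtain ⟨Ψ, hΨ⟩ : ∃ Ψ : {β : V → V → ZMod p // InvAlt p T β} ×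
      {β : V → V → ZMod p // InvAlt p T β} → Module.Dual (ZMod p) V,
      ∀ bb x, Ψ bb x = bb.1.1 v0 x - bb.2.1 v0 (T.symm x) :=
    ⟨fun bb => AddMonoidHom.toZModLinearMap p
      (AddMonoidHom.mk' (fun x => bb.1.1 v0 x - bb.2.1 v0 (T.symm x)) (fun x y => by
        show bb.1.1 v0 (x + y) - bb.2.1 v0 (T.symm (x + y)) =
          bb.1.1 v0 x - bb.2.1 v0 (T.symm x) + (bb.1.1 v0 y - bb.2.1 v0 (T.symm y))
        rw [bb.1.2.2.1, map_add, bb.2.2.2.1]
        ring)), fun bb x => rfl⟩
  have hΨinj : Function.Injective Ψ := by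
    rintro ⟨β1, β1'⟩ ⟨β2, β2'⟩ hΨeq
    have hx : ∀ x, β1.1 v0 x - β1'.1 v0 (T.symm x) = β2.1 v0 x - β2'.1 v0 (T.symm x) := by
      intro x
      have := LinearMap.congr_fun hΨeq x
      rw [hΨ, hΨ] at this
      exact this
    have hγ := h22_invAlt_sub β1.2 β2.2
    have hγ' := h22_invAlt_sub β1'.2 β2'.2
    have heq : ∀ x, (fun u v => β1.1 u v - β2.1 u v) v0 x =
        (fun u v => β1'.1 u v - β2'.1 u v) v0 (T.symm x) := by
      intro x
      show β1.1 v0 x - β2.1 v0 x = β1'.1 v0 (T.symm x) - β2'.1 v0 (T.symm x)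
      linear_combination hx x
    obtain ⟨h1, h2⟩ := h22_core hq2 h hγ hγ' v0 hv0 heq
    refine Prod.ext (Subtype.ext ?_) (Subtype.ext ?_)
    · funext u v
      exact sub_eq_zero.mp (h1 u v)
    · funext u v
      exact sub_eq_zero.mp (h2 u v)
  have hle := Nat.card_le_card_of_injective Ψ hΨinj
  rw [Nat.card_prod, h22_card_dual a hcard] at hle
  have ha2 : a = a / 2 + a / 2 := by omega
  rw [ha2, pow_add] at hle
  exact Nat.mul_self_le_mul_self_iff.mp hle

/-- for `q = 2` the module is cyclic of order `p` -/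
theorem h22_forms_two {p : ℕ} [Fact p.Prime] {V : Type*} [AddCommGroup V] [Finite V]
    (T : V ≃+ V) (h : Irr p 2 T) (a : ℕ) (hcard : Nat.card V = p ^ a) : a = 1 := by
  classical
  have hp : p.Prime := Fact.out
  obtain ⟨v0, hv0T⟩ := h.ne
  have hv0 : v0 ≠ 0 := by
    rintro rfl
    exact hv0T (map_zero T)
  have hTT : ∀ v : V, T (T v) = v := fun v => h.pow v
  obtain ⟨Fx, hFx⟩ : ∃ Fx : AddSubgroup V, ∀ y, y ∈ Fx ↔ T y = y :=
    ⟨{ carrier := {y | T y = y}
       add_mem' := fun {a b} ha hb => by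
         show T (a + b) = a + b
         rw [map_add, ha, hb]
       zero_mem' := map_zero T
       neg_mem' := fun {a} ha => by
         show T (-a) = -a
         rw [map_neg, ha] }, fun y => Iff.rfl⟩
  have hFxinv : ∀ w ∈ Fx, T w ∈ Fx := by
    intro w hw
    rw [hFx] at hw ⊢
    exact congrArg T hw
  have hFxbot : Fx = ⊥ := by
    rcases h.irr Fx hFxinv with hbot | htop
    · exact hbot
    · exfalso
      exact hv0T ((hFx v0).1 (by rw [htop]; trivial))
  have hneg : ∀ v : V, T v = -v := by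
    intro v
    have h1 : v + T v ∈ Fx := by
      rw [hFx, map_add, hTT, add_comm]
    rw [hFxbot, AddSubgroup.mem_bot] at h1
    exact (neg_eq_of_add_eq_zero_right h1).symm
  have hWinv : ∀ w ∈ AddSubgroup.zmultiples v0, T w ∈ AddSubgroup.zmultiples v0 := by
    intro w hw
    rw [hneg]
    exact neg_mem hw
  have hWtop : AddSubgroup.zmultiples v0 = ⊤ := by
    rcases h.irr _ hWinv with hbot | htop
    · exfalso
      have : v0 ∈ AddSubgroup.zmultiples v0 := AddSubgroup.mem_zmultiples v0
      rw [hbot, AddSubgroup.mem_bot] at this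
      exact hv0 this
    · exact htop
  have hcardV : Nat.card V = addOrderOf v0 := by
    rw [← Nat.card_zmultiples, hWtop, AddSubgroup.card_top]
  have hdvd : addOrderOf v0 ∣ p := addOrderOf_dvd_of_nsmul_eq_zero (h.exp v0)
  have hord : addOrderOf v0 = p := by
    rcases (Nat.dvd_prime hp).mp hdvd with h1 | h1
    · exfalso
      exact hv0 (AddMonoid.addOrderOf_eq_one_iff.mp h1)
    · exact h1
  rw [hord] at hcardV
  have h2 : p ^ a = p ^ 1 := by rw [← hcard, hcardV, pow_one]
  exact Nat.pow_right_injective hp.two_le h2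

/-- FORMS (racer copy, prefixed name) -/
theorem h22_forms (p q : ℕ) [Fact p.Prime] [Fact q.Prime] (hpq : p ≠ q) {V : Type*}
    [AddCommGroup V] [Finite V]
    (T : V ≃+ V) (h : Irr p q T) (a : ℕ) (hcard : Nat.card V = p ^ a) :
    (a % 2 = 1 → ∀ β : V → V → ZMod p, InvAlt p T β → β = 0) ∧
    (a % 2 = 0 → Nat.card {β : V → V → ZMod p // InvAlt p T β} ≤ p ^ (a / 2)) := by
  classical
  letI : Module (ZMod p) V := AddCommGroup.zmodModule h.exp
  constructor
  · intro hodd β hβ
    exact h22_forms_odd T h a hcard hodd β hβ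
  · intro hev
    by_cases hq2 : q = 2
    · exfalso
      subst hq2
      have ha1 := h22_forms_two T h a hcard
      omega
    · exact h22_forms_even hq2 T h a hcard hev

end Main

end Cfsg.Agent.Lib.helper3.Gf
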