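import Mathlib
import Cfsg.Prelude.Def_Classical
import Cfsg.Agent.Lib.helper44.LODefs
import Cfsg.Agent.Lib.helper6.LOARITH
import Cfsg.Agent.S0245
import Cfsg.Agent.S0246

/-!
S2363 split (architect helper44), piece PSP (`lo_psp`), racer copy by helper22.
-/

set_option autoImplicit false

namespace Cfsg.Agent.Lib.helper44.LO

theorem h22_lo_prod_le (q : ℕ) (m : ℕ) :
    ∏ i ∈ Finset.range m, (q ^ (2 * (i + 1)) - 1) ≤ q ^ (m * (m + 1)) := by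
  induction m with
  | zero => simp
  | succ m ih =>
    rw [Finset.prod_range_succ]
    calc (∏ i ∈ Finset.range m, (q ^ (2 * (i + 1)) - 1)) * (q ^ (2 * (m + 1)) - 1)
        ≤ q ^ (m * (m + 1)) * q ^ (2 * (m + 1)) := Nat.mul_le_mul ih (Nat.sub_le _ _)
      _ = q ^ ((m + 1) * (m + 1 + 1)) := by
        rw [← pow_add]
        congr 1
        ring

theorem h22_lo_prod_lt (q : ℕ) (hq : 2 ≤ q) (m : ℕ) (hm : 1 ≤ m) :
    ∏ i ∈ Finset.range m, (q ^ (2 * (i + 1)) - 1) < q ^ (m * (m + 1)) := by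
  obtain ⟨k, rfl⟩ : ∃ k, m = k + 1 := ⟨m - 1, by omega⟩
  rw [Finset.prod_range_succ]
  have h1 := h22_lo_prod_le q k
  have hpos : 0 < q ^ (2 * (k + 1)) := pow_pos (by omega) _
  have hpos2 : 0 < q ^ (k * (k + 1)) := pow_pos (by omega) _
  calc (∏ i ∈ Finset.range k, (q ^ (2 * (i + 1)) - 1)) * (q ^ (2 * (k + 1)) - 1)
      ≤ q ^ (k * (k + 1)) * (q ^ (2 * (k + 1)) - 1) := Nat.mul_le_mul_right _ h1
    _ < q ^ (k * (k + 1)) * q ^ (2 * (k + 1)) := mul_lt_mul_of_pos_left (by omega) hpos2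
    _ = q ^ ((k + 1) * (k + 1 + 1)) := by
      rw [← pow_add]
      congr 1
      ring

theorem h22_lo_not_dvd_prod (p : ℕ) (hp : p.Prime) (q : ℕ) (hpq : p ∣ q) (hq : 2 ≤ q) (m : ℕ) :
    ¬ p ∣ ∏ i ∈ Finset.range m, (q ^ (2 * (i + 1)) - 1) := by
  intro h
  obtain ⟨i, -, hi⟩ := (Prime.dvd_finset_prod_iff hp.prime _).mp h
  have h1 : p ∣ q ^ (2 * (i + 1)) := dvd_trans hpq (dvd_pow_self q (by omega))
  have hpos : 1 ≤ q ^ (2 * (i + 1)) := Nat.one_le_pow _ _ (by omega)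
  have h2 : p ∣ (q ^ (2 * (i + 1)) - 1) + 1 := by
    rw [Nat.sub_add_cancel hpos]
    exact h1
  exact hp.one_lt.ne' (Nat.dvd_one.mp ((Nat.dvd_add_right hi).mp h2))

/-- PSP (racer copy). -/
theorem h22_lo_psp {F : Type} [Field F] [Fintype F] (p : ℕ) (hp : p.Prime) [CharP F p] (m : ℕ) (hm : 2 ≤ m) :
    LOGood p (Nat.card (Cfsg.PSp m F)) := by
  haveI : Fact p.Prime := ⟨hp⟩
  obtain ⟨f, -, hf⟩ := FiniteField.card F p
  have hf1 : 1 ≤ (f : ℕ) := f.pos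
  have hq2 : 2 ≤ p ^ (f : ℕ) := by
    calc 2 ≤ p := hp.two_le
      _ = p ^ 1 := (pow_one p).symm
      _ ≤ p ^ (f : ℕ) := Nat.pow_le_pow_right hp.pos hf1
  have hpq : p ∣ p ^ (f : ℕ) := dvd_pow_self p (by omega)
  have hSp := Cfsg.Agent.S0245.result (F := F) hf m
  have hZ := Cfsg.Agent.S0246.result (F := F) hf m (by omega)
  have hquot : Nat.card (Cfsg.PSp m F) *
      Nat.card (Subgroup.center (Matrix.symplecticGroup (Fin m) F)) =
      Nat.card (Matrix.symplecticGroup (Fin m) F) :=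
    (Subgroup.card_eq_card_quotient_mul_card_subgroup _).symm
  rw [hSp, hZ] at hquot
  have hmm : 2 * m ≤ m ^ 2 := by nlinarith
  refine lo_good hp (f : ℕ) hf1 (Nat.gcd 2 (p ^ (f : ℕ) - 1)) _ (m ^ 2)
    (∏ i ∈ Finset.range m, ((p ^ (f : ℕ)) ^ (2 * (i + 1)) - 1)) (m ^ 2 + m) ?_ ?_ ?_ ?_ ?_ ?_
  · rw [mul_comm]
    exact hquot
  · intro h
    have h1 : p ∣ p ^ (f : ℕ) - 1 := dvd_trans h (Nat.gcd_dvd_right _ _)
    have h2 : p ∣ (p ^ (f : ℕ) - 1) + 1 := by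
      rw [Nat.sub_add_cancel (by omega)]
      exact hpq
    exact hp.one_lt.ne' (Nat.dvd_one.mp ((Nat.dvd_add_right h1).mp h2))
  · exact h22_lo_not_dvd_prod p hp _ hpq hq2 m
  · have hlt := h22_lo_prod_lt (p ^ (f : ℕ)) hq2 m (by omega)
    have hc1 : 1 ≤ Nat.gcd 2 (p ^ (f : ℕ) - 1) := Nat.gcd_pos_of_pos_left _ (by norm_num)
    calc (∏ i ∈ Finset.range m, ((p ^ (f : ℕ)) ^ (2 * (i + 1)) - 1))
        < (p ^ (f : ℕ)) ^ (m * (m + 1)) := hlt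
      _ = (p ^ (f : ℕ)) ^ (m ^ 2 + m) := by
        congr 1
        ring
      _ ≤ Nat.gcd 2 (p ^ (f : ℕ) - 1) * (p ^ (f : ℕ)) ^ (m ^ 2 + m) :=
        Nat.le_mul_of_pos_left _ hc1
  · linarith
  · linarith

end Cfsg.Agent.Lib.helper44.LO
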