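import Mathlib
import Cfsg.Agent.Lib.helper94.M24Elts
import Cfsg.Agent.Lib.helper94.M24FixAll

/-!
# Enumeration of an involution class of the group of the length-24 code: checkers

A class of involutions is stored as a chunked packed array of tables (120 bits per table, 512 tables
per chunk, sorted).  The checkers below are evaluated by the kernel.
-/

set_option autoImplicit false

namespace Cfsg.Agent.Lib.helper22.M24E

open Cfsg Cfsg.Agent.Lib.helper94

/-- `n`-th element of a list of numbers (0 if out of range). -/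
def nth : List ℕ → ℕ → ℕ
  | [], _ => 0
  | a :: _, 0 => a
  | _ :: l, n + 1 => nth l n

/-- Entry `j` of a chunked packed array with fields of `w` bits, 512 entries per chunk. -/
def arr (w : ℕ) (L : List ℕ) (j : ℕ) : ℕ :=
  objAt w (nth L (Nat.shiftRight j 9)) (Nat.land j 511)

/-- The product table of two tables. -/
def mulTab (A B : ℕ) : ℕ → ℕ
  | 0 => 0
  | i + 1 => Nat.lor (mulTab A B i) (Nat.shiftLeft (imgAt A (imgAt B i)) (Nat.mul 5 i))

/-- Type code of a certificate. -/
def code (c : ℕ) : ℕ := Nat.land c 7

/-- Point of a certificate. -/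
def cpt (c : ℕ) : ℕ := Nat.land (Nat.shiftRight c 3) 31

/-- Half cycle length of a certificate. -/
def chm (c : ℕ) : ℕ := Nat.shiftRight c 8

/-- Conditional test: if the type code of `c` is `k` then `b`. -/
def imp (k c : ℕ) (b : Bool) : Bool := !(Nat.beq (code c) k) || b

/-- Test of the certificate `c` for the table `Y`: code 0 = even order, 1 = identity,
2 = order 3 with 6 fixed points, 3 = order 3 without fixed points, 4 = order 5, 5 = order 11. -/
def typeOK (Y c : ℕ) : Bool :=
  imp 0 c (Nat.blt (cpt c) 24 && !(Nat.beq (powImg Y (chm c) (cpt c)) (cpt c)) &&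
      Nat.beq (powImg Y (Nat.mul 2 (chm c)) (cpt c)) (cpt c)) &&
  imp 1 c (Nat.beq (fixCnt Y) 24) &&
  imp 2 c (powOne Y 3 && Nat.beq (fixCnt Y) 6) &&
  imp 3 c (powOne Y 3 && Nat.beq (fixCnt Y) 0) &&
  imp 4 c (powOne Y 5 && Nat.blt (fixCnt Y) 24) &&
  imp 5 c (powOne Y 11 && Nat.blt (fixCnt Y) 24)

/-- Entry test: the entry `j` is a valid table, and the certificate describes its product
with `T`. -/
def entOK (S C : List ℕ) (T cmax j : ℕ) : Bool :=
  forceNat (arr 120 S j) fun X =>
  forceNat (mulTab X T 24) fun Y =>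
  forceNat (arr 16 C j) fun c =>
    validPerm X && validPerm Y && mulOK X T Y && Nat.blt (code c) cmax && typeOK Y c

/-- Sortedness test at `j`. -/
def incOK (S : List ℕ) (j : ℕ) : Bool := Nat.blt (arr 120 S j) (arr 120 S (Nat.succ j))

/-- Conjugation test at `j`: the conjugate of entry `j` by `G` is the entry with index given by the
pointer array `P`. -/
def cjOK (S P : List ℕ) (G N j : ℕ) : Bool :=
  forceNat (arr 16 P j) fun q =>
  forceNat (arr 120 S j) fun X =>
  forceNat (arr 120 S q) fun E => Nat.blt q N && conjOK G X E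

/-- Reachability test at `j`: the entry is the root, or one of its three conjugates has a smaller
depth label. -/
def reachOK (D P0 P1 P2 : List ℕ) (j0 j : ℕ) : Bool :=
  Nat.beq j j0 ||
  forceNat (arr 16 D j) fun d =>
    Nat.blt (arr 16 D (arr 16 P0 j)) d || Nat.blt (arr 16 D (arr 16 P1 j)) d ||
      Nat.blt (arr 16 D (arr 16 P2 j)) d

/-- Counting with a forced accumulator. -/
def cntAcc (f : ℕ → Bool) : ℕ → ℕ → ℕ
  | 0, acc => acc
  | n + 1, acc => forceNat (Nat.add acc (cond (f n) 1 0)) fun a => cntAcc f n a

/-- Number of entries with type code `k`. -/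
def cntCode (C : List ℕ) (k N : ℕ) : ℕ := cntAcc (fun j => Nat.beq (code (arr 16 C j)) k) N 0

/-- Table of the shift. -/
def gS : ℕ := 0xb82d5a4e5183dcd62d4941cc520c41
/-- Table of the projective inversion. -/
def gI : ℕ := 0x5883388a1c8f5140b46cd317aed7
/-- Table of the cube twist. -/
def gT : ℕ := 0xbba8ab116d7c52899d90286a219a40

end Cfsg.Agent.Lib.helper22.M24E
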