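import Mathlib
import Cfsg.Agent.Lib.helper22.M24E_Defs
import Cfsg.Agent.Lib.helper22.M24E_DataAS
import Cfsg.Agent.Lib.helper22.M24E_DataAP

/-!
Kernel-checked tests on the data of an involution class of the group of the length-24 code.
-/

set_option autoImplicit false

namespace Cfsg.Agent.Lib.helper22.M24E

open Cfsg Cfsg.Agent.Lib.helper94

theorem cjA2 : allBelow (cjOK clsA ptrA2 gT 11385) 11385 = true := by
  decide +kernel

end Cfsg.Agent.Lib.helper22.M24E
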