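import Mathlib
import Cfsg.Agent.Lib.helper22.M24E_Defs
import Cfsg.Agent.Lib.helper22.M24E_DataAS
import Cfsg.Agent.Lib.helper22.M24E_DataAP

/-!
Kernel-checked tests on the data of an involution class of the group of the length-24 code.
-/

set_option autoImplicit false

namespace Cfsg.Agent.Lib.helper22.M24E

open Cfsg Cfsg.Agent.Lib.helper94

theorem incA : allBelow (incOK clsA) 11384 = true := by
  decide +kernel

theorem reachA : allBelow (reachOK depA ptrA0 ptrA1 ptrA2 1975) 11385 = true := by
  decide +kernel

theorem rootA : arr 120 clsA 1975 = X2A := by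
  decide +kernel

theorem baseA : isM24 X2A = true ∧ powOne X2A 2 = true ∧ fixCnt X2A = 8 ∧ fixCnt X2B ≠ 8 := by
  decide +kernel

theorem cntA : cntCode crtA 2 11385 = 896 ∧ cntCode crtA 3 11385 = 128 ∧ cntCode crtA 4 11385 = 1792 := by
  decide +kernel

end Cfsg.Agent.Lib.helper22.M24E
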