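import Mathlib
import Cfsg.Agent.Lib.helper22.M24E_Defs
import Cfsg.Agent.Lib.helper9.M24Order
import Cfsg.Agent.Lib.helper33.M24BDefs

/-!
# Enumeration of an involution class of the group of the length-24 code: soundness

From the kernel-checked tests of `M24E_Defs` on the data of a class (`Cert`) we get: the list is
exactly the class, and the types of the products with the base involution are counted by the
certificates.
-/

set_option autoImplicit false

namespace Cfsg.Agent.Lib.helper22.M24E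

open Cfsg Cfsg.Agent.Lib.helper94 Cfsg.Agent.Lib.helper33.M24B

/-! ### Basic facts -/

theorem cntAcc_eq (f : ℕ → Bool) (n acc : ℕ) : cntAcc f n acc = acc + cntBelow f n := by
  induction n generalizing acc with
  | zero => simp [cntAcc, cntBelow]
  | succ n ih =>
    rw [cntAcc, forceNat_eq, ih, cntBelow]
    show acc + cond (f n) 1 0 + cntBelow f n = acc + (cond (f n) 1 0 + cntBelow f n)
    omega

theorem all_range {f : ℕ → Bool} {a len : ℕ}
    (h : allBelow (fun j => f (Nat.add a j)) len = true) (j : ℕ) (h1 : a ≤ j) (h2 : j < a + len) :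
    f j = true := by
  have h3 : f (Nat.add a (j - a)) = true := (allBelow_iff _ _).mp h (j - a) (by omega)
  have e : Nat.add a (j - a) = j := by show a + (j - a) = j; omega
  rw [e] at h3
  exact h3

/-- Counting the objects of a complete list with a Boolean property. -/
theorem ncard_list {β : Type*} (objs : Set β) (obj : ℕ → β) (N : ℕ)
    (hcomp : ∀ T ∈ objs, ∃ j < N, T = obj j) (hmem : ∀ j < N, obj j ∈ objs)
    (hinj : ∀ j < N, ∀ j' < N, obj j = obj j' → j = j')
    (Q : β → Prop) (f : ℕ → Bool) (hf : ∀ j < N, (Q (obj j) ↔ f j = true)) :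
    {T | T ∈ objs ∧ Q T}.ncard = cntBelow f N := by
  rw [cntBelow_eq]
  have himg : {T | T ∈ objs ∧ Q T} =
      obj '' (↑((Finset.range N).filter fun j => f j = true) : Set ℕ) := by
    ext T
    simp only [Set.mem_ofPred_eq, Set.mem_image, Finset.coe_filter, Finset.mem_range]
    constructor
    · rintro ⟨hT, hQ⟩
      obtain ⟨j, hj, rfl⟩ := hcomp T hT
      exact ⟨j, ⟨hj, (hf j hj).mp hQ⟩, rfl⟩
    · rintro ⟨j, ⟨hj, hb⟩, rfl⟩
      exact ⟨hmem j hj, (hf j hj).mpr hb⟩
  rw [himg, Set.InjOn.ncard_image, Set.ncard_coe_finset]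
  intro j hj j' hj' h
  simp only [Finset.coe_filter, Finset.mem_range, Set.mem_ofPred_eq] at hj hj'
  exact hinj j hj.1 j' hj'.1 h

theorem eq_of_imgAt {E E' : ℕ} (hE : E < 2 ^ 120) (hE' : E' < 2 ^ 120)
    (h : ∀ i < 24, imgAt E i = imgAt E' i) : E = E' := by
  apply Nat.eq_of_testBit_eq
  intro q
  by_cases hq : q < 120
  · have key : ∀ F : ℕ, F.testBit q = (imgAt F (q / 5)).testBit (q % 5) := by
      intro F
      show _ = ((F >>> (5 * (q / 5))) &&& 31).testBit (q % 5)
      rw [Nat.testBit_and, Nat.testBit_shiftRight]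
      have h31 : (31 : ℕ).testBit (q % 5) = true := by
        have h5 : q % 5 < 5 := Nat.mod_lt _ (by norm_num)
        generalize q % 5 = r at h5
        interval_cases r <;> rfl
      rw [h31, Bool.and_true, Nat.div_add_mod]
    rw [key E, key E', h (q / 5) (by omega)]
  · have h120 : (2 : ℕ) ^ 120 ≤ 2 ^ q := Nat.pow_le_pow_right (by norm_num) (by omega)
    rw [Nat.testBit_lt_two_pow (lt_of_lt_of_le hE h120),
      Nat.testBit_lt_two_pow (lt_of_lt_of_le hE' h120)]

theorem tperm_inj {E E' : ℕ} (hv : validPerm E = true) (hv' : validPerm E' = true)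
    (hE : E < 2 ^ 120) (hE' : E' < 2 ^ 120) (h : tperm E = tperm E') : E = E' := by
  apply eq_of_imgAt hE hE'
  intro i hi
  have h1 : ptIdx (tperm E (idxPt i)) = ptIdx (tperm E' (idxPt i)) := by rw [h]
  rw [tperm_idxPt hv hi, tperm_idxPt hv' hi, ptIdx_idxPt (validPerm_lt hv i hi),
    ptIdx_idxPt (validPerm_lt hv' i hi)] at h1
  exact h1

/-- Number of fixed points of a permutation. -/
def fx (y : Equiv.Perm GolayPt) : ℕ := (Finset.univ.filter fun p : GolayPt => y p = p).card

theorem fixN_eq (x : ↥M24) : fixN x = fx (x : Equiv.Perm GolayPt) := rfl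

theorem fx_tperm {E : ℕ} (hv : validPerm E = true) : fx (tperm E) = fixCnt E :=
  card_fixed_tperm hv

theorem fx_conj (k g : Equiv.Perm GolayPt) : fx (k * g * k⁻¹) = fx g := card_fixed_conj k g

theorem fx_one : fx (1 : Equiv.Perm GolayPt) = 24 := by
  unfold fx
  simp

theorem orderOf_conj' (g x : Equiv.Perm GolayPt) : orderOf (g * x * g⁻¹) = orderOf x :=
  orderOf_injective (MulAut.conj g).toMonoidHom (MulAut.conj g).injective x

/-! ### Types -/

/-- The type with code `k`. -/
def TypeM : ℕ → ↥M24 → Prop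
  | 0, y => 2 ∣ orderOf y
  | 1, y => y = 1
  | 2, y => orderOf y = 3 ∧ fixN y = 6
  | 3, y => orderOf y = 3 ∧ fixN y = 0
  | 4, y => orderOf y = 5
  | 5, y => orderOf y = 11
  | _, _ => False

/-- The code of the type determined by the order and the number of fixed points. -/
def kind (o φ : ℕ) : ℕ :=
  if 2 ∣ o then 0 else if o = 1 then 1 else if o = 3 ∧ φ = 6 then 2 else if o = 3 ∧ φ = 0 then 3
  else if o = 5 then 4 else if o = 11 then 5 else 6

theorem typeM_kind {k : ℕ} {y : ↥M24} (h : TypeM k y) : k = kind (orderOf y) (fixN y) := by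
  match k, h with
  | 0, h =>
    have h' : 2 ∣ orderOf y := h
    simp [kind, h']
  | 1, h =>
    have h' : y = 1 := h
    subst h'
    norm_num [kind]
  | 2, h =>
    obtain ⟨h1, h2⟩ : orderOf y = 3 ∧ fixN y = 6 := h
    norm_num [kind, h1, h2]
  | 3, h =>
    obtain ⟨h1, h2⟩ : orderOf y = 3 ∧ fixN y = 0 := h
    norm_num [kind, h1, h2]
  | 4, h =>
    have h1 : orderOf y = 5 := h
    norm_num [kind, h1]
  | 5, h =>
    have h1 : orderOf y = 11 := h
    norm_num [kind, h1]
  | (n + 6), h => exact absurd h (by simp [TypeM])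

theorem imp_elim {k c : ℕ} {b : Bool} (h : imp k c b = true) (hk : code c = k) : b = true := by
  rw [imp, hk, Nat.beq_refl] at h
  simpa using h

theorem typeM_of_ok {Y c : ℕ} (hv : validPerm Y = true) (hc : code c < 6)
    (h : typeOK Y c = true) (y : ↥M24) (hy : (y : Equiv.Perm GolayPt) = tperm Y) :
    TypeM (code c) y := by
  have ho : orderOf y = orderOf (tperm Y) := by rw [← hy, Subgroup.orderOf_coe]
  have hfix : fixN y = fixCnt Y := by rw [fixN_eq, hy, fx_tperm hv]
  have hone : tperm Y = 1 → y = 1 := fun h1 => Subtype.ext (by rw [hy, h1]; rfl)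
  have hne : fixCnt Y < 24 → tperm Y ≠ 1 := by
    intro hlt h1
    have h2 := fx_tperm hv
    rw [h1, fx_one] at h2
    omega
  have hprime : ∀ p : ℕ, p.Prime → powOne Y p = true → fixCnt Y < 24 → orderOf y = p := by
    intro p hp hpow hlt
    have : Fact p.Prime := ⟨hp⟩
    rw [ho]
    exact orderOf_eq_prime ((powOne_iff hv p).mp hpow) (hne hlt)
  simp only [typeOK, Bool.and_eq_true] at h
  obtain ⟨⟨⟨⟨⟨h0, h1⟩, h2⟩, h3⟩, h4⟩, h5⟩ := h
  obtain ⟨k, hk⟩ : ∃ k, code c = k := ⟨_, rfl⟩
  rw [hk] at hc ⊢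
  interval_cases k
  · -- even order
    have h0' := imp_elim h0 hk
    simp only [Bool.and_eq_true, Bool.not_eq_true', Nat.blt_eq] at h0'
    obtain ⟨⟨hp, hm1⟩, hm2⟩ := h0'
    have hm1' := Nat.ne_of_beq_eq_false hm1
    have hm2' := Nat.eq_of_beq_eq_true hm2
    have e1 := tperm_pow_idxPt hv (chm c) (cpt c) hp
    have e2 := tperm_pow_idxPt hv (Nat.mul 2 (chm c)) (cpt c) hp
    rw [hm2'] at e2
    have hfix2 : (tperm Y ^ (2 * chm c)) (idxPt (cpt c)) = idxPt (cpt c) := e2.2
    have hnfix : (tperm Y ^ chm c) (idxPt (cpt c)) ≠ idxPt (cpt c) := by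
      rw [e1.2]
      intro hcon
      have := congrArg ptIdx hcon
      rw [ptIdx_idxPt e1.1, ptIdx_idxPt hp] at this
      exact hm1' this
    show 2 ∣ orderOf y
    rw [ho]
    by_contra hodd
    obtain ⟨r, hr⟩ : ∃ r, orderOf (tperm Y) + 1 = 2 * r := ⟨orderOf (tperm Y) / 2 + 1, by omega⟩
    have e3 : tperm Y ^ chm c = (tperm Y ^ (2 * chm c)) ^ r := by
      rw [← pow_mul, show 2 * chm c * r = orderOf (tperm Y) * chm c + chm c by
        rw [mul_assoc, mul_comm (chm c) r, ← mul_assoc, ← hr]; ring, pow_add, pow_mul,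
        pow_orderOf_eq_one, one_pow, one_mul]
    apply hnfix
    rw [e3]
    exact Equiv.Perm.pow_apply_eq_self_of_apply_eq_self hfix2 r
  · -- identity
    have h1' := Nat.eq_of_beq_eq_true (imp_elim h1 hk)
    exact hone (tperm_eq_one_of_fixCnt hv h1')
  · have h2' := imp_elim h2 hk
    simp only [Bool.and_eq_true] at h2'
    have hf6 := Nat.eq_of_beq_eq_true h2'.2
    exact ⟨hprime 3 (by norm_num) h2'.1 (by omega), by rw [hfix, hf6]⟩
  · have h3' := imp_elim h3 hk
    simp only [Bool.and_eq_true] at h3'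
    have hf0 := Nat.eq_of_beq_eq_true h3'.2
    exact ⟨hprime 3 (by norm_num) h3'.1 (by omega), by rw [hfix, hf0]⟩
  · have h4' := imp_elim h4 hk
    simp only [Bool.and_eq_true, Nat.blt_eq] at h4'
    exact hprime 5 (by norm_num) h4'.1 h4'.2
  · have h5' := imp_elim h5 hk
    simp only [Bool.and_eq_true, Nat.blt_eq] at h5'
    exact hprime 11 (by norm_num) h5'.1 h5'.2

/-! ### Generators -/

open Cfsg.Agent.Lib.helper9 in
theorem gens_ok : packList tblShift = gS ∧ packList tblInv = gI ∧ packList tblTwist = gT ∧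
    isM24 gS = true ∧ isM24 gI = true ∧ isM24 gT = true := by
  decide +kernel

open Cfsg.Agent.Lib.helper9 Cfsg.Agent.Lib.helper33 in
theorem tperm_gS : tperm gS = shiftPerm := by
  have h : IsTable shiftPerm tblShift := ⟨rfl, shift_tbl⟩
  have hv : validPerm (packList tblShift) = true := by
    rw [gens_ok.1]; exact isM24_valid gens_ok.2.2.2.1
  rw [← gens_ok.1]
  exact (tperm_of_isTable h hv).symm

open Cfsg.Agent.Lib.helper9 Cfsg.Agent.Lib.helper33 in
theorem tperm_gI : tperm gI = projInv := by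
  have h : IsTable projInv tblInv := ⟨rfl, projInv_tbl⟩
  have hv : validPerm (packList tblInv) = true := by
    rw [gens_ok.2.1]; exact isM24_valid gens_ok.2.2.2.2.1
  rw [← gens_ok.2.1]
  exact (tperm_of_isTable h hv).symm

open Cfsg.Agent.Lib.helper9 Cfsg.Agent.Lib.helper33 in
theorem tperm_gT : tperm gT = cubeTwist := by
  have h : IsTable cubeTwist tblTwist := ⟨rfl, cubeTwist_tbl⟩
  have hv : validPerm (packList tblTwist) = true := by
    rw [gens_ok.2.2.1]; exact isM24_valid gens_ok.2.2.2.2.2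
  rw [← gens_ok.2.2.1]
  exact (tperm_of_isTable h hv).symm

/-! ### Certificates of a class -/

/-- Kernel-checked facts about the data of a class: `S` the sorted list of tables, `C` the type
certificates, `D` the depth labels, `P0 P1 P2` the conjugation pointers, `T` the base involution,
`f` its number of fixed points, `N` the length of the list, `j0` the index of `T`. -/
structure Cert (S C D P0 P1 P2 : List ℕ) (T f cmax N j0 : ℕ) : Prop where
  ent : ∀ j < N, entOK S C T cmax j = true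
  cj0 : ∀ j < N, cjOK S P0 gS N j = true
  cj1 : ∀ j < N, cjOK S P1 gI N j = true
  cj2 : ∀ j < N, cjOK S P2 gT N j = true
  reach : ∀ j < N, reachOK D P0 P1 P2 j0 j = true
  inc : ∀ j < N - 1, incOK S j = true
  root : j0 < N ∧ arr 120 S j0 = T
  hT : isM24 T = true ∧ powOne T 2 = true ∧ fixCnt T = f ∧ f < 24
  hX : ∀ X ∈ [X2A, X2B], fixCnt X = f → X = T
  hc : cmax ≤ 6

theorem cj_sound {S P : List ℕ} {G N : ℕ} (hG : validPerm G = true)
    (hval : ∀ j < N, validPerm (arr 120 S j) = true) {j : ℕ} (hj : j < N)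
    (h : cjOK S P G N j = true) :
    arr 16 P j < N ∧
      tperm (arr 120 S (arr 16 P j)) = tperm G * tperm (arr 120 S j) * (tperm G)⁻¹ := by
  simp only [cjOK, forceNat_eq, Bool.and_eq_true, Nat.blt_eq] at h
  exact ⟨h.1, tperm_conj hG (hval j hj) (hval _ h.1) h.2⟩

section

variable {S C D P0 P1 P2 : List ℕ} {T f cmax N j0 : ℕ}

theorem Cert.valid (h : Cert S C D P0 P1 P2 T f cmax N j0) {j : ℕ} (hj : j < N) :
    validPerm (arr 120 S j) = true := by
  have h1 := h.ent j hj
  simp only [entOK, forceNat_eq, Bool.and_eq_true] at h1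
  exact h1.1.1.1.1

theorem Cert.inClass (h : Cert S C D P0 P1 P2 T f cmax N j0) :
    ∀ d j, j < N → arr 16 D j = d → ∃ c ∈ M24, tperm (arr 120 S j) = c * tperm T * c⁻¹ := by
  intro d
  induction d using Nat.strong_induction_on with
  | _ d ih =>
    intro j hj hd
    have hr := h.reach j hj
    simp only [reachOK, forceNat_eq, Bool.or_eq_true, Nat.blt_eq] at hr
    have step : ∀ (P : List ℕ) (G : ℕ), isM24 G = true → cjOK S P G N j = true →
        arr 16 D (arr 16 P j) < arr 16 D j →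
        ∃ c ∈ M24, tperm (arr 120 S j) = c * tperm T * c⁻¹ := by
      intro P G hG hcj hlt
      obtain ⟨hq, hconj⟩ := cj_sound (isM24_valid hG) (fun j hj => h.valid hj) hj hcj
      obtain ⟨c, hc, hE⟩ := ih _ (by rw [← hd]; exact hlt) (arr 16 P j) hq rfl
      refine ⟨(tperm G)⁻¹ * c, M24.mul_mem (M24.inv_mem (tperm_mem_M24 hG)) hc, ?_⟩
      have e1 : tperm (arr 120 S j) =
          (tperm G)⁻¹ * tperm (arr 120 S (arr 16 P j)) * tperm G := by
        rw [hconj]; group
      rw [e1, hE]; group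
    rcases hr with hr | ((hr | hr) | hr)
    · have e : j = j0 := Nat.eq_of_beq_eq_true hr
      refine ⟨1, M24.one_mem, ?_⟩
      rw [e, h.root.2]; simp
    · exact step P0 gS gens_ok.2.2.2.1 (h.cj0 j hj) hr
    · exact step P1 gI gens_ok.2.2.2.2.1 (h.cj1 j hj) hr
    · exact step P2 gT gens_ok.2.2.2.2.2 (h.cj2 j hj) hr

theorem Cert.mem (h : Cert S C D P0 P1 P2 T f cmax N j0) {j : ℕ} (hj : j < N) :
    tperm (arr 120 S j) ∈ M24 := by
  obtain ⟨c, hc, he⟩ := h.inClass _ j hj rfl
  rw [he]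
  exact M24.mul_mem (M24.mul_mem hc (tperm_mem_M24 h.hT.1)) (M24.inv_mem hc)

theorem Cert.order_T (h : Cert S C D P0 P1 P2 T f cmax N j0) : orderOf (tperm T) = 2 := by
  have : Fact (Nat.Prime 2) := ⟨Nat.prime_two⟩
  have hv := isM24_valid h.hT.1
  apply orderOf_eq_prime ((powOne_iff hv 2).mp h.hT.2.1)
  intro h1
  have h2 := fx_tperm hv
  rw [h1, fx_one, h.hT.2.2.1] at h2
  have h3 := h.hT.2.2.2
  omega

theorem Cert.order (h : Cert S C D P0 P1 P2 T f cmax N j0) {j : ℕ} (hj : j < N) :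
    orderOf (tperm (arr 120 S j)) = 2 := by
  obtain ⟨c, hc, he⟩ := h.inClass _ j hj rfl
  rw [he, orderOf_conj']
  exact h.order_T

theorem Cert.fix (h : Cert S C D P0 P1 P2 T f cmax N j0) {j : ℕ} (hj : j < N) :
    fx (tperm (arr 120 S j)) = f := by
  obtain ⟨c, hc, he⟩ := h.inClass _ j hj rfl
  rw [he, fx_conj, fx_tperm (isM24_valid h.hT.1)]
  exact h.hT.2.2.1

theorem Cert.closed (h : Cert S C D P0 P1 P2 T f cmax N j0) (c : Equiv.Perm GolayPt)
    (hc : c ∈ M24) :
    ∀ j < N, ∃ j' < N, c * tperm (arr 120 S j) * c⁻¹ = tperm (arr 120 S j') := by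
  rw [← Cfsg.Agent.Lib.helper9.genGroup_eq_M24] at hc
  unfold Cfsg.Agent.Lib.helper9.genGroup at hc
  induction hc using Subgroup.closure_induction with
  | mem x hx =>
    intro j hj
    rcases hx with rfl | rfl | rfl
    · obtain ⟨hq, hconj⟩ := cj_sound (isM24_valid gens_ok.2.2.2.1) (fun j hj => h.valid hj) hj
        (h.cj0 j hj)
      exact ⟨_, hq, by rw [hconj, tperm_gS]⟩
    · obtain ⟨hq, hconj⟩ := cj_sound (isM24_valid gens_ok.2.2.2.2.1) (fun j hj => h.valid hj) hj
        (h.cj1 j hj)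
      exact ⟨_, hq, by rw [hconj, tperm_gI]⟩
    · obtain ⟨hq, hconj⟩ := cj_sound (isM24_valid gens_ok.2.2.2.2.2) (fun j hj => h.valid hj) hj
        (h.cj2 j hj)
      exact ⟨_, hq, by rw [hconj, tperm_gT]⟩
  | one => intro j hj; exact ⟨j, hj, by simp⟩
  | mul x y _ _ hx hy =>
    intro j hj
    obtain ⟨j1, hj1, e1⟩ := hy j hj
    obtain ⟨j2, hj2, e2⟩ := hx j1 hj1
    exact ⟨j2, hj2, by rw [← e2, ← e1]; group⟩
  | inv x _ hx =>
    have hpow : ∀ n : ℕ, ∀ j < N, ∃ j' < N,
        x ^ n * tperm (arr 120 S j) * (x ^ n)⁻¹ = tperm (arr 120 S j') := by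
      intro n
      induction n with
      | zero => intro j hj; exact ⟨j, hj, by simp⟩
      | succ n ihn =>
        intro j hj
        obtain ⟨j1, hj1, e1⟩ := ihn j hj
        obtain ⟨j2, hj2, e2⟩ := hx j1 hj1
        exact ⟨j2, hj2, by rw [← e2, ← e1, pow_succ']; group⟩
    have hinv : x⁻¹ = x ^ (orderOf x - 1) := by
      have hpos : 0 < orderOf x := orderOf_pos x
      apply inv_eq_of_mul_eq_one_right
      rw [← pow_succ', Nat.sub_add_cancel hpos, pow_orderOf_eq_one]
    rw [hinv]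
    exact hpow _

theorem Cert.complete (h : Cert S C D P0 P1 P2 T f cmax N j0) (x : Equiv.Perm GolayPt)
    (hx : x ∈ M24) (h2 : orderOf x = 2) (hf : fx x = f) :
    ∃ j < N, x = tperm (arr 120 S j) := by
  obtain ⟨X, hX, c, hc, rfl⟩ := order2_class x hx h2
  have hXv : validPerm X = true := by
    simp only [List.mem_cons, List.not_mem_nil, or_false] at hX
    rcases hX with rfl | rfl
    · exact repsElts_ok.2.2.1
    · exact repsElts_ok.2.2.2.1
  have hXT : X = T := h.hX X hX (by rw [← hf, fx_conj, fx_tperm hXv])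
  obtain ⟨j', hj', e⟩ := h.closed c hc j0 h.root.1
  exact ⟨j', hj', by rw [← e, h.root.2, hXT]⟩

theorem Cert.lt_of_lt (h : Cert S C D P0 P1 P2 T f cmax N j0) :
    ∀ j, j < N → ∀ i, i < j → arr 120 S i < arr 120 S j := by
  intro j
  induction j with
  | zero => intro _ i hi; omega
  | succ j ih =>
    intro hj i hi
    have hstep : arr 120 S j < arr 120 S (j + 1) := by
      have h1 := h.inc j (by omega)
      simp only [incOK, Nat.blt_eq] at h1
      exact h1
    rcases Nat.lt_succ_iff_lt_or_eq.mp hi with hi' | rfl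
    · exact lt_trans (ih (by omega) i hi') hstep
    · exact hstep

theorem Cert.inj (h : Cert S C D P0 P1 P2 T f cmax N j0) :
    ∀ j < N, ∀ j' < N, tperm (arr 120 S j) = tperm (arr 120 S j') → j = j' := by
  intro j hj j' hj' e
  have e' : arr 120 S j = arr 120 S j' :=
    tperm_inj (h.valid hj) (h.valid hj') (objAt_lt 120 _ _) (objAt_lt 120 _ _) e
  rcases lt_trichotomy j j' with hlt | heq | hgt
  · exact absurd e' (ne_of_lt (h.lt_of_lt j' hj' j hlt))
  · exact heq
  · exact absurd e'.symm (ne_of_lt (h.lt_of_lt j hj j' hgt))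

theorem Cert.type (h : Cert S C D P0 P1 P2 T f cmax N j0) {j : ℕ} (hj : j < N) (x t : ↥M24)
    (hx : (x : Equiv.Perm GolayPt) = tperm (arr 120 S j))
    (ht : (t : Equiv.Perm GolayPt) = tperm T) :
    code (arr 16 C j) < cmax ∧ TypeM (code (arr 16 C j)) (x * t) := by
  have he := h.ent j hj
  simp only [entOK, forceNat_eq, Bool.and_eq_true, Nat.blt_eq] at he
  obtain ⟨⟨⟨⟨hvX, hvY⟩, hmul⟩, hcm⟩, hty⟩ := he
  have hprod : ((x * t : ↥M24) : Equiv.Perm GolayPt) = tperm (mulTab (arr 120 S j) T 24) := by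
    rw [Subgroup.coe_mul, hx, ht]
    exact tperm_mul_of_mulOK hvX (isM24_valid h.hT.1) hvY hmul
  exact ⟨hcm, typeM_of_ok hvY (lt_of_lt_of_le hcm h.hc) hty _ hprod⟩

open Classical in
/-- The `j`-th entry as an element of the group. -/
noncomputable def elM (S : List ℕ) (j : ℕ) : ↥M24 :=
  if hm : tperm (arr 120 S j) ∈ M24 then ⟨_, hm⟩ else 1

theorem Cert.elM_coe (h : Cert S C D P0 P1 P2 T f cmax N j0) {j : ℕ} (hj : j < N) :
    ((elM S j : ↥M24) : Equiv.Perm GolayPt) = tperm (arr 120 S j) := by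
  unfold elM
  rw [dif_pos (h.mem hj)]

/-- The number of involutions `x` of the class such that `x * t` has the type with code `k`. -/
theorem Cert.count (h : Cert S C D P0 P1 P2 T f cmax N j0) (t : ↥M24)
    (ht : (t : Equiv.Perm GolayPt) = tperm T) (k : ℕ) :
    Set.ncard {x : ↥M24 | orderOf x = 2 ∧ fixN x = f ∧ TypeM k (x * t)} = cntCode C k N := by
  have hset : {x : ↥M24 | orderOf x = 2 ∧ fixN x = f ∧ TypeM k (x * t)} =
      {x | x ∈ {x : ↥M24 | orderOf x = 2 ∧ fixN x = f} ∧ TypeM k (x * t)} := by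
    ext x
    simp only [Set.mem_ofPred_eq, and_assoc]
  rw [hset, cntCode, cntAcc_eq, Nat.zero_add]
  apply ncard_list _ (elM S) N
  · rintro x ⟨h2, hf⟩
    obtain ⟨j, hj, e⟩ := h.complete (x : Equiv.Perm GolayPt) x.2
      (by rw [Subgroup.orderOf_coe]; exact h2) hf
    exact ⟨j, hj, Subtype.ext (by rw [h.elM_coe hj]; exact e)⟩
  · intro j hj
    refine ⟨?_, ?_⟩
    · rw [← Subgroup.orderOf_coe, h.elM_coe hj]; exact h.order hj
    · show fx _ = f
      rw [h.elM_coe hj]; exact h.fix hj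
  · intro j hj j' hj' e
    apply h.inj j hj j' hj'
    rw [← h.elM_coe hj, ← h.elM_coe hj', e]
  · intro j hj
    obtain ⟨hcm, hty⟩ := h.type hj (elM S j) t (h.elM_coe hj) ht
    constructor
    · intro hk
      have e1 := typeM_kind hk
      have e2 := typeM_kind hty
      rw [e2, ← e1]
      exact Nat.beq_refl k
    · intro hb
      have e : code (arr 16 C j) = k := Nat.eq_of_beq_eq_true hb
      rw [← e]; exact hty

/-- The types of the products of odd order. -/
theorem Cert.odd (h : Cert S C D P0 P1 P2 T f cmax N j0) (t : ↥M24)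
    (ht : (t : Equiv.Perm GolayPt) = tperm T) (x : ↥M24) (h2 : orderOf x = 2) (hf : fixN x = f)
    (hodd : ¬ 2 ∣ orderOf (x * t)) :
    x * t = 1 ∨ orderOf (x * t) = 3 ∨ orderOf (x * t) = 5 ∨
      (5 < cmax ∧ orderOf (x * t) = 11) := by
  obtain ⟨j, hj, e⟩ := h.complete (x : Equiv.Perm GolayPt) x.2
    (by rw [Subgroup.orderOf_coe]; exact h2) hf
  obtain ⟨hcm, hty⟩ := h.type hj x t e ht
  obtain ⟨k, hk⟩ : ∃ k, code (arr 16 C j) = k := ⟨_, rfl⟩
  rw [hk] at hcm hty
  have hk6 : k < 6 := lt_of_lt_of_le hcm h.hc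
  interval_cases k
  · exact absurd hty hodd
  · exact Or.inl hty
  · exact Or.inr (Or.inl hty.1)
  · exact Or.inr (Or.inl hty.1)
  · exact Or.inr (Or.inr (Or.inl hty))
  · exact Or.inr (Or.inr (Or.inr ⟨hcm, hty⟩))

end

end Cfsg.Agent.Lib.helper22.M24E
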