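import Mathlib
import Cfsg.Agent.Lib.helper22.M24E_Defs
import Cfsg.Agent.Lib.helper22.M24E_DataAS
import Cfsg.Agent.Lib.helper22.M24E_DataAP
import Cfsg.Agent.Lib.helper22.M24E_Core
import Cfsg.Agent.Lib.helper22.M24E_A_Ent0
import Cfsg.Agent.Lib.helper22.M24E_A_Ent1
import Cfsg.Agent.Lib.helper22.M24E_A_Cj0
import Cfsg.Agent.Lib.helper22.M24E_A_Cj1
import Cfsg.Agent.Lib.helper22.M24E_A_Cj2
import Cfsg.Agent.Lib.helper22.M24E_A_Misc

/-!
The certificate of an involution class of the group of the length-24 code, and the resulting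
enumeration statement.
-/

set_option autoImplicit false

namespace Cfsg.Agent.Lib.helper22.M24E

open Cfsg Cfsg.Agent.Lib.helper94 Cfsg.Agent.Lib.helper33.M24B

theorem certA : Cert clsA crtA depA ptrA0 ptrA1 ptrA2 X2A 8 5 11385 1975 where
  ent := by
    intro j hj
    by_cases h0 : j < 5700
    · exact all_range (f := entOK clsA crtA X2A 5) (a := 0) entA0 j (by omega) (by omega)
    exact all_range (f := entOK clsA crtA X2A 5) (a := 5700) entA1 j (by omega) (by omega)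
  cj0 := (allBelow_iff _ _).mp cjA0
  cj1 := (allBelow_iff _ _).mp cjA1
  cj2 := (allBelow_iff _ _).mp cjA2
  reach := (allBelow_iff _ _).mp reachA
  inc := (allBelow_iff _ _).mp incA
  root := ⟨by norm_num, rootA⟩
  hT := ⟨baseA.1, baseA.2.1, baseA.2.2.1, by norm_num⟩
  hX := by
    intro X hX hf
    simp only [List.mem_cons, List.not_mem_nil, or_false] at hX
    rcases hX with rfl | rfl
    · rfl
    · exact absurd hf baseA.2.2.2
  hc := by norm_num

theorem enumA_core : ∃ t : ↥M24, orderOf t = 2 ∧ fixN t = 8 ∧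
    (∀ x : ↥M24, orderOf x = 2 → fixN x = 8 → ¬ 2 ∣ orderOf (x * t) →
      x * t = 1 ∨ orderOf (x * t) = 3 ∨ orderOf (x * t) = 5) ∧
    Set.ncard {x : ↥M24 | orderOf x = 2 ∧ fixN x = 8 ∧ orderOf (x * t) = 3 ∧ fixN (x * t) = 6}
      = 896 ∧
    Set.ncard {x : ↥M24 | orderOf x = 2 ∧ fixN x = 8 ∧ orderOf (x * t) = 3 ∧ fixN (x * t) = 0}
      = 128 ∧
    Set.ncard {x : ↥M24 | orderOf x = 2 ∧ fixN x = 8 ∧ orderOf (x * t) = 5} = 1792 := by
  have h := certA
  have ht : ((⟨tperm X2A, tperm_mem_M24 h.hT.1⟩ : ↥M24) : Equiv.Perm GolayPt) = tperm X2A := rfl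
  refine ⟨⟨tperm X2A, tperm_mem_M24 h.hT.1⟩, ?_, ?_, ?_, ?_, ?_, ?_⟩
  · rw [← Subgroup.orderOf_coe]; exact h.order_T
  · show fx (tperm X2A) = 8
    rw [fx_tperm (isM24_valid h.hT.1)]; exact h.hT.2.2.1
  · intro x h2 hf hodd
    rcases h.odd _ ht x h2 hf hodd with h1 | h1 | h1 | ⟨h0, _⟩
    · exact Or.inl h1
    · exact Or.inr (Or.inl h1)
    · exact Or.inr (Or.inr h1)
    · exact absurd h0 (by norm_num)
  · exact (h.count _ ht 2).trans cntA.1
  · exact (h.count _ ht 3).trans cntA.2.1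
  · exact (h.count _ ht 4).trans cntA.2.2

end Cfsg.Agent.Lib.helper22.M24E
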