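import Mathlib
import Cfsg.Agent.Lib.helper33.M24BDefs
import Cfsg.Agent.Lib.helper22.M24E_A

/-!
Project S5006, piece ENUM_A.
-/

set_option autoImplicit false
open Cfsg Cfsg.Agent.Lib.helper33.M24B
open scoped ComplexConjugate

namespace Cfsg.Agent.Lib.helper22.M24B

/-- ENUM_A -/
theorem enum_A : ∃ t : ↥M24, orderOf t = 2 ∧ fixN t = 8 ∧
    (∀ x : ↥M24, orderOf x = 2 → fixN x = 8 → ¬ 2 ∣ orderOf (x * t) →
      x * t = 1 ∨ orderOf (x * t) = 3 ∨ orderOf (x * t) = 5) ∧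
    Set.ncard {x : ↥M24 | orderOf x = 2 ∧ fixN x = 8 ∧ orderOf (x * t) = 3 ∧ fixN (x * t) = 6}
      = 896 ∧
    Set.ncard {x : ↥M24 | orderOf x = 2 ∧ fixN x = 8 ∧ orderOf (x * t) = 3 ∧ fixN (x * t) = 0}
      = 128 ∧
    Set.ncard {x : ↥M24 | orderOf x = 2 ∧ fixN x = 8 ∧ orderOf (x * t) = 5} = 1792 := by
  exact Cfsg.Agent.Lib.helper22.M24E.enumA_core

end Cfsg.Agent.Lib.helper22.M24B
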