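import Mathlib
import Cfsg.Agent.Lib.helper33.M24BDefs

/-!
Project S5006, piece RELGEN: the relation obtained from the vanishing of a shifted class sum,
from abstract versions of the pieces SHIFT, POW and DIH.
-/

set_option autoImplicit false
open Cfsg Cfsg.Agent.Lib.helper33.M24B

namespace Cfsg.Agent.Lib.helper22.M24B

theorem rel_gen_of {G : Type*} [Group G] (χ : G → ℂ)
    (hv : Van χ)
    (L : Finset G) (hL2 : ∀ x ∈ L, orderOf x = 2)
    (t : G) (ht : t ∈ L)
    (hshift : ∑ x ∈ L, χ (x * t) = 0)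
    (hpow : ∀ (n : ℕ), n.Prime → ∀ (Y : Finset G), (∀ y ∈ Y, orderOf y = n) →
      (∀ y ∈ Y, ∀ k ∈ Finset.Ico 1 n, y ^ k ∈ Y) → ∀ (c : ℂ),
      (∀ y ∈ Y, ∑ k ∈ Finset.Ico 1 n, χ (y ^ k) = c) →
      ((n : ℂ) - 1) * ∑ y ∈ Y, χ y = (Y.card : ℂ) * c)
    (hdih : ∀ x : G, x ∈ L → ¬ 2 ∣ orderOf (x * t) → ∀ k : ℕ, (x * t) ^ k * t ∈ L)
    {ι : Type} [Fintype ι] (T : ι → G → Prop) (n : ι → ℕ) (hn : ∀ i, (n i).Prime)
    (hn2 : ∀ i, n i ≠ 2) (hT : ∀ i y, T i y → orderOf y = n i)
    (hTpow : ∀ i y, T i y → ∀ k ∈ Finset.Ico 1 (n i), T i (y ^ k))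
    (hTdisj : ∀ i j y, T i y → T j y → i = j)
    (s : ι → ℂ) (hs : ∀ i y, T i y → psum χ (n i) y = s i)
    (N : ι → ℕ) (hN : ∀ i, Set.ncard {x : G | x ∈ L ∧ T i (x * t)} = N i)
    (hex : ∀ x ∈ L, ¬ 2 ∣ orderOf (x * t) → x * t = 1 ∨ ∃ i, T i (x * t)) :
    χ 1 + ∑ i, (N i : ℂ) / ((n i : ℂ) - 1) * s i = 0 := by
  classical
  have ht2 : t * t = 1 := by
    have := pow_orderOf_eq_one t
    rw [hL2 t ht, pow_two] at this
    exact this
  have hTne : ∀ i, ¬ T i 1 := by
    intro i h
    have := hT i 1 h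
    rw [orderOf_one] at this
    exact (hn i).one_lt.ne this
  have hTodd : ∀ i y, T i y → ¬ 2 ∣ orderOf y := by
    intro i y h hd
    rw [hT i y h] at hd
    exact hn2 i ((Nat.prime_dvd_prime_iff_eq Nat.prime_two (hn i)).mp hd).symm
  have hsplit : ∀ x ∈ L, χ (x * t) =
      (if x = t then χ 1 else 0) + ∑ i, (if T i (x * t) then χ (x * t) else 0) := by
    intro x hx
    by_cases hev : 2 ∣ orderOf (x * t)
    · have hxt : x ≠ t := by
        rintro rfl
        rw [ht2, orderOf_one] at hev
        norm_num at hev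
      rw [hv _ hev, if_neg hxt, zero_add]
      symm
      apply Finset.sum_eq_zero
      intro i _
      rw [if_neg (fun h => hTodd i _ h hev)]
    · rcases hex x hx hev with h1 | ⟨i₀, hi₀⟩
      · have hxt : x = t := by
          have : x = t⁻¹ := eq_inv_of_mul_eq_one_left h1
          rw [this]
          exact inv_eq_of_mul_eq_one_left ht2
        rw [if_pos hxt, h1]
        symm
        rw [add_eq_left]
        apply Finset.sum_eq_zero
        intro i _
        rw [if_neg (hTne i)]
      · have hxt : x ≠ t := by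
          rintro rfl
          rw [ht2] at hi₀
          exact hTne i₀ hi₀
        rw [if_neg hxt, zero_add, Finset.sum_eq_single i₀]
        · rw [if_pos hi₀]
        · intro j _ hj
          rw [if_neg (fun h => hj (hTdisj j i₀ _ h hi₀))]
        · intro h
          exact absurd (Finset.mem_univ _) h
  have hsum : ∑ x ∈ L, χ (x * t) =
      χ 1 + ∑ i, ∑ x ∈ L.filter (fun x => T i (x * t)), χ (x * t) := by
    rw [Finset.sum_congr rfl hsplit, Finset.sum_add_distrib, Finset.sum_ite_eq' L t (fun _ => χ 1),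
      if_pos ht, Finset.sum_comm]
    congr 1
    apply Finset.sum_congr rfl
    intro i _
    rw [Finset.sum_filter]
  have hpart : ∀ i, ∑ x ∈ L.filter (fun x => T i (x * t)), χ (x * t) =
      (N i : ℂ) / ((n i : ℂ) - 1) * s i := by
    intro i
    have hinj : Function.Injective (fun x : G => x * t) := mul_left_injective t
    have himg : ∑ x ∈ L.filter (fun x => T i (x * t)), χ (x * t) =
        ∑ y ∈ (L.filter (fun x => T i (x * t))).image (fun x => x * t), χ y := by
      rw [Finset.sum_image (fun a _ b _ h => hinj h)]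
    have hcard : ((L.filter (fun x => T i (x * t))).image (fun x => x * t)).card = N i := by
      rw [Finset.card_image_of_injective _ hinj, ← hN i, ← Set.ncard_coe_finset]
      congr 1
      ext x
      simp
    have hne : (n i : ℂ) - 1 ≠ 0 := by
      rw [sub_ne_zero]
      exact_mod_cast (hn i).one_lt.ne'
    have hP := hpow (n i) (hn i) ((L.filter (fun x => T i (x * t))).image (fun x => x * t))
      (by
        intro y hy
        obtain ⟨x, hx, rfl⟩ := Finset.mem_image.mp hy
        exact hT i _ (Finset.mem_filter.mp hx).2)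
      (by
        intro y hy k hk
        obtain ⟨x, hx, rfl⟩ := Finset.mem_image.mp hy
        obtain ⟨hxL, hxT⟩ := Finset.mem_filter.mp hx
        refine Finset.mem_image.mpr ⟨(x * t) ^ k * t, Finset.mem_filter.mpr ⟨?_, ?_⟩, ?_⟩
        · exact hdih x hxL (hTodd i _ hxT) k
        · rw [mul_assoc, ht2, mul_one]
          exact hTpow i _ hxT k hk
        · show (x * t) ^ k * t * t = (x * t) ^ k
          rw [mul_assoc, ht2, mul_one])
      (s i)
      (by
        intro y hy
        obtain ⟨x, hx, rfl⟩ := Finset.mem_image.mp hy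
        exact hs i _ (Finset.mem_filter.mp hx).2)
    rw [hcard] at hP
    rw [himg, div_mul_eq_mul_div, eq_div_iff hne, mul_comm]
    exact hP
  rw [hsum, Finset.sum_congr rfl (fun i _ => hpart i)] at hshift
  exact hshift

end Cfsg.Agent.Lib.helper22.M24B
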