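import Mathlib
import Cfsg.Agent.Lib.helper33.M24BDefs
import Cfsg.Agent.Lib.helper22.M24B_RELGENa
import Cfsg.Agent.Lib.helper79.M24B_SHIFT
import Cfsg.Agent.Lib.helper92.M24B_POW
import Cfsg.Agent.Lib.helper92.M24B_DIH

/-!
Project S5006, piece RELGEN.
-/

set_option autoImplicit false
open Cfsg Cfsg.Agent.Lib.helper33.M24B
open scoped ComplexConjugate

namespace Cfsg.Agent.Lib.helper22.M24B

/-- RELGEN -/
theorem rel_gen {G : Type*} [Group G] [Fintype G] [DecidableEq G] (χ : IrrCharacter G)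
    (hv : Van (χ : G → ℂ))
    (L : Finset G) (hL : ∀ g x : G, x ∈ L → g * x * g⁻¹ ∈ L) (hL2 : ∀ x ∈ L, orderOf x = 2)
    (t : G) (ht : t ∈ L)
    {ι : Type} [Fintype ι] (T : ι → G → Prop) (n : ι → ℕ) (hn : ∀ i, (n i).Prime)
    (hn2 : ∀ i, n i ≠ 2) (hT : ∀ i y, T i y → orderOf y = n i)
    (hTpow : ∀ i y, T i y → ∀ k ∈ Finset.Ico 1 (n i), T i (y ^ k))
    (hTdisj : ∀ i j y, T i y → T j y → i = j)
    (s : ι → ℂ) (hs : ∀ i y, T i y → psum (χ : G → ℂ) (n i) y = s i)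
    (N : ι → ℕ) (hN : ∀ i, Set.ncard {x : G | x ∈ L ∧ T i (x * t)} = N i)
    (hex : ∀ x ∈ L, ¬ 2 ∣ orderOf (x * t) → x * t = 1 ∨ ∃ i, T i (x * t)) :
    (χ : G → ℂ) 1 + ∑ i, (N i : ℂ) / ((n i : ℂ) - 1) * s i = 0 := by
  have hsq : ∀ x ∈ L, x * x = 1 := by
    intro x hx
    have := pow_orderOf_eq_one x
    rw [hL2 x hx, pow_two] at this
    exact this
  exact rel_gen_of (χ : G → ℂ) hv L hL2 t ht
    (Cfsg.Agent.Lib.helper79.M24B.shift_sum_zero χ L hL (fun x hx => hv x (by rw [hL2 x hx])) t)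
    (fun n hn Y hY hp c hc => Cfsg.Agent.Lib.helper92.M24B.pow_sum n hn Y hY hp _ c hc)
    (fun x hx hodd k => Cfsg.Agent.Lib.helper92.M24B.dih_pow_mem (↑L) (fun g x hx => hL g x hx)
      t ht (hsq t ht) x (hsq x hx) hodd k)
    T n hn hn2 hT hTpow hTdisj s hs N hN hex

end Cfsg.Agent.Lib.helper22.M24B
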