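import Mathlib
import Cfsg.Agent.Lib.helper33.M24BDefs
import Cfsg.Agent.Lib.helper22.M24B_RELGENa

/-!
Project S5006, pieces REL_A and REL_B from abstract versions of the pieces SHIFT, POW, DIH, FIX3,
ENUM_A and ENUM_B.
-/

set_option autoImplicit false
open Cfsg Cfsg.Agent.Lib.helper33.M24B

namespace Cfsg.Agent.Lib.helper22.M24B

theorem h22_fixN_conj (g x : ↥M24) : fixN (g * x * g⁻¹) = fixN x := by
  unfold fixN
  apply Finset.card_bij (fun p _ => ((g : Equiv.Perm GolayPt))⁻¹ p)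
  · intro p hp
    rw [Finset.mem_filter] at hp ⊢
    refine ⟨Finset.mem_univ _, ?_⟩
    have h := hp.2
    rw [Subgroup.coe_mul, Subgroup.coe_mul, Equiv.Perm.mul_apply, Equiv.Perm.mul_apply,
      Subgroup.coe_inv] at h
    rw [Equiv.Perm.eq_inv_iff_eq]
    exact h
  · intro a _ b _ h
    exact ((g : Equiv.Perm GolayPt))⁻¹.injective h
  · intro q hq
    rw [Finset.mem_filter] at hq
    have e : ((g : Equiv.Perm GolayPt))⁻¹ ((g : Equiv.Perm GolayPt) q) = q :=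
      Equiv.Perm.inv_eq_iff_eq.mpr rfl
    refine ⟨(g : Equiv.Perm GolayPt) q, ?_, e⟩
    rw [Finset.mem_filter]
    refine ⟨Finset.mem_univ _, ?_⟩
    rw [Subgroup.coe_mul, Subgroup.coe_mul, Equiv.Perm.mul_apply, Equiv.Perm.mul_apply,
      Subgroup.coe_inv, e, hq.2]

theorem h22_orderOf_conj {G : Type*} [Group G] (g x : G) : orderOf (g * x * g⁻¹) = orderOf x :=
  orderOf_injective (MulAut.conj g).toMonoidHom (MulAut.conj g).injective x

theorem h22_fin3 : ∀ i : Fin 3, i = 0 ∨ i = 1 ∨ i = 2 := by decide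

theorem h22_fin4 : ∀ i : Fin 4, i = 0 ∨ i = 1 ∨ i = 2 ∨ i = 3 := by decide

theorem h22_pow_prime {G : Type*} [Group G] (y : G) (p : ℕ) (hp : p.Prime) (h : orderOf y = p)
    (k : ℕ) (hk : k ∈ Finset.Ico 1 p) : orderOf (y ^ k) = p := by
  rw [Finset.mem_Ico] at hk
  have hc : (orderOf y).Coprime k := by
    rw [h]
    exact (Nat.Prime.coprime_iff_not_dvd hp).mpr (Nat.not_dvd_of_pos_of_lt hk.1 hk.2)
  rw [hc.orderOf_pow, h]

theorem h22_pow3 (hfix : ∀ y : ↥M24, orderOf y = 3 →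
      (fixN y = 6 ∨ fixN y = 0) ∧ fixN (y ^ 2) = fixN y)
    (y : ↥M24) (h : orderOf y = 3) (k : ℕ) (hk : k ∈ Finset.Ico 1 3) :
    fixN (y ^ k) = fixN y := by
  rw [Finset.mem_Ico] at hk
  obtain ⟨h1, h3⟩ := hk
  interval_cases k
  · rw [pow_one]
  · exact (hfix y h).2

theorem rel_A_of (χ : ↥M24 → ℂ) (hv : Van χ) (sA sB s5 : ℂ)
    (hA : ∀ y : ↥M24, orderOf y = 3 → fixN y = 6 → psum χ 3 y = sA)
    (hB : ∀ y : ↥M24, orderOf y = 3 → fixN y = 0 → psum χ 3 y = sB)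
    (h5 : ∀ y : ↥M24, orderOf y = 5 → psum χ 5 y = s5)
    (hshift : ∀ (L : Finset ↥M24), (∀ g x : ↥M24, x ∈ L → g * x * g⁻¹ ∈ L) →
      (∀ x ∈ L, χ x = 0) → ∀ g : ↥M24, ∑ x ∈ L, χ (x * g) = 0)
    (hpow : ∀ (n : ℕ), n.Prime → ∀ (Y : Finset ↥M24), (∀ y ∈ Y, orderOf y = n) →
      (∀ y ∈ Y, ∀ k ∈ Finset.Ico 1 n, y ^ k ∈ Y) → ∀ (c : ℂ),
      (∀ y ∈ Y, ∑ k ∈ Finset.Ico 1 n, χ (y ^ k) = c) →
      ((n : ℂ) - 1) * ∑ y ∈ Y, χ y = (Y.card : ℂ) * c)
    (hdih : ∀ (L : Set ↥M24), (∀ g x : ↥M24, x ∈ L → g * x * g⁻¹ ∈ L) → ∀ t : ↥M24, t ∈ L →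
      t * t = 1 → ∀ x : ↥M24, x * x = 1 → ¬ 2 ∣ orderOf (x * t) →
      ∀ k : ℕ, (x * t) ^ k * t ∈ L)
    (hfix : ∀ y : ↥M24, orderOf y = 3 → (fixN y = 6 ∨ fixN y = 0) ∧ fixN (y ^ 2) = fixN y)
    (henum : ∃ t : ↥M24, orderOf t = 2 ∧ fixN t = 8 ∧
      (∀ x : ↥M24, orderOf x = 2 → fixN x = 8 → ¬ 2 ∣ orderOf (x * t) →
        x * t = 1 ∨ orderOf (x * t) = 3 ∨ orderOf (x * t) = 5) ∧
      Set.ncard {x : ↥M24 | orderOf x = 2 ∧ fixN x = 8 ∧ orderOf (x * t) = 3 ∧ fixN (x * t) = 6}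
        = 896 ∧
      Set.ncard {x : ↥M24 | orderOf x = 2 ∧ fixN x = 8 ∧ orderOf (x * t) = 3 ∧ fixN (x * t) = 0}
        = 128 ∧
      Set.ncard {x : ↥M24 | orderOf x = 2 ∧ fixN x = 8 ∧ orderOf (x * t) = 5} = 1792) :
    χ 1 + 448 * sA + 64 * sB + 448 * s5 = 0 := by
  classical
  have : Fintype ↥M24 := Fintype.ofFinite _
  obtain ⟨t, ht2, ht8, hex, hN1, hN2, hN3⟩ := henum
  obtain ⟨L, hLmem⟩ : ∃ L : Finset ↥M24, ∀ x, x ∈ L ↔ orderOf x = 2 ∧ fixN x = 8 :=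
    ⟨Finset.univ.filter (fun x => orderOf x = 2 ∧ fixN x = 8), fun x => by simp⟩
  have hL : ∀ g x : ↥M24, x ∈ L → g * x * g⁻¹ ∈ L := by
    intro g x hx
    rw [hLmem] at hx ⊢
    rw [h22_orderOf_conj, h22_fixN_conj]
    exact hx
  have hL2 : ∀ x ∈ L, orderOf x = 2 := fun x hx => ((hLmem x).mp hx).1
  have htL : t ∈ L := (hLmem t).mpr ⟨ht2, ht8⟩
  have hsq : ∀ x ∈ L, x * x = 1 := by
    intro x hx
    have := pow_orderOf_eq_one x
    rw [hL2 x hx, pow_two] at this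
    exact this
  have hvan : ∀ x ∈ L, χ x = 0 := fun x hx => hv x (by rw [hL2 x hx])
  have key : χ 1 + ∑ i : Fin 3,
      ((if i = 0 then 896 else if i = 1 then 128 else 1792 : ℕ) : ℂ) /
        (((if i = 2 then 5 else 3 : ℕ) : ℂ) - 1) *
        (if i = 0 then sA else if i = 1 then sB else s5) = 0 := by
    refine rel_gen_of χ hv L hL2 t htL (hshift L hL hvan t) hpow
      (fun x hx hodd k => hdih (↑L) (fun g x hx => hL g x hx) t htL (hsq t htL) x (hsq x hx) hodd k)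
      (fun i y => (i = 0 ∧ orderOf y = 3 ∧ fixN y = 6) ∨ (i = 1 ∧ orderOf y = 3 ∧ fixN y = 0) ∨
        (i = 2 ∧ orderOf y = 5))
      (fun i => if i = 2 then 5 else 3) ?_ ?_ ?_ ?_ ?_
      (fun i => if i = 0 then sA else if i = 1 then sB else s5) ?_
      (fun i => if i = 0 then 896 else if i = 1 then 128 else 1792) ?_ ?_
    · intro i
      show (if i = 2 then 5 else 3).Prime
      split_ifs <;> norm_num
    · intro i
      show (if i = 2 then 5 else 3) ≠ 2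
      split_ifs <;> norm_num
    · rintro i y (⟨rfl, h, -⟩ | ⟨rfl, h, -⟩ | ⟨rfl, h⟩)
      · show orderOf y = if (0 : Fin 3) = 2 then 5 else 3
        rw [if_neg (by decide)]
        exact h
      · show orderOf y = if (1 : Fin 3) = 2 then 5 else 3
        rw [if_neg (by decide)]
        exact h
      · show orderOf y = if (2 : Fin 3) = 2 then 5 else 3
        rw [if_pos rfl]
        exact h
    · rintro i y (⟨rfl, h, hf⟩ | ⟨rfl, h, hf⟩ | ⟨rfl, h⟩) k hk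
      · have hk' : k ∈ Finset.Ico 1 3 := hk
        exact Or.inl ⟨rfl, h22_pow_prime y 3 (by norm_num) h k hk',
          (h22_pow3 hfix y h k hk').trans hf⟩
      · have hk' : k ∈ Finset.Ico 1 3 := hk
        exact Or.inr (Or.inl ⟨rfl, h22_pow_prime y 3 (by norm_num) h k hk',
          (h22_pow3 hfix y h k hk').trans hf⟩)
      · have hk' : k ∈ Finset.Ico 1 5 := hk
        exact Or.inr (Or.inr ⟨rfl, h22_pow_prime y 5 (by norm_num) h k hk'⟩)
    · rintro i j y (⟨rfl, h, hf⟩ | ⟨rfl, h, hf⟩ | ⟨rfl, h⟩)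
        (⟨rfl, h', hf'⟩ | ⟨rfl, h', hf'⟩ | ⟨rfl, h'⟩) <;> first | rfl | (exfalso; omega)
    · rintro i y (⟨rfl, h, hf⟩ | ⟨rfl, h, hf⟩ | ⟨rfl, h⟩)
      · show psum χ (if (0 : Fin 3) = 2 then 5 else 3) y =
          if (0 : Fin 3) = 0 then sA else if (0 : Fin 3) = 1 then sB else s5
        rw [if_neg (by decide), if_pos rfl]
        exact hA y h hf
      · show psum χ (if (1 : Fin 3) = 2 then 5 else 3) y =
          if (1 : Fin 3) = 0 then sA else if (1 : Fin 3) = 1 then sB else s5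
        rw [if_neg (by decide), if_neg (by decide), if_pos rfl]
        exact hB y h hf
      · show psum χ (if (2 : Fin 3) = 2 then 5 else 3) y =
          if (2 : Fin 3) = 0 then sA else if (2 : Fin 3) = 1 then sB else s5
        rw [if_pos rfl, if_neg (by decide), if_neg (by decide)]
        exact h5 y h
    · intro i
      rcases h22_fin3 i with rfl | rfl | rfl
      · show Set.ncard {x : ↥M24 | x ∈ L ∧ (((0 : Fin 3) = 0 ∧ orderOf (x * t) = 3 ∧
            fixN (x * t) = 6) ∨ ((0 : Fin 3) = 1 ∧ orderOf (x * t) = 3 ∧ fixN (x * t) = 0) ∨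
            ((0 : Fin 3) = 2 ∧ orderOf (x * t) = 5))} =
          if (0 : Fin 3) = 0 then 896 else if (0 : Fin 3) = 1 then 128 else 1792
        rw [if_pos rfl, ← hN1]
        congr 1
        ext x
        constructor
        · rintro ⟨hxL, (⟨-, h3, h6⟩ | ⟨h, -⟩ | ⟨h, -⟩)⟩
          · exact ⟨((hLmem x).mp hxL).1, ((hLmem x).mp hxL).2, h3, h6⟩
          · exact absurd h (by decide)
          · exact absurd h (by decide)
        · rintro ⟨h2, h8, h3, h6⟩
          exact ⟨(hLmem x).mpr ⟨h2, h8⟩, Or.inl ⟨rfl, h3, h6⟩⟩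
      · show Set.ncard {x : ↥M24 | x ∈ L ∧ (((1 : Fin 3) = 0 ∧ orderOf (x * t) = 3 ∧
            fixN (x * t) = 6) ∨ ((1 : Fin 3) = 1 ∧ orderOf (x * t) = 3 ∧ fixN (x * t) = 0) ∨
            ((1 : Fin 3) = 2 ∧ orderOf (x * t) = 5))} =
          if (1 : Fin 3) = 0 then 896 else if (1 : Fin 3) = 1 then 128 else 1792
        rw [if_neg (by decide), if_pos rfl, ← hN2]
        congr 1
        ext x
        constructor
        · rintro ⟨hxL, (⟨h, -⟩ | ⟨-, h3, h6⟩ | ⟨h, -⟩)⟩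
          · exact absurd h (by decide)
          · exact ⟨((hLmem x).mp hxL).1, ((hLmem x).mp hxL).2, h3, h6⟩
          · exact absurd h (by decide)
        · rintro ⟨h2, h8, h3, h6⟩
          exact ⟨(hLmem x).mpr ⟨h2, h8⟩, Or.inr (Or.inl ⟨rfl, h3, h6⟩)⟩
      · show Set.ncard {x : ↥M24 | x ∈ L ∧ (((2 : Fin 3) = 0 ∧ orderOf (x * t) = 3 ∧
            fixN (x * t) = 6) ∨ ((2 : Fin 3) = 1 ∧ orderOf (x * t) = 3 ∧ fixN (x * t) = 0) ∨
            ((2 : Fin 3) = 2 ∧ orderOf (x * t) = 5))} =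
          if (2 : Fin 3) = 0 then 896 else if (2 : Fin 3) = 1 then 128 else 1792
        rw [if_neg (by decide), if_neg (by decide), ← hN3]
        congr 1
        ext x
        constructor
        · rintro ⟨hxL, (⟨h, -⟩ | ⟨h, -⟩ | ⟨-, h5'⟩)⟩
          · exact absurd h (by decide)
          · exact absurd h (by decide)
          · exact ⟨((hLmem x).mp hxL).1, ((hLmem x).mp hxL).2, h5'⟩
        · rintro ⟨h2, h8, h5'⟩
          exact ⟨(hLmem x).mpr ⟨h2, h8⟩, Or.inr (Or.inr ⟨rfl, h5'⟩)⟩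
    · intro x hx hodd
      obtain ⟨h2, h8⟩ := (hLmem x).mp hx
      rcases hex x h2 h8 hodd with h | h | h
      · exact Or.inl h
      · rcases (hfix _ h).1 with hf | hf
        · exact Or.inr ⟨0, Or.inl ⟨rfl, h, hf⟩⟩
        · exact Or.inr ⟨1, Or.inr (Or.inl ⟨rfl, h, hf⟩)⟩
      · exact Or.inr ⟨2, Or.inr (Or.inr ⟨rfl, h⟩)⟩
  rw [Fin.sum_univ_three] at key
  norm_num [Fin.ext_iff] at key
  linear_combination key

theorem rel_B_of (χ : ↥M24 → ℂ) (hv : Van χ) (sA sB s5 s11 : ℂ)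
    (hA : ∀ y : ↥M24, orderOf y = 3 → fixN y = 6 → psum χ 3 y = sA)
    (hB : ∀ y : ↥M24, orderOf y = 3 → fixN y = 0 → psum χ 3 y = sB)
    (h5 : ∀ y : ↥M24, orderOf y = 5 → psum χ 5 y = s5)
    (h11 : ∀ y : ↥M24, orderOf y = 11 → psum χ 11 y = s11)
    (hshift : ∀ (L : Finset ↥M24), (∀ g x : ↥M24, x ∈ L → g * x * g⁻¹ ∈ L) →
      (∀ x ∈ L, χ x = 0) → ∀ g : ↥M24, ∑ x ∈ L, χ (x * g) = 0)
    (hpow : ∀ (n : ℕ), n.Prime → ∀ (Y : Finset ↥M24), (∀ y ∈ Y, orderOf y = n) →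
      (∀ y ∈ Y, ∀ k ∈ Finset.Ico 1 n, y ^ k ∈ Y) → ∀ (c : ℂ),
      (∀ y ∈ Y, ∑ k ∈ Finset.Ico 1 n, χ (y ^ k) = c) →
      ((n : ℂ) - 1) * ∑ y ∈ Y, χ y = (Y.card : ℂ) * c)
    (hdih : ∀ (L : Set ↥M24), (∀ g x : ↥M24, x ∈ L → g * x * g⁻¹ ∈ L) → ∀ t : ↥M24, t ∈ L →
      t * t = 1 → ∀ x : ↥M24, x * x = 1 → ¬ 2 ∣ orderOf (x * t) →
      ∀ k : ℕ, (x * t) ^ k * t ∈ L)
    (hfix : ∀ y : ↥M24, orderOf y = 3 → (fixN y = 6 ∨ fixN y = 0) ∧ fixN (y ^ 2) = fixN y)
    (henum : ∃ t : ↥M24, orderOf t = 2 ∧ fixN t = 0 ∧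
      (∀ x : ↥M24, orderOf x = 2 → fixN x = 0 → ¬ 2 ∣ orderOf (x * t) →
        x * t = 1 ∨ orderOf (x * t) = 3 ∨ orderOf (x * t) = 5 ∨ orderOf (x * t) = 11) ∧
      Set.ncard {x : ↥M24 | orderOf x = 2 ∧ fixN x = 0 ∧ orderOf (x * t) = 3 ∧ fixN (x * t) = 6}
        = 320 ∧
      Set.ncard {x : ↥M24 | orderOf x = 2 ∧ fixN x = 0 ∧ orderOf (x * t) = 3 ∧ fixN (x * t) = 0}
        = 960 ∧
      Set.ncard {x : ↥M24 | orderOf x = 2 ∧ fixN x = 0 ∧ orderOf (x * t) = 5} = 1920 ∧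
      Set.ncard {x : ↥M24 | orderOf x = 2 ∧ fixN x = 0 ∧ orderOf (x * t) = 11} = 7680) :
    χ 1 + 160 * sA + 480 * sB + 480 * s5 + 768 * s11 = 0 := by
  classical
  have : Fintype ↥M24 := Fintype.ofFinite _
  obtain ⟨t, ht2, ht8, hex, hN1, hN2, hN3, hN4⟩ := henum
  obtain ⟨L, hLmem⟩ : ∃ L : Finset ↥M24, ∀ x, x ∈ L ↔ orderOf x = 2 ∧ fixN x = 0 :=
    ⟨Finset.univ.filter (fun x => orderOf x = 2 ∧ fixN x = 0), fun x => by simp⟩
  have hL : ∀ g x : ↥M24, x ∈ L → g * x * g⁻¹ ∈ L := by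
    intro g x hx
    rw [hLmem] at hx ⊢
    rw [h22_orderOf_conj, h22_fixN_conj]
    exact hx
  have hL2 : ∀ x ∈ L, orderOf x = 2 := fun x hx => ((hLmem x).mp hx).1
  have htL : t ∈ L := (hLmem t).mpr ⟨ht2, ht8⟩
  have hsq : ∀ x ∈ L, x * x = 1 := by
    intro x hx
    have := pow_orderOf_eq_one x
    rw [hL2 x hx, pow_two] at this
    exact this
  have hvan : ∀ x ∈ L, χ x = 0 := fun x hx => hv x (by rw [hL2 x hx])
  have key : χ 1 + ∑ i : Fin 4,
      ((if i = 0 then 320 else if i = 1 then 960 else if i = 2 then 1920 else 7680 : ℕ) : ℂ) /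
        (((if i = 2 then 5 else if i = 3 then 11 else 3 : ℕ) : ℂ) - 1) *
        (if i = 0 then sA else if i = 1 then sB else if i = 2 then s5 else s11) = 0 := by
    refine rel_gen_of χ hv L hL2 t htL (hshift L hL hvan t) hpow
      (fun x hx hodd k => hdih (↑L) (fun g x hx => hL g x hx) t htL (hsq t htL) x (hsq x hx) hodd k)
      (fun i y => (i = 0 ∧ orderOf y = 3 ∧ fixN y = 6) ∨ (i = 1 ∧ orderOf y = 3 ∧ fixN y = 0) ∨
        (i = 2 ∧ orderOf y = 5) ∨ (i = 3 ∧ orderOf y = 11))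
      (fun i => if i = 2 then 5 else if i = 3 then 11 else 3) ?_ ?_ ?_ ?_ ?_
      (fun i => if i = 0 then sA else if i = 1 then sB else if i = 2 then s5 else s11) ?_
      (fun i => if i = 0 then 320 else if i = 1 then 960 else if i = 2 then 1920 else 7680) ?_ ?_
    · intro i
      show (if i = 2 then 5 else if i = 3 then 11 else 3).Prime
      split_ifs <;> norm_num
    · intro i
      show (if i = 2 then 5 else if i = 3 then 11 else 3) ≠ 2
      split_ifs <;> norm_num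
    · rintro i y (⟨rfl, h, -⟩ | ⟨rfl, h, -⟩ | ⟨rfl, h⟩ | ⟨rfl, h⟩)
      · show orderOf y = if (0 : Fin 4) = 2 then 5 else if (0 : Fin 4) = 3 then 11 else 3
        rw [if_neg (by decide), if_neg (by decide)]
        exact h
      · show orderOf y = if (1 : Fin 4) = 2 then 5 else if (1 : Fin 4) = 3 then 11 else 3
        rw [if_neg (by decide), if_neg (by decide)]
        exact h
      · show orderOf y = if (2 : Fin 4) = 2 then 5 else if (2 : Fin 4) = 3 then 11 else 3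
        rw [if_pos rfl]
        exact h
      · show orderOf y = if (3 : Fin 4) = 2 then 5 else if (3 : Fin 4) = 3 then 11 else 3
        rw [if_neg (by decide), if_pos rfl]
        exact h
    · rintro i y (⟨rfl, h, hf⟩ | ⟨rfl, h, hf⟩ | ⟨rfl, h⟩ | ⟨rfl, h⟩) k hk
      · have hk' : k ∈ Finset.Ico 1 3 := hk
        exact Or.inl ⟨rfl, h22_pow_prime y 3 (by norm_num) h k hk',
          (h22_pow3 hfix y h k hk').trans hf⟩
      · have hk' : k ∈ Finset.Ico 1 3 := hk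
        exact Or.inr (Or.inl ⟨rfl, h22_pow_prime y 3 (by norm_num) h k hk',
          (h22_pow3 hfix y h k hk').trans hf⟩)
      · have hk' : k ∈ Finset.Ico 1 5 := hk
        exact Or.inr (Or.inr (Or.inl ⟨rfl, h22_pow_prime y 5 (by norm_num) h k hk'⟩))
      · have hk' : k ∈ Finset.Ico 1 11 := hk
        exact Or.inr (Or.inr (Or.inr ⟨rfl, h22_pow_prime y 11 (by norm_num) h k hk'⟩))
    · rintro i j y (⟨rfl, h, hf⟩ | ⟨rfl, h, hf⟩ | ⟨rfl, h⟩ | ⟨rfl, h⟩)
        (⟨rfl, h', hf'⟩ | ⟨rfl, h', hf'⟩ | ⟨rfl, h'⟩ | ⟨rfl, h'⟩) <;> first | rfl | (exfalso; omega)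
    · rintro i y (⟨rfl, h, hf⟩ | ⟨rfl, h, hf⟩ | ⟨rfl, h⟩ | ⟨rfl, h⟩)
      · show psum χ (if (0 : Fin 4) = 2 then 5 else if (0 : Fin 4) = 3 then 11 else 3) y =
          if (0 : Fin 4) = 0 then sA else if (0 : Fin 4) = 1 then sB else
            if (0 : Fin 4) = 2 then s5 else s11
        rw [if_neg (by decide), if_neg (by decide), if_pos rfl]
        exact hA y h hf
      · show psum χ (if (1 : Fin 4) = 2 then 5 else if (1 : Fin 4) = 3 then 11 else 3) y =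
          if (1 : Fin 4) = 0 then sA else if (1 : Fin 4) = 1 then sB else
            if (1 : Fin 4) = 2 then s5 else s11
        rw [if_neg (by decide), if_neg (by decide), if_neg (by decide), if_pos rfl]
        exact hB y h hf
      · show psum χ (if (2 : Fin 4) = 2 then 5 else if (2 : Fin 4) = 3 then 11 else 3) y =
          if (2 : Fin 4) = 0 then sA else if (2 : Fin 4) = 1 then sB else
            if (2 : Fin 4) = 2 then s5 else s11
        rw [if_pos rfl, if_neg (by decide), if_neg (by decide), if_pos rfl]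
        exact h5 y h
      · show psum χ (if (3 : Fin 4) = 2 then 5 else if (3 : Fin 4) = 3 then 11 else 3) y =
          if (3 : Fin 4) = 0 then sA else if (3 : Fin 4) = 1 then sB else
            if (3 : Fin 4) = 2 then s5 else s11
        rw [if_neg (by decide), if_pos rfl, if_neg (by decide), if_neg (by decide),
          if_neg (by decide)]
        exact h11 y h
    · intro i
      rcases h22_fin4 i with rfl | rfl | rfl | rfl
      · show Set.ncard {x : ↥M24 | x ∈ L ∧ (((0 : Fin 4) = 0 ∧ orderOf (x * t) = 3 ∧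
            fixN (x * t) = 6) ∨ ((0 : Fin 4) = 1 ∧ orderOf (x * t) = 3 ∧ fixN (x * t) = 0) ∨
            ((0 : Fin 4) = 2 ∧ orderOf (x * t) = 5) ∨ ((0 : Fin 4) = 3 ∧ orderOf (x * t) = 11))} =
          if (0 : Fin 4) = 0 then 320 else if (0 : Fin 4) = 1 then 960 else
            if (0 : Fin 4) = 2 then 1920 else 7680
        rw [if_pos rfl, ← hN1]
        congr 1
        ext x
        constructor
        · rintro ⟨hxL, (⟨-, h3, h6⟩ | ⟨h, -⟩ | ⟨h, -⟩ | ⟨h, -⟩)⟩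
          · exact ⟨((hLmem x).mp hxL).1, ((hLmem x).mp hxL).2, h3, h6⟩
          · exact absurd h (by decide)
          · exact absurd h (by decide)
          · exact absurd h (by decide)
        · rintro ⟨h2, h8, h3, h6⟩
          exact ⟨(hLmem x).mpr ⟨h2, h8⟩, Or.inl ⟨rfl, h3, h6⟩⟩
      · show Set.ncard {x : ↥M24 | x ∈ L ∧ (((1 : Fin 4) = 0 ∧ orderOf (x * t) = 3 ∧
            fixN (x * t) = 6) ∨ ((1 : Fin 4) = 1 ∧ orderOf (x * t) = 3 ∧ fixN (x * t) = 0) ∨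
            ((1 : Fin 4) = 2 ∧ orderOf (x * t) = 5) ∨ ((1 : Fin 4) = 3 ∧ orderOf (x * t) = 11))} =
          if (1 : Fin 4) = 0 then 320 else if (1 : Fin 4) = 1 then 960 else
            if (1 : Fin 4) = 2 then 1920 else 7680
        rw [if_neg (by decide), if_pos rfl, ← hN2]
        congr 1
        ext x
        constructor
        · rintro ⟨hxL, (⟨h, -⟩ | ⟨-, h3, h6⟩ | ⟨h, -⟩ | ⟨h, -⟩)⟩
          · exact absurd h (by decide)
          · exact ⟨((hLmem x).mp hxL).1, ((hLmem x).mp hxL).2, h3, h6⟩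
          · exact absurd h (by decide)
          · exact absurd h (by decide)
        · rintro ⟨h2, h8, h3, h6⟩
          exact ⟨(hLmem x).mpr ⟨h2, h8⟩, Or.inr (Or.inl ⟨rfl, h3, h6⟩)⟩
      · show Set.ncard {x : ↥M24 | x ∈ L ∧ (((2 : Fin 4) = 0 ∧ orderOf (x * t) = 3 ∧
            fixN (x * t) = 6) ∨ ((2 : Fin 4) = 1 ∧ orderOf (x * t) = 3 ∧ fixN (x * t) = 0) ∨
            ((2 : Fin 4) = 2 ∧ orderOf (x * t) = 5) ∨ ((2 : Fin 4) = 3 ∧ orderOf (x * t) = 11))} =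
          if (2 : Fin 4) = 0 then 320 else if (2 : Fin 4) = 1 then 960 else
            if (2 : Fin 4) = 2 then 1920 else 7680
        rw [if_neg (by decide), if_neg (by decide), if_pos rfl, ← hN3]
        congr 1
        ext x
        constructor
        · rintro ⟨hxL, (⟨h, -⟩ | ⟨h, -⟩ | ⟨-, h5'⟩ | ⟨h, -⟩)⟩
          · exact absurd h (by decide)
          · exact absurd h (by decide)
          · exact ⟨((hLmem x).mp hxL).1, ((hLmem x).mp hxL).2, h5'⟩
          · exact absurd h (by decide)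
        · rintro ⟨h2, h8, h5'⟩
          exact ⟨(hLmem x).mpr ⟨h2, h8⟩, Or.inr (Or.inr (Or.inl ⟨rfl, h5'⟩))⟩
      · show Set.ncard {x : ↥M24 | x ∈ L ∧ (((3 : Fin 4) = 0 ∧ orderOf (x * t) = 3 ∧
            fixN (x * t) = 6) ∨ ((3 : Fin 4) = 1 ∧ orderOf (x * t) = 3 ∧ fixN (x * t) = 0) ∨
            ((3 : Fin 4) = 2 ∧ orderOf (x * t) = 5) ∨ ((3 : Fin 4) = 3 ∧ orderOf (x * t) = 11))} =
          if (3 : Fin 4) = 0 then 320 else if (3 : Fin 4) = 1 then 960 else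
            if (3 : Fin 4) = 2 then 1920 else 7680
        rw [if_neg (by decide), if_neg (by decide), if_neg (by decide), ← hN4]
        congr 1
        ext x
        constructor
        · rintro ⟨hxL, (⟨h, -⟩ | ⟨h, -⟩ | ⟨h, -⟩ | ⟨-, h5'⟩)⟩
          · exact absurd h (by decide)
          · exact absurd h (by decide)
          · exact absurd h (by decide)
          · exact ⟨((hLmem x).mp hxL).1, ((hLmem x).mp hxL).2, h5'⟩
        · rintro ⟨h2, h8, h5'⟩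
          exact ⟨(hLmem x).mpr ⟨h2, h8⟩, Or.inr (Or.inr (Or.inr ⟨rfl, h5'⟩))⟩
    · intro x hx hodd
      obtain ⟨h2, h8⟩ := (hLmem x).mp hx
      rcases hex x h2 h8 hodd with h | h | h | h
      · exact Or.inl h
      · rcases (hfix _ h).1 with hf | hf
        · exact Or.inr ⟨0, Or.inl ⟨rfl, h, hf⟩⟩
        · exact Or.inr ⟨1, Or.inr (Or.inl ⟨rfl, h, hf⟩)⟩
      · exact Or.inr ⟨2, Or.inr (Or.inr (Or.inl ⟨rfl, h⟩))⟩
      · exact Or.inr ⟨3, Or.inr (Or.inr (Or.inr ⟨rfl, h⟩))⟩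
  rw [Fin.sum_univ_four] at key
  norm_num [Fin.ext_iff] at key
  linear_combination key

end Cfsg.Agent.Lib.helper22.M24B
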