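import Mathlib
import Cfsg.Agent.Lib.helper33.M24BDefs
import Cfsg.Agent.Lib.helper22.M24B_RELa
import Cfsg.Agent.Lib.helper79.M24B_SHIFT
import Cfsg.Agent.Lib.helper92.M24B_POW
import Cfsg.Agent.Lib.helper92.M24B_DIH
import Cfsg.Agent.Lib.helper32.M24B_FIX3

/-!
Project S5006, pieces REL_A and REL_B with the enumeration statements ENUM_A / ENUM_B as
hypotheses.
-/

set_option autoImplicit false
open Cfsg Cfsg.Agent.Lib.helper33.M24B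
open scoped ComplexConjugate

namespace Cfsg.Agent.Lib.helper22.M24B

theorem rel_A_of_enum (henum : ∃ t : ↥M24, orderOf t = 2 ∧ fixN t = 8 ∧
    (∀ x : ↥M24, orderOf x = 2 → fixN x = 8 → ¬ 2 ∣ orderOf (x * t) →
      x * t = 1 ∨ orderOf (x * t) = 3 ∨ orderOf (x * t) = 5) ∧
    Set.ncard {x : ↥M24 | orderOf x = 2 ∧ fixN x = 8 ∧ orderOf (x * t) = 3 ∧ fixN (x * t) = 6}
      = 896 ∧
    Set.ncard {x : ↥M24 | orderOf x = 2 ∧ fixN x = 8 ∧ orderOf (x * t) = 3 ∧ fixN (x * t) = 0}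
      = 128 ∧
    Set.ncard {x : ↥M24 | orderOf x = 2 ∧ fixN x = 8 ∧ orderOf (x * t) = 5} = 1792)
    (χ : IrrCharacter ↥M24) (hv : Van (χ : ↥M24 → ℂ)) (sA sB s5 : ℂ)
    (hA : ∀ y : ↥M24, orderOf y = 3 → fixN y = 6 → psum (χ : ↥M24 → ℂ) 3 y = sA)
    (hB : ∀ y : ↥M24, orderOf y = 3 → fixN y = 0 → psum (χ : ↥M24 → ℂ) 3 y = sB)
    (h5 : ∀ y : ↥M24, orderOf y = 5 → psum (χ : ↥M24 → ℂ) 5 y = s5) :
    (χ : ↥M24 → ℂ) 1 + 448 * sA + 64 * sB + 448 * s5 = 0 := by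
  classical
  have : Fintype ↥M24 := Fintype.ofFinite _
  exact rel_A_of (χ : ↥M24 → ℂ) hv sA sB s5 hA hB h5
    (fun L hL hvan g => Cfsg.Agent.Lib.helper79.M24B.shift_sum_zero χ L hL hvan g)
    (fun n hn Y hY hp c hc => Cfsg.Agent.Lib.helper92.M24B.pow_sum n hn Y hY hp _ c hc)
    (fun L hL t ht ht2 x hx2 hodd k =>
      Cfsg.Agent.Lib.helper92.M24B.dih_pow_mem L hL t ht ht2 x hx2 hodd k)
    Cfsg.Agent.Lib.helper32.M24B.fix_three henum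

theorem rel_B_of_enum (henum : ∃ t : ↥M24, orderOf t = 2 ∧ fixN t = 0 ∧
    (∀ x : ↥M24, orderOf x = 2 → fixN x = 0 → ¬ 2 ∣ orderOf (x * t) →
      x * t = 1 ∨ orderOf (x * t) = 3 ∨ orderOf (x * t) = 5 ∨ orderOf (x * t) = 11) ∧
    Set.ncard {x : ↥M24 | orderOf x = 2 ∧ fixN x = 0 ∧ orderOf (x * t) = 3 ∧ fixN (x * t) = 6}
      = 320 ∧
    Set.ncard {x : ↥M24 | orderOf x = 2 ∧ fixN x = 0 ∧ orderOf (x * t) = 3 ∧ fixN (x * t) = 0}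
      = 960 ∧
    Set.ncard {x : ↥M24 | orderOf x = 2 ∧ fixN x = 0 ∧ orderOf (x * t) = 5} = 1920 ∧
    Set.ncard {x : ↥M24 | orderOf x = 2 ∧ fixN x = 0 ∧ orderOf (x * t) = 11} = 7680)
    (χ : IrrCharacter ↥M24) (hv : Van (χ : ↥M24 → ℂ)) (sA sB s5 s11 : ℂ)
    (hA : ∀ y : ↥M24, orderOf y = 3 → fixN y = 6 → psum (χ : ↥M24 → ℂ) 3 y = sA)
    (hB : ∀ y : ↥M24, orderOf y = 3 → fixN y = 0 → psum (χ : ↥M24 → ℂ) 3 y = sB)
    (h5 : ∀ y : ↥M24, orderOf y = 5 → psum (χ : ↥M24 → ℂ) 5 y = s5)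
    (h11 : ∀ y : ↥M24, orderOf y = 11 → psum (χ : ↥M24 → ℂ) 11 y = s11) :
    (χ : ↥M24 → ℂ) 1 + 160 * sA + 480 * sB + 480 * s5 + 768 * s11 = 0 := by
  classical
  have : Fintype ↥M24 := Fintype.ofFinite _
  exact rel_B_of (χ : ↥M24 → ℂ) hv sA sB s5 s11 hA hB h5 h11
    (fun L hL hvan g => Cfsg.Agent.Lib.helper79.M24B.shift_sum_zero χ L hL hvan g)
    (fun n hn Y hY hp c hc => Cfsg.Agent.Lib.helper92.M24B.pow_sum n hn Y hY hp _ c hc)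
    (fun L hL t ht ht2 x hx2 hodd k =>
      Cfsg.Agent.Lib.helper92.M24B.dih_pow_mem L hL t ht ht2 x hx2 hodd k)
    Cfsg.Agent.Lib.helper32.M24B.fix_three henum

end Cfsg.Agent.Lib.helper22.M24B
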