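import Mathlib
import Cfsg.Agent.Lib.helper33.M24BDefs
import Cfsg.Agent.Lib.helper22.M24B_RELb
import Cfsg.Agent.Lib.helper22.M24B_ENUM_A

/-!
Project S5006, piece REL_A.
-/

set_option autoImplicit false
open Cfsg Cfsg.Agent.Lib.helper33.M24B
open scoped ComplexConjugate

namespace Cfsg.Agent.Lib.helper22.M24B

/-- REL_A -/
theorem rel_A (χ : IrrCharacter ↥M24) (hv : Van (χ : ↥M24 → ℂ)) (sA sB s5 : ℂ)
    (hA : ∀ y : ↥M24, orderOf y = 3 → fixN y = 6 → psum (χ : ↥M24 → ℂ) 3 y = sA)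
    (hB : ∀ y : ↥M24, orderOf y = 3 → fixN y = 0 → psum (χ : ↥M24 → ℂ) 3 y = sB)
    (h5 : ∀ y : ↥M24, orderOf y = 5 → psum (χ : ↥M24 → ℂ) 5 y = s5) :
    (χ : ↥M24 → ℂ) 1 + 448 * sA + 64 * sB + 448 * s5 = 0 := by
  exact rel_A_of_enum Cfsg.Agent.Lib.helper22.M24B.enum_A χ hv sA sB s5 hA hB h5

end Cfsg.Agent.Lib.helper22.M24B
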