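import Mathlib
import Cfsg.Agent.Lib.helper68.HallPet
import Cfsg.Agent.Lib.helper65.PearlPow

/-!
S5238 block G, leaf CARD (architect helper33): orders of the lower central series terms.
-/

set_option autoImplicit false

namespace Cfsg.Agent.Lib.helper33.PearlG

open Cfsg.Agent.Lib.helper68 Cfsg.Agent.Lib.helper65.PearlPow

variable {G : Type*} [Group G] [Finite G]

/-- CARD. -/
theorem card_gam (p : ℕ) [Fact p.Prime] (n : ℕ) (hn : 2 ≤ n)
    (h2 : Nat.card (gam G 2) = p ^ (n - 2))
    (hle : ∀ i, 2 ≤ i → Nat.card (gam G i) ≤ p * Nat.card (gam G (i + 1)))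
    (hstrict : ∀ i, 1 ≤ i → gam G (i + 1) = gam G i → gam G i = ⊥) :
    ∀ i, 2 ≤ i → i ≤ n → Nat.card (gam G i) = p ^ (n - i) := by
  have hp : p.Prime := Fact.out
  intro i hi
  induction i, hi using Nat.le_induction with
  | base => intro _; exact h2
  | succ i hi ih =>
    intro hin
    have hci : Nat.card (gam G i) = p ^ (n - i) := ih (by omega)
    have hsub : gam G (i + 1) ≤ gam G i := gam_antitone (Nat.le_succ i)
    have hdvd : Nat.card (gam G (i + 1)) ∣ Nat.card (gam G i) := Subgroup.card_dvd_of_le hsub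
    rw [hci] at hdvd
    obtain ⟨k, hk, hck⟩ := (Nat.dvd_prime_pow hp).1 hdvd
    have h1 := hle i hi
    rw [hci, hck, ← pow_succ'] at h1
    have h3 : n - i ≤ k + 1 := (Nat.pow_le_pow_iff_right hp.one_lt).1 h1
    rcases Nat.lt_or_ge k (n - i) with hlt | hge
    · have : k = n - (i + 1) := by omega
      rw [hck, this]
    · exfalso
      have hkeq : k = n - i := le_antisymm hk hge
      have hcard_eq : Nat.card (gam G (i + 1)) = Nat.card (gam G i) := by rw [hck, hci, hkeq]
      have heq : gam G (i + 1) = gam G i :=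
        Subgroup.eq_of_le_of_card_ge hsub (le_of_eq hcard_eq.symm)
      have hbot : gam G i = ⊥ := hstrict i (by omega) heq
      rw [hbot, Subgroup.card_bot] at hci
      have hpos : 0 < n - i := by omega
      have : 1 < p ^ (n - i) := Nat.one_lt_pow (by omega) hp.one_lt
      omega

end Cfsg.Agent.Lib.helper33.PearlG
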