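import Mathlib
import Cfsg.Agent.Lib.helper68.HallPet

/-!
S5238 (rest, block G of helper88's plan), steps (2) and (3), standalone (helper22):
for a group `G` of order `p ^ n` with an element `x` whose centralizer has order `p ^ 2` and with
`|γ_i(G)| = p ^ (n - i)` for `2 ≤ i ≤ n` (`gam G i` of `helper68.HallPet`):
* `pearl_class`: every element of `γ_2` is `com x g`;
* `pearl_onto`: `g ↦ com x g` maps `γ_w` onto `γ_(w+1)` for `w ≥ 2`;
* `pearl_uniserial`: `m ∈ γ_i \ γ_(i+1)` gives `com m x ∈ γ_(i+1) \ γ_(i+2)` for `2 ≤ i ≤ n - 2`.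
-/

set_option autoImplicit false

namespace Cfsg.Agent.Lib.helper22.PearlUni

open Cfsg.Agent.Lib.helper68 (gam com com_mem gam_antitone)

/-- The injection `K ⧸ C_K(x) → L` given by `g ↦ com x g⁻¹`: counting and surjectivity. -/
theorem h22_com_count {G : Type*} [Group G] [Finite G] (x : G) (K L : Subgroup G)
    (hKL : ∀ g ∈ K, com x g ∈ L) :
    Nat.card K ≤ Nat.card L * Nat.card (Subgroup.centralizer ({x} : Set G) ⊓ K : Subgroup G) ∧
    (Nat.card L * Nat.card (Subgroup.centralizer ({x} : Set G) ⊓ K : Subgroup G) ≤ Nat.card K →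
      ∀ m ∈ L, ∃ g ∈ K, com x g = m) := by
  classical
  obtain ⟨N, hN⟩ : ∃ N : Subgroup K,
      N = (Subgroup.centralizer ({x} : Set G) ⊓ K).subgroupOf K := ⟨_, rfl⟩
  have hf : ∀ a b : K, a⁻¹ * b ∈ N → com x ((a : G)⁻¹) = com x ((b : G)⁻¹) := by
    intro a b hab
    rw [hN] at hab
    have hc : ((a⁻¹ * b : K) : G) ∈ Subgroup.centralizer ({x} : Set G) :=
      (Subgroup.mem_inf.mp (Subgroup.mem_subgroupOf.mp hab)).1
    have hc' := (Subgroup.mem_centralizer_iff.mp hc) x rfl
    simp only [Subgroup.coe_mul, InvMemClass.coe_inv] at hc'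
    have key : (b : G) * x * (b : G)⁻¹ = (a : G) * x * (a : G)⁻¹ := by
      calc (b : G) * x * (b : G)⁻¹ = (a : G) * ((a : G)⁻¹ * (b : G) * x) * (b : G)⁻¹ := by group
        _ = (a : G) * (x * ((a : G)⁻¹ * (b : G))) * (b : G)⁻¹ := by rw [hc']
        _ = (a : G) * x * (a : G)⁻¹ := by group
    unfold com
    calc x⁻¹ * ((a : G)⁻¹)⁻¹ * x * (a : G)⁻¹ = x⁻¹ * ((a : G) * x * (a : G)⁻¹) := by group
      _ = x⁻¹ * ((b : G) * x * (b : G)⁻¹) := by rw [key]
      _ = x⁻¹ * ((b : G)⁻¹)⁻¹ * x * (b : G)⁻¹ := by group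
  obtain ⟨ψ, hψ⟩ : ∃ ψ : K ⧸ N → L, ∀ a : K, ((ψ (QuotientGroup.mk a) : L) : G) = com x ((a : G)⁻¹) :=
    ⟨Quotient.lift (fun g : K => (⟨com x ((g : G)⁻¹), hKL _ (K.inv_mem g.2)⟩ : L))
      (fun a b hab => Subtype.ext (hf a b (QuotientGroup.leftRel_apply.mp hab))), fun a => rfl⟩
  have hinj : Function.Injective ψ := by
    intro q1 q2 h
    induction q1 using QuotientGroup.induction_on with
    | H a =>
      induction q2 using QuotientGroup.induction_on with
      | H b =>
        have h' : com x ((a : G)⁻¹) = com x ((b : G)⁻¹) := by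
          rw [← hψ a, ← hψ b, h]
        have key : (a : G) * x * (a : G)⁻¹ = (b : G) * x * (b : G)⁻¹ := by
          unfold com at h'
          have := congrArg (fun t => x * t) h'
          simpa [mul_assoc] using this
        rw [QuotientGroup.eq, hN]
        refine Subgroup.mem_subgroupOf.mpr (Subgroup.mem_inf.mpr ⟨?_, (a⁻¹ * b).2⟩)
        rw [Subgroup.mem_centralizer_iff]
        intro y hy
        rw [Set.mem_singleton_iff] at hy
        subst hy
        simp only [Subgroup.coe_mul, InvMemClass.coe_inv]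
        calc y * ((a : G)⁻¹ * (b : G)) = (a : G)⁻¹ * ((a : G) * y * (a : G)⁻¹) * (b : G) := by group
          _ = (a : G)⁻¹ * ((b : G) * y * (b : G)⁻¹) * (b : G) := by rw [key]
          _ = (a : G)⁻¹ * (b : G) * y := by group
  have h1 : Nat.card K = Nat.card (K ⧸ N) * Nat.card N :=
    Subgroup.card_eq_card_quotient_mul_card_subgroup N
  have h2 : Nat.card N = Nat.card (Subgroup.centralizer ({x} : Set G) ⊓ K : Subgroup G) := by
    rw [hN]
    exact Nat.card_congr (Subgroup.subgroupOfEquivOfLe inf_le_right).toEquiv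
  have hNpos : 0 < Nat.card N := Nat.card_pos
  have h3 : Nat.card (K ⧸ N) ≤ Nat.card L := Nat.card_le_card_of_injective ψ hinj
  refine ⟨?_, ?_⟩
  · rw [h1, ← h2]
    exact Nat.mul_le_mul_right _ h3
  · intro hcard m hm
    rw [h1, ← h2] at hcard
    have hle : Nat.card L ≤ Nat.card (K ⧸ N) := Nat.le_of_mul_le_mul_right hcard hNpos
    have hbij := hinj.bijective_of_nat_card_le hle
    obtain ⟨q, hq⟩ := hbij.2 ⟨m, hm⟩
    induction q using QuotientGroup.induction_on with
    | H a =>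
      refine ⟨(a : G)⁻¹, K.inv_mem a.2, ?_⟩
      rw [← hψ a, hq]

section Main

variable {G : Type*} [Group G] [Finite G]

theorem h22_mem_gam_one (x : G) : x ∈ gam G 1 := by
  show x ∈ (⊤ : Subgroup G).lowerCentralSeries 0
  rw [Subgroup.lowerCentralSeries_zero]
  exact Subgroup.mem_top x

theorem h22_two_le (p : ℕ) [Fact p.Prime] (n : ℕ) (hG : Nat.card G = p ^ n) (x : G)
    (hC : Nat.card (Subgroup.centralizer ({x} : Set G)) = p ^ 2) : 2 ≤ n := by
  have hp : p.Prime := Fact.out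
  have h := Subgroup.card_subgroup_dvd_card (Subgroup.centralizer ({x} : Set G))
  rw [hC, hG] at h
  exact (Nat.pow_dvd_pow_iff_le_right hp.one_lt).mp h

/-- Step (2a): every element of `γ_2` is `com x g`, i.e. `x * m` is a conjugate of `x`. -/
theorem pearl_class (p : ℕ) [Fact p.Prime] (n : ℕ) (hG : Nat.card G = p ^ n) (x : G)
    (hC : Nat.card (Subgroup.centralizer ({x} : Set G)) = p ^ 2)
    (hcard : ∀ i, 2 ≤ i → i ≤ n → Nat.card (gam G i) = p ^ (n - i)) :
    ∀ m ∈ gam G 2, ∃ g : G, com x g = m := by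
  have hn := h22_two_le p n hG x hC
  have hcnt := (h22_com_count x ⊤ (gam G 2)
    (fun g _ => com_mem (h22_mem_gam_one x) (h22_mem_gam_one g))).2
  have hle : Nat.card (gam G 2) *
      Nat.card (Subgroup.centralizer ({x} : Set G) ⊓ ⊤ : Subgroup G) ≤ Nat.card (⊤ : Subgroup G) := by
    rw [inf_top_eq, hC, hcard 2 le_rfl hn, Subgroup.card_top, hG, ← pow_add]
    have : n - 2 + 2 = n := by omega
    rw [this]
  intro m hm
  obtain ⟨g, -, hg⟩ := hcnt hle m hm
  exact ⟨g, hg⟩

/-- `x ∉ γ_2` when `n ≥ 3`. -/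
theorem h22_not_mem_two (p : ℕ) [Fact p.Prime] (n : ℕ) (hG : Nat.card G = p ^ n) (x : G)
    (hC : Nat.card (Subgroup.centralizer ({x} : Set G)) = p ^ 2)
    (hcard : ∀ i, 2 ≤ i → i ≤ n → Nat.card (gam G i) = p ^ (n - i)) (hn : 3 ≤ n) :
    x ∉ gam G 2 := by
  have hp : p.Prime := Fact.out
  intro hx
  have hcnt := (h22_com_count x ⊤ (gam G 3)
    (fun g _ => com_mem hx (h22_mem_gam_one g))).1
  rw [inf_top_eq, hC, hcard 3 (by norm_num) hn, Subgroup.card_top, hG, ← pow_add] at hcnt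
  have h1 : n ≤ n - 3 + 2 := (Nat.pow_le_pow_iff_right hp.one_lt).mp hcnt
  omega

/-- `|C_G(x) ∩ γ_w| ≤ p` for `w ≥ 2`, `n ≥ 3`. -/
theorem h22_cent_inf_le (p : ℕ) [Fact p.Prime] (n : ℕ) (hG : Nat.card G = p ^ n) (x : G)
    (hC : Nat.card (Subgroup.centralizer ({x} : Set G)) = p ^ 2)
    (hcard : ∀ i, 2 ≤ i → i ≤ n → Nat.card (gam G i) = p ^ (n - i)) (hn : 3 ≤ n)
    (w : ℕ) (hw : 2 ≤ w) :
    Nat.card (Subgroup.centralizer ({x} : Set G) ⊓ gam G w : Subgroup G) ≤ p := by
  have hp : p.Prime := Fact.out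
  have hdvd : Nat.card (Subgroup.centralizer ({x} : Set G) ⊓ gam G w : Subgroup G) ∣ p ^ 2 := by
    rw [← hC]
    exact Subgroup.card_dvd_of_le inf_le_left
  obtain ⟨j, hj, hj'⟩ := (Nat.dvd_prime_pow hp).mp hdvd
  have hj2 : j ≠ 2 := by
    rintro rfl
    have heq : (Subgroup.centralizer ({x} : Set G) ⊓ gam G w : Subgroup G) =
        Subgroup.centralizer ({x} : Set G) :=
      Subgroup.eq_of_le_of_card_ge inf_le_left (by rw [hC, hj'])
    have hxC : x ∈ Subgroup.centralizer ({x} : Set G) := by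
      rw [Subgroup.mem_centralizer_iff]
      intro y hy
      rw [Set.mem_singleton_iff] at hy
      rw [hy]
    rw [← heq] at hxC
    exact h22_not_mem_two p n hG x hC hcard hn (gam_antitone hw (Subgroup.mem_inf.mp hxC).2)
  rw [hj']
  have hj1 : j ≤ 1 := by omega
  calc p ^ j ≤ p ^ 1 := Nat.pow_le_pow_right hp.pos hj1
    _ = p := pow_one p

/-- Step (2b): `g ↦ com x g` maps `γ_w` onto `γ_(w+1)` for `w ≥ 2`. -/
theorem pearl_onto (p : ℕ) [Fact p.Prime] (n : ℕ) (hG : Nat.card G = p ^ n) (x : G)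
    (hC : Nat.card (Subgroup.centralizer ({x} : Set G)) = p ^ 2)
    (hcard : ∀ i, 2 ≤ i → i ≤ n → Nat.card (gam G i) = p ^ (n - i)) :
    ∀ w, 2 ≤ w → w + 1 ≤ n → ∀ m ∈ gam G (w + 1), ∃ g ∈ gam G w, com x g = m := by
  intro w hw hwn
  have hp : p.Prime := Fact.out
  have hKL : ∀ g ∈ gam G w, com x g ∈ gam G (w + 1) := by
    intro g hg
    have := com_mem (h22_mem_gam_one x) hg
    rwa [Nat.add_comm 1 w] at this
  have hcnt := (h22_com_count x (gam G w) (gam G (w + 1)) hKL).2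
  apply hcnt
  have h1 := h22_cent_inf_le p n hG x hC hcard (by omega) w hw
  rw [hcard (w + 1) (by omega) hwn, hcard w hw (by omega)]
  calc p ^ (n - (w + 1)) * Nat.card (Subgroup.centralizer ({x} : Set G) ⊓ gam G w : Subgroup G)
      ≤ p ^ (n - (w + 1)) * p := Nat.mul_le_mul_left _ h1
    _ = p ^ (n - (w + 1) + 1) := (pow_succ p (n - (w + 1))).symm
    _ = p ^ (n - w) := by
      congr 1
      omega

/-- Step (3): `x` acts uniserially on the lower central series. -/
theorem pearl_uniserial (p : ℕ) [Fact p.Prime] (n : ℕ) (hG : Nat.card G = p ^ n) (x : G)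
    (hC : Nat.card (Subgroup.centralizer ({x} : Set G)) = p ^ 2)
    (hcard : ∀ i, 2 ≤ i → i ≤ n → Nat.card (gam G i) = p ^ (n - i)) :
    ∀ i, 2 ≤ i → i + 2 ≤ n → ∀ m ∈ gam G i, m ∉ gam G (i + 1) →
      com m x ∈ gam G (i + 1) ∧ com m x ∉ gam G (i + 2) := by
  intro i hi hin m hm hm'
  have hp : p.Prime := Fact.out
  refine ⟨com_mem hm (h22_mem_gam_one x), ?_⟩
  intro hcon
  -- `com x m = (com m x)⁻¹`
  have hinv : com x m = (com m x)⁻¹ := by
    unfold com
    group
  have hxm : com x m ∈ gam G (i + 1 + 1) := by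
    rw [hinv]
    exact (gam G (i + 2)).inv_mem hcon
  obtain ⟨g, hg, hgm⟩ := pearl_onto p n hG x hC hcard (i + 1) (by omega) (by omega) _ hxm
  -- `c = m * g⁻¹` centralizes `x`
  have hcx : x * (m * g⁻¹) = (m * g⁻¹) * x := by
    unfold com at hgm
    have h1 : g⁻¹ * x * g = m⁻¹ * x * m := by
      have := congrArg (fun t => x * t) hgm
      simpa [mul_assoc] using this
    calc x * (m * g⁻¹) = m * (m⁻¹ * x * m) * g⁻¹ := by group
      _ = m * (g⁻¹ * x * g) * g⁻¹ := by rw [h1]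
      _ = (m * g⁻¹) * x := by group
  have hcC : m * g⁻¹ ∈ Subgroup.centralizer ({x} : Set G) := by
    rw [Subgroup.mem_centralizer_iff]
    intro y hy
    rw [Set.mem_singleton_iff] at hy
    rw [hy]
    exact hcx
  have hci : m * g⁻¹ ∈ gam G i :=
    (gam G i).mul_mem hm ((gam G i).inv_mem (gam_antitone (Nat.le_succ i) hg))
  have hcn : m * g⁻¹ ∉ gam G (i + 1) := by
    intro h
    apply hm'
    have := (gam G (i + 1)).mul_mem h hg
    simpa using this
  -- the last term `γ_(n-1)` is central of order `p`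
  have hbot : gam G n = ⊥ := by
    have := hcard n (by omega) le_rfl
    rw [Nat.sub_self, pow_zero] at this
    exact Subgroup.eq_bot_of_card_eq _ this
  have hZC : gam G (n - 1) ≤ Subgroup.centralizer ({x} : Set G) := by
    intro z hz
    have h1 : com z x ∈ gam G (n - 1 + 1) := com_mem hz (h22_mem_gam_one x)
    rw [Nat.sub_add_cancel (by omega), hbot, Subgroup.mem_bot] at h1
    rw [Subgroup.mem_centralizer_iff]
    intro y hy
    rw [Set.mem_singleton_iff] at hy
    rw [hy]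
    unfold com at h1
    calc x * z = x * z * (z⁻¹ * x⁻¹ * z * x) := by rw [h1, mul_one]
      _ = z * x := by group
  have hZi : gam G (n - 1) ≤ Subgroup.centralizer ({x} : Set G) ⊓ gam G i :=
    le_inf hZC (gam_antitone (by omega))
  have hZcard : Nat.card (gam G (n - 1)) = p := by
    rw [hcard (n - 1) (by omega) (by omega)]
    have : n - (n - 1) = 1 := by omega
    rw [this, pow_one]
  have heq : gam G (n - 1) = Subgroup.centralizer ({x} : Set G) ⊓ gam G i :=
    Subgroup.eq_of_le_of_card_ge hZi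
      (by rw [hZcard]; exact h22_cent_inf_le p n hG x hC hcard (by omega) i hi)
  have hmem : m * g⁻¹ ∈ gam G (n - 1) := by
    rw [heq]
    exact Subgroup.mem_inf.mpr ⟨hcC, hci⟩
  exact hcn (gam_antitone (by omega) hmem)

end Main

end Cfsg.Agent.Lib.helper22.PearlUni
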