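import Mathlib
import Cfsg.Agent.Lib.helper68.HallPet
import Cfsg.Agent.Lib.helper65.PearlPow
import Cfsg.Agent.Lib.helper97.PearlF4Base
import Cfsg.Agent.Lib.helper22.PearlUni

/-!
S5238 block G (split s5238g, architect helper65): cores of K2 (`pg_x_notin`), K3 (`pg_com_surj`),
K4 (`pg_uniserial`) and K6 (`pg_F4_base`) with the statement of K1 (`pg_card`) -- and of K5 (`pg_F3`)
for K6 -- as hypotheses.  Racer copies by helper22.
-/

set_option autoImplicit false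

namespace Cfsg.Agent.Lib.helper65.PearlG

open Cfsg.Agent.Lib.helper68 Cfsg.Agent.Lib.helper65.PearlPow

variable {G : Type*} [Group G] [Finite G]

/-- K2 core. -/
theorem h22_pg_x_notin_core (p : ℕ) [Fact p.Prime] (n : ℕ) (hG : Nat.card G = p ^ n) (hn : 3 ≤ n)
    (x : G) (hC : Nat.card (Subgroup.centralizer ({x} : Set G)) = p ^ 2)
    (hK1 : ∀ i, 2 ≤ i → i ≤ n → Nat.card (gam G i) = p ^ (n - i)) : x ∉ gam G 2 :=
  Cfsg.Agent.Lib.helper22.PearlUni.h22_not_mem_two p n hG x hC hK1 hn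

/-- K3 core. -/
theorem h22_pg_com_surj_core (p : ℕ) [Fact p.Prime] (n : ℕ) (hG : Nat.card G = p ^ n) (x : G)
    (hC : Nat.card (Subgroup.centralizer ({x} : Set G)) = p ^ 2)
    (hK1 : ∀ i, 2 ≤ i → i ≤ n → Nat.card (gam G i) = p ^ (n - i)) (w : ℕ) (hw : 1 ≤ w)
    (hwn : w + 1 ≤ n) (m : G) (hm : m ∈ gam G (w + 1)) : ∃ g ∈ gam G w, m = com x g := by
  rcases Nat.lt_or_ge w 2 with h | h
  · have hw1 : w = 1 := by omega
    subst hw1
    obtain ⟨g, hg⟩ := Cfsg.Agent.Lib.helper22.PearlUni.pearl_class p n hG x hC hK1 m hm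
    exact ⟨g, Cfsg.Agent.Lib.helper22.PearlUni.h22_mem_gam_one g, hg.symm⟩
  · obtain ⟨g, hg, hgm⟩ :=
      Cfsg.Agent.Lib.helper22.PearlUni.pearl_onto p n hG x hC hK1 w h hwn m hm
    exact ⟨g, hg, hgm.symm⟩

/-- K4 core. -/
theorem h22_pg_uniserial_core (p : ℕ) [Fact p.Prime] (n : ℕ) (hG : Nat.card G = p ^ n) (x : G)
    (hC : Nat.card (Subgroup.centralizer ({x} : Set G)) = p ^ 2)
    (hK1 : ∀ i, 2 ≤ i → i ≤ n → Nat.card (gam G i) = p ^ (n - i)) (i : ℕ) (hi : 2 ≤ i)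
    (hin : i + 2 ≤ n) (m : G) (hm : m ∈ gam G i) (hm' : m ∉ gam G (i + 1)) :
    com m x ∉ gam G (i + 2) :=
  (Cfsg.Agent.Lib.helper22.PearlUni.pearl_uniserial p n hG x hC hK1 i hi hin m hm hm').2

/-- K6 core (K1 and K5 as hypotheses; uses helper97's `h97_pearl_f4_base`). -/
theorem h22_pg_F4_base_core (p : ℕ) [Fact p.Prime] (hp2 : p ≠ 2) (n : ℕ) (hG : Nat.card G = p ^ n)
    (x : G) (hx : x ^ p = 1) (hC : Nat.card (Subgroup.centralizer ({x} : Set G)) = p ^ 2)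
    (hK1 : ∀ i, 2 ≤ i → i ≤ n → Nat.card (gam G i) = p ^ (n - i))
    (hK5 : ∀ i, 2 ≤ i → ∀ m ∈ gam G i, m ^ p ∈ gam G (i + p - 1))
    (hn : p + 2 ≤ n) (m : G) (hm : m ∈ gam G (n - p)) (hm' : m ∉ gam G (n - p + 1)) :
    m ^ p ≠ 1 := by
  have hp : p.Prime := Fact.out
  have hpge : 2 ≤ p := hp.two_le
  have hbot : gam G n = ⊥ := by
    have h1 := hK1 n (by omega) le_rfl
    rw [Nat.sub_self, pow_zero] at h1
    exact Subgroup.eq_bot_of_card_eq _ h1
  have hsurj : ∀ m ∈ gam G (n - p), ∃ g ∈ gam G (n - p - 1), m = com x g := by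
    intro m hm
    have e : n - p - 1 + 1 = n - p := by omega
    exact h22_pg_com_surj_core p n hG x hC hK1 (n - p - 1) (by omega) (by omega) m (by rwa [e])
  have h := Cfsg.Agent.Lib.helper97.h97_pearl_f4_base p hp n hn x hx hbot hsurj
    (Cfsg.Agent.Lib.helper22.PearlUni.pearl_uniserial p n hG x hC hK1) hK5 m hm hm'
  intro h1
  apply h.2
  rw [h1]
  exact Subgroup.one_mem _

end Cfsg.Agent.Lib.helper65.PearlG
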