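import Mathlib

set_option autoImplicit false

namespace Cfsg.Agent.Lib.helper22.S2687

universe u

variable {F : Type u} [Field F] [Fintype F]

/-- GAL -/
theorem mem_zpowers_of_fix (σ τ : F ≃+* F) (h : ∀ x : F, σ x = x → τ x = x) :
    τ ∈ Subgroup.zpowers σ := by
  classical
  have : Finite (F ≃+* F) := Finite.of_injective (fun e : F ≃+* F => (e : F → F))
    (fun a b hab => RingEquiv.ext (congrFun hab))
  have hbij := FixedPoints.toAlgHom_bijective (Subgroup.zpowers σ) F
  -- `τ` as an algebra endomorphism over the fixed field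
  have hτ : ∀ x : FixedPoints.subfield (Subgroup.zpowers σ) F, τ (x : F) = (x : F) := by
    intro x
    apply h
    have := x.2 ⟨σ, Subgroup.mem_zpowers σ⟩
    exact this
  let τ' : F →ₐ[FixedPoints.subfield (Subgroup.zpowers σ) F] F :=
    { (τ : F →+* F) with
      commutes' := fun x => hτ x }
  obtain ⟨g, hg⟩ := hbij.2 τ'
  have : (g : F ≃+* F) = τ := by
    ext x
    have := congrArg (fun f : F →ₐ[FixedPoints.subfield (Subgroup.zpowers σ) F] F => f x) hg
    exact this
  rw [← this]
  exact g.2

end Cfsg.Agent.Lib.helper22.S2687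

section Check
universe u
variable {F : Type u} [Field F] [Fintype F]
example (σ τ : F ≃+* F) (h : ∀ x : F, σ x = x → τ x = x) :
    τ ∈ Subgroup.zpowers σ := Cfsg.Agent.Lib.helper22.S2687.mem_zpowers_of_fix σ τ h
end Check
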