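import Mathlib

/-!
# S2687 piece G-LIN-S: semilinear maps commuting with the symplectic transvections up to scalars
-/

set_option autoImplicit false

namespace Cfsg.Agent.Lib.helper22.S2687

open Matrix

universe u v

theorem glins_vmv_mulVec {R : Type*} [CommRing R] {m : Type*} [Fintype m] (a b x : m → R) :
    vecMulVec a b *ᵥ x = (b ⬝ᵥ x) • a := by
  ext i
  simp only [Matrix.mulVec, dotProduct, vecMulVec_apply, Pi.smul_apply, smul_eq_mul,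
    Finset.sum_mul]
  exact Finset.sum_congr rfl (fun j _ => by ring)

section

variable {n : ℕ} {F₀ : Type v} [Field F₀]

theorem glins_alt (h2 : (2 : F₀) ≠ 0) (M₀ : Matrix (Fin n) (Fin n) F₀) (hM₀ : M₀ᵀ = -M₀)
    (a : Fin n → F₀) : (M₀ᵀ *ᵥ a) ⬝ᵥ a = 0 := by
  have h1 : (M₀ᵀ *ᵥ a) ⬝ᵥ a = a ⬝ᵥ (M₀ *ᵥ a) := by
    rw [Matrix.mulVec_transpose, ← Matrix.dotProduct_mulVec]
  have h2' : M₀ *ᵥ a = -(M₀ᵀ *ᵥ a) := by
    rw [hM₀, Matrix.neg_mulVec, neg_neg]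
  have h3 : (M₀ᵀ *ᵥ a) ⬝ᵥ a = -((M₀ᵀ *ᵥ a) ⬝ᵥ a) := by
    conv_lhs => rw [h1, h2', dotProduct_neg, dotProduct_comm]
  have h4 : (2 : F₀) * ((M₀ᵀ *ᵥ a) ⬝ᵥ a) = 0 := by linear_combination h3
  exact (mul_eq_zero.mp h4).resolve_left h2

theorem glins_det (h2 : (2 : F₀) ≠ 0) (M₀ : Matrix (Fin n) (Fin n) F₀) (hM₀ : M₀ᵀ = -M₀)
    (a : Fin n → F₀) : (1 + vecMulVec a (M₀ᵀ *ᵥ a)).det = 1 := by
  rw [Matrix.vecMulVec_eq (Fin 1), Matrix.det_one_add_replicateCol_mul_replicateRow,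
    glins_alt h2 M₀ hM₀ a, add_zero]

theorem glins_isom (h2 : (2 : F₀) ≠ 0) (M₀ : Matrix (Fin n) (Fin n) F₀) (hM₀ : M₀ᵀ = -M₀)
    (a : Fin n → F₀) :
    (1 + vecMulVec a (M₀ᵀ *ᵥ a))ᵀ * M₀ * (1 + vecMulVec a (M₀ᵀ *ᵥ a)) = M₀ := by
  have h2' : M₀ *ᵥ a = -(M₀ᵀ *ᵥ a) := by
    rw [hM₀, Matrix.neg_mulVec, neg_neg]
  have h3 : a ᵥ* M₀ = M₀ᵀ *ᵥ a := (Matrix.mulVec_transpose M₀ a).symm
  have h4 : (a ᵥ* M₀) ⬝ᵥ a = 0 := by rw [h3]; exact glins_alt h2 M₀ hM₀ a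
  rw [transpose_add, transpose_one, transpose_vecMulVec, add_mul, one_mul, mul_add, mul_one,
    add_mul, vecMulVec_mul, mul_vecMulVec, vecMulVec_mul_vecMulVec, h4, zero_smul,
    vecMulVec_zero, add_zero, h2', neg_vecMulVec, h3]
  abel

end

variable {n q : ℕ} {F : Type u} [Field F] [Fintype F]

theorem glins_vec {F₀ : Type v} [Field F₀] (ι : F₀ →+* F) (h2 : (2 : F₀) ≠ 0)
    (hn : 3 ≤ n) (M₀ : Matrix (Fin n) (Fin n) F₀) (hM₀ : M₀ᵀ = -M₀) (hdet : M₀.det ≠ 0)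
    (w : Matrix (Fin n) (Fin n) F) (hw : w.det ≠ 0) (τ : F ≃+* F)
    (h : ∀ S : Matrix (Fin n) (Fin n) F₀, S.det = 1 → Sᵀ * M₀ * S = M₀ →
      ∃ ζ : F, w * (S.map ι).map τ = ζ • (S.map ι * w)) (a : Fin n → F₀) :
    ∃ μ : F, w *ᵥ (fun i => τ (ι (a i))) = μ • (fun i => ι (a i)) := by
  classical
  by_cases hu : a = 0
  · refine ⟨0, ?_⟩
    subst hu
    have : (fun i : Fin n => τ (ι ((0 : Fin n → F₀) i))) = 0 := by
      ext i; simp
    rw [this, Matrix.mulVec_zero, zero_smul]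
  have hb0 : M₀ᵀ *ᵥ a ≠ 0 := by
    intro h0
    apply hu
    exact Matrix.eq_zero_of_mulVec_eq_zero (by rwa [Matrix.det_transpose]) h0
  obtain ⟨ζ, hζ⟩ := h (1 + vecMulVec a (M₀ᵀ *ᵥ a)) (glins_det h2 M₀ hM₀ a)
    (glins_isom h2 M₀ hM₀ a)
  have hmap1 : (1 + vecMulVec a (M₀ᵀ *ᵥ a)).map ι
      = 1 + vecMulVec (fun i => ι (a i)) (fun i => ι ((M₀ᵀ *ᵥ a) i)) := by
    ext i j
    rw [Matrix.map_apply, Matrix.add_apply, Matrix.add_apply, vecMulVec_apply, vecMulVec_apply,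
      map_add, map_mul, Matrix.one_apply, Matrix.one_apply]
    split_ifs <;> simp
  have hmap2 : ((1 + vecMulVec a (M₀ᵀ *ᵥ a)).map ι).map τ
      = 1 + vecMulVec (fun i => τ (ι (a i))) (fun i => τ (ι ((M₀ᵀ *ᵥ a) i))) := by
    rw [hmap1]
    ext i j
    rw [Matrix.map_apply, Matrix.add_apply, Matrix.add_apply, vecMulVec_apply, vecMulVec_apply,
      map_add, map_mul, Matrix.one_apply]
    split_ifs <;> simp
  rw [hmap2, hmap1] at hζ
  rw [mul_add, mul_one, add_mul, one_mul, mul_vecMulVec, vecMulVec_mul, smul_add] at hζ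
  -- `ζ = 1`
  have hζ1 : ζ = 1 := by
    let N : Matrix (Fin n) (Fin n) F := Matrix.of (fun i j =>
      if (i : ℕ) = 0 then τ (ι ((M₀ᵀ *ᵥ a) j))
      else if (i : ℕ) = 1 then ((fun i => ι ((M₀ᵀ *ᵥ a) i)) ᵥ* w) j else 0)
    have hN : N.det = 0 :=
      Matrix.det_eq_zero_of_row_eq_zero (⟨2, by omega⟩ : Fin n) (fun j => by simp [N])
    obtain ⟨x, hx0, hx⟩ := (Matrix.exists_mulVec_eq_zero_iff).mpr hN
    have h0 : (fun i => τ (ι ((M₀ᵀ *ᵥ a) i))) ⬝ᵥ x = 0 := by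
      have := congrFun hx (⟨0, by omega⟩ : Fin n)
      simpa [N, Matrix.mulVec, dotProduct] using this
    have h1 : ((fun i => ι ((M₀ᵀ *ᵥ a) i)) ᵥ* w) ⬝ᵥ x = 0 := by
      have := congrFun hx (⟨1, by omega⟩ : Fin n)
      simpa [N, Matrix.mulVec, dotProduct] using this
    have hx' := congrArg (fun m : Matrix (Fin n) (Fin n) F => m *ᵥ x) hζ
    simp only [Matrix.add_mulVec, Matrix.smul_mulVec, glins_vmv_mulVec, h0, h1, zero_smul,
      add_zero, smul_zero] at hx'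
    have hwx : w *ᵥ x ≠ 0 := fun hz => hx0 (Matrix.eq_zero_of_mulVec_eq_zero hw hz)
    have h5 : (1 - ζ) • (w *ᵥ x) = 0 := by
      rw [sub_smul, one_smul, ← hx', sub_self]
    rcases smul_eq_zero.mp h5 with h6 | h6
    · exact (sub_eq_zero.mp h6).symm
    · exact absurd h6 hwx
  rw [hζ1, one_smul, one_smul] at hζ
  have hE := add_left_cancel hζ
  obtain ⟨j, hj⟩ := Function.ne_iff.mp hb0
  have hA'j : τ (ι ((M₀ᵀ *ᵥ a) j)) ≠ 0 := by
    intro h0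
    apply hj
    have h1 : ι ((M₀ᵀ *ᵥ a) j) = 0 := by
      have := congrArg τ.symm h0
      simpa using this
    exact (map_eq_zero ι).mp h1
  refine ⟨((fun i => ι ((M₀ᵀ *ᵥ a) i)) ᵥ* w) j / τ (ι ((M₀ᵀ *ᵥ a) j)), ?_⟩
  ext i
  have h7 := congrFun (congrFun hE i) j
  rw [vecMulVec_apply, vecMulVec_apply] at h7
  rw [Pi.smul_apply, smul_eq_mul, div_mul_eq_mul_div, eq_div_iff hA'j, h7]
  ring

/-- G-LIN-S -/
theorem lin_symp {F₀ : Type v} [Field F₀] (ι : F₀ →+* F) (h2 : (2 : F₀) ≠ 0)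
    (hn : 3 ≤ n) (M₀ : Matrix (Fin n) (Fin n) F₀) (hM₀ : M₀ᵀ = -M₀) (hdet : M₀.det ≠ 0)
    (w : Matrix (Fin n) (Fin n) F) (hw : w.det ≠ 0) (τ : F ≃+* F)
    (h : ∀ S : Matrix (Fin n) (Fin n) F₀, S.det = 1 → Sᵀ * M₀ * S = M₀ →
      ∃ ζ : F, w * (S.map ι).map τ = ζ • (S.map ι * w)) :
    (∃ c : F, w = c • (1 : Matrix (Fin n) (Fin n) F)) ∧ ∀ y : F₀, τ (ι y) = ι y := by
  classical
  have key := glins_vec ι h2 hn M₀ hM₀ hdet w hw τ h
  -- `w` is diagonal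
  have hdiag : ∀ i k : Fin n, k ≠ i → w k i = 0 := by
    intro i k hki
    obtain ⟨μ, hμ⟩ := key (fun l => if l = i then 1 else 0)
    have h1 := congrFun hμ k
    simp only [Matrix.mulVec, dotProduct, Pi.smul_apply, smul_eq_mul] at h1
    rw [Finset.sum_eq_single i, if_pos rfl, if_neg hki] at h1
    · simpa using h1
    · intro l _ hl
      rw [if_neg hl]
      simp
    · intro hi
      exact absurd (Finset.mem_univ i) hi
  have hmv : ∀ (x : Fin n → F) (k : Fin n), (w *ᵥ x) k = w k k * x k := by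
    intro x k
    simp only [Matrix.mulVec, dotProduct]
    rw [Finset.sum_eq_single k]
    · intro l _ hl
      rw [hdiag l k (Ne.symm hl), zero_mul]
    · intro hk
      exact absurd (Finset.mem_univ k) hk
  have hpair : ∀ i j : Fin n, i ≠ j → ∀ b : F₀, w j j * τ (ι b) = w i i * ι b := by
    intro i j hij b
    obtain ⟨μ, hμ⟩ := key (fun l => if l = i then 1 else if l = j then b else 0)
    have hi := congrFun hμ i
    have hj := congrFun hμ j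
    rw [hmv] at hi hj
    simp only [Pi.smul_apply, smul_eq_mul, if_neg (Ne.symm hij), if_true, map_one, mul_one]
      at hi hj
    rw [hj, hi]
  have heq : ∀ i j : Fin n, w j j = w i i := by
    intro i j
    by_cases hij : i = j
    · rw [hij]
    · have := hpair i j hij 1
      simpa using this
  have hw_eq : w = w ⟨0, by omega⟩ ⟨0, by omega⟩ • (1 : Matrix (Fin n) (Fin n) F) := by
    ext k l
    rw [Matrix.smul_apply, Matrix.one_apply, smul_eq_mul]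
    by_cases hkl : k = l
    · subst hkl
      rw [if_pos rfl, mul_one]
      exact heq _ k
    · rw [if_neg hkl, mul_zero]
      exact hdiag l k hkl
  have hc0 : w ⟨0, by omega⟩ ⟨0, by omega⟩ ≠ 0 := by
    intro h0
    apply hw
    rw [hw_eq, h0, zero_smul]
    exact Matrix.det_eq_zero_of_row_eq_zero (⟨0, by omega⟩ : Fin n) (fun j => rfl)
  refine ⟨⟨_, hw_eq⟩, fun y => ?_⟩
  have h01 : (⟨0, by omega⟩ : Fin n) ≠ ⟨1, by omega⟩ := by
    intro h; simp [Fin.ext_iff] at h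
  have h8 := hpair ⟨0, by omega⟩ ⟨1, by omega⟩ h01 y
  rw [heq ⟨0, by omega⟩ ⟨1, by omega⟩] at h8
  exact mul_left_cancel₀ hc0 h8

end Cfsg.Agent.Lib.helper22.S2687

section Check
open Matrix
universe u v
variable {n q : ℕ} {F : Type u} [Field F] [Fintype F]
example {F₀ : Type v} [Field F₀] (ι : F₀ →+* F) (h2 : (2 : F₀) ≠ 0)
    (hn : 3 ≤ n) (M₀ : Matrix (Fin n) (Fin n) F₀) (hM₀ : M₀ᵀ = -M₀) (hdet : M₀.det ≠ 0)
    (w : Matrix (Fin n) (Fin n) F) (hw : w.det ≠ 0) (τ : F ≃+* F)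
    (h : ∀ S : Matrix (Fin n) (Fin n) F₀, S.det = 1 → Sᵀ * M₀ * S = M₀ →
      ∃ ζ : F, w * (S.map ι).map τ = ζ • (S.map ι * w)) :
    (∃ c : F, w = c • (1 : Matrix (Fin n) (Fin n) F)) ∧ ∀ y : F₀, τ (ι y) = ι y :=
  Cfsg.Agent.Lib.helper22.S2687.lin_symp ι h2 hn M₀ hM₀ hdet w hw τ h
end Check
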