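import Mathlib
import Cfsg.Agent.Lib.helper92.S3664Defs

/-! S3664, piece E15: an element of order 15 in `Sz(8) : 3`. -/

set_option autoImplicit false

namespace Cfsg.Agent.Lib.helper22.S3664

open Cfsg.Agent.Lib.helper92.S3664 Cfsg.Agent.Lib.helper17 Cfsg.Agent.Lib.helper8

theorem h22_n5_pow : (matT 1 0 1 * matW : Matrix (Fin 4) (Fin 4) K) ^ 5 = 1 := by
  decide +kernel

theorem h22_n5_ne : (matT 1 0 1 * matW : Matrix (Fin 4) (Fin 4) K) ≠ 1 := by
  decide +kernel

theorem h22_n5_frob : ∀ i : ZMod 3,
    (matT 1 0 1 * matW : Matrix (Fin 4) (Fin 4) K).map (frK i) = matT 1 0 1 * matW := by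
  decide +kernel

theorem h22_matS_pow (u : S) (n : ℕ) : matS (u ^ n) = matS u ^ n := by
  induction n with
  | zero => rw [pow_zero, pow_zero, matS_one]
  | succ n ih => rw [pow_succ, matS_mul, ih, pow_succ]

theorem h22_orderOf_n5 : orderOf n5 = 5 := by
  have : Fact (Nat.Prime 5) := ⟨by norm_num⟩
  apply orderOf_eq_prime
  · apply matS_inj
    rw [h22_matS_pow, n5_mat, matS_one]
    exact h22_n5_pow
  · intro h
    have h1 := congrArg matS h
    rw [n5_mat, matS_one] at h1
    exact h22_n5_ne h1

theorem h22_psi_n5 (q : Multiplicative (ZMod 3)) : psi q n5 = n5 := by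
  apply matS_inj
  show ((psi q n5).1.1 : Matrix (Fin 4) (Fin 4) K) = matS n5
  rw [psi_mat]
  show (matS n5).map (frK (Multiplicative.toAdd q)) = matS n5
  rw [n5_mat]
  exact h22_n5_frob _

theorem h22_orderOf_q1 : orderOf q1 = 3 := by
  show orderOf (Multiplicative.ofAdd (1 : ZMod 3)) = 3
  rw [orderOf_ofAdd_eq_addOrderOf, ZMod.addOrderOf_one]

/-- E15 -/
theorem exists_order_15 : ∃ g : G, orderOf g = 15 := by
  refine ⟨SemidirectProduct.inl n5 * SemidirectProduct.inr q1, ?_⟩
  have hc : Commute (SemidirectProduct.inl n5 : G) (SemidirectProduct.inr q1) := by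
    have h := SemidirectProduct.inl_aut (φ := psi) q1 n5
    rw [h22_psi_n5] at h
    show (SemidirectProduct.inl n5 : G) * SemidirectProduct.inr q1 =
      SemidirectProduct.inr q1 * SemidirectProduct.inl n5
    calc (SemidirectProduct.inl n5 : G) * SemidirectProduct.inr q1
        = (SemidirectProduct.inr q1 * SemidirectProduct.inl n5 * SemidirectProduct.inr q1⁻¹) *
            SemidirectProduct.inr q1 := by rw [← h]
      _ = SemidirectProduct.inr q1 * SemidirectProduct.inl n5 := by
          rw [mul_assoc, ← map_mul, inv_mul_cancel, map_one, mul_one]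
  have h5 : orderOf (SemidirectProduct.inl n5 : G) = 5 := by
    rw [orderOf_injective _ SemidirectProduct.inl_injective]
    exact h22_orderOf_n5
  have h3 : orderOf (SemidirectProduct.inr q1 : G) = 3 := by
    rw [orderOf_injective _ SemidirectProduct.inr_injective]
    exact h22_orderOf_q1
  rw [hc.orderOf_mul_eq_mul_orderOf_of_coprime (by rw [h5, h3]; norm_num), h5, h3]

end Cfsg.Agent.Lib.helper22.S3664
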