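import Mathlib
import Cfsg.Agent.Lib.helper15.MaxClass

/-! S3806, piece TR1. -/

set_option autoImplicit false

namespace Cfsg.Agent.Lib.helper12.MC

open Subgroup
open scoped commutatorElement

/-- TR1: the quotient of a maximal class group by `γ_{2k+1}`. -/
theorem quot_hyps (p : ℕ) [Fact p.Prime] {S : Type*} [Group S] [Finite S] [Group.IsNilpotent S]
    (n k : ℕ) (hk : 1 ≤ k) (hn : 2 * k + 1 ≤ n) (hcard : Nat.card S = p ^ n)
    (hmax : Group.nilpotencyClass S = n - 1) :
    (∀ i, 1 ≤ i → i ≤ 2 * k →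
      ((⊤ : Subgroup (S ⧸ (⊤ : Subgroup S).lowerCentralSeries (2 * k))).lowerCentralSeries i).index
        = p ^ (i + 1)) ∧
    (⊤ : Subgroup (S ⧸ (⊤ : Subgroup S).lowerCentralSeries (2 * k))).lowerCentralSeries (2 * k) = ⊥ ∧
    ∀ i, (⊤ : Subgroup (S ⧸ (⊤ : Subgroup S).lowerCentralSeries (2 * k))).lowerCentralSeries i =
      ((⊤ : Subgroup S).lowerCentralSeries i).map
        (QuotientGroup.mk' ((⊤ : Subgroup S).lowerCentralSeries (2 * k))) := by
  have key : ∀ i, (⊤ : Subgroup (S ⧸ (⊤ : Subgroup S).lowerCentralSeries (2 * k))).lowerCentralSeries i =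
      ((⊤ : Subgroup S).lowerCentralSeries i).map
        (QuotientGroup.mk' ((⊤ : Subgroup S).lowerCentralSeries (2 * k))) := by
    intro i
    rw [Subgroup.map_lowerCentralSeries,
      Subgroup.map_top_of_surjective _ (QuotientGroup.mk'_surjective _)]
  refine ⟨?_, ?_, key⟩
  · intro i hi1 hi
    rw [key i, Subgroup.index_map_eq _ (QuotientGroup.mk'_surjective _)]
    · exact Cfsg.Agent.Lib.helper15.MaxClass.index_lcs_of_maxClass hcard hmax (by omega) i hi1 (by omega)
    · rw [QuotientGroup.ker_mk']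
      exact Subgroup.lowerCentralSeries_antitone _ hi
  · rw [key (2 * k)]
    exact QuotientGroup.map_mk'_self _

end Cfsg.Agent.Lib.helper12.MC
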