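import Mathlib
import Cfsg.Prelude.Def_CaseTheorems

/-! S3806, piece TR2. -/

set_option autoImplicit false

namespace Cfsg.Agent.Lib.helper12.MC

open Subgroup
open scoped commutatorElement

/-- TR2: an elementary abelian section of order `p^(k+1)` contradicts sectional rank `≤ k`. -/
theorem not_sectionalPRankLE_of_section (p : ℕ) [Fact p.Prime] {S : Type*} [Group S] [Finite S] (k : ℕ)
    (H N : Subgroup S) [N.Normal] (hNH : N ≤ H) (hrel : N.relIndex H = p ^ (k + 1))
    (hexp : ∀ x ∈ H, x ^ p ∈ N) (hcomm : ∀ x ∈ H, ∀ y ∈ H, x * y * x⁻¹ * y⁻¹ ∈ N) :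
    ¬ Cfsg.SectionalPRankLE p k S := by
  intro h
  have hcard : Nat.card (↥H ⧸ N.subgroupOf H) = p ^ (k + 1) := by
    rw [← Subgroup.index_eq_card]; exact hrel
  have hcomm' : ∀ a b : ↥H ⧸ N.subgroupOf H, a * b = b * a := by
    intro a b
    induction a using QuotientGroup.induction_on with
    | _ x =>
      induction b using QuotientGroup.induction_on with
      | _ y =>
        rw [← QuotientGroup.mk_mul, ← QuotientGroup.mk_mul, QuotientGroup.eq,
          Subgroup.mem_subgroupOf]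
        have h1 := hcomm (y⁻¹ : S) (H.inv_mem y.2) (x⁻¹ : S) (H.inv_mem x.2)
        have e : (((x * y)⁻¹ * (y * x) : ↥H) : S) = (y : S)⁻¹ * (x : S)⁻¹ * ((y : S)⁻¹)⁻¹ * ((x : S)⁻¹)⁻¹ := by
          simp [mul_assoc]
        rw [e]
        exact h1
  have hexp' : ∀ a : ↥H ⧸ N.subgroupOf H, a ^ p = 1 := by
    intro a
    induction a using QuotientGroup.induction_on with
    | _ x =>
      rw [← QuotientGroup.mk_pow, QuotientGroup.eq_one_iff, Subgroup.mem_subgroupOf]
      have h1 := hexp (x : S) x.2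
      simpa using h1
  have h1 := h H (N.subgroupOf H) ⊤ ⟨⟨fun a b => Subtype.ext (hcomm' a b)⟩⟩ (fun a _ => hexp' a)
  rw [Subgroup.card_top, hcard] at h1
  exact absurd h1 (not_le.mpr (Nat.pow_lt_pow_right (Fact.out : p.Prime).one_lt (Nat.lt_succ_self k)))

end Cfsg.Agent.Lib.helper12.MC
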