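import Mathlib

/-!
Piece P2 of the S4025 project (owner helper62): the arithmetic of the number of planes.
-/

set_option autoImplicit false

namespace Cfsg.Agent.Lib.helper22.S4025

theorem pow_gt_aux (P : ℕ) (hP : 2 ≤ P) : ∀ m : ℕ, 5 ≤ m → (m + 1) * P ^ 2 < P ^ m := by
  intro m hm
  induction m, hm using Nat.le_induction with
  | base =>
    have h3 : 8 ≤ P ^ 3 := by
      calc 8 = 2 ^ 3 := by norm_num
        _ ≤ P ^ 3 := Nat.pow_le_pow_left hP 3
    have : P ^ 5 = P ^ 3 * P ^ 2 := by ring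
    rw [this]
    have h2 : 0 < P ^ 2 := by positivity
    nlinarith
  | succ m hm ih =>
    have : P ^ (m + 1) = P * P ^ m := by ring
    rw [this]
    have h3 : 2 * P ^ m ≤ P * P ^ m := Nat.mul_le_mul_right _ hP
    have h4 : (m + 1 + 1) * P ^ 2 ≤ 2 * ((m + 1) * P ^ 2) := by
      have : m + 1 + 1 ≤ 2 * (m + 1) := by omega
      calc (m + 1 + 1) * P ^ 2 ≤ (2 * (m + 1)) * P ^ 2 := Nat.mul_le_mul_right _ this
        _ = 2 * ((m + 1) * P ^ 2) := by ring
    omega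

/-- P2: arithmetic. -/
theorem arith_planes {p n N₂ : ℕ} (hp : p.Prime) (hn : 3 ≤ n)
    (h1 : N₂ * ((p ^ 2 - 1) * (p ^ 2 - p)) = (p ^ n - 1) * (p ^ n - p))
    (h2 : N₂ * (p - 1) ∣ n * (p ^ n - 1)) : n = 3 ∨ (n = 5 ∧ p = 2) := by
  have hp2 : 2 ≤ p := hp.two_le
  obtain ⟨k, hk⟩ := h2
  have e1 : 1 ≤ p ^ 2 := Nat.one_le_pow _ _ (by omega)
  have e2 : p ≤ p ^ 2 := by nlinarith
  have e3 : 1 ≤ p ^ n := Nat.one_le_pow _ _ (by omega)
  have e4 : p ≤ p ^ n := by
    calc p = p ^ 1 := (pow_one p).symm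
      _ ≤ p ^ n := Nat.pow_le_pow_right (by omega) (by omega)
  have e5 : 1 ≤ p := by omega
  obtain ⟨m, rfl⟩ : ∃ m, n = m + 1 := ⟨n - 1, by omega⟩
  have hm2 : 2 ≤ m := by omega
  zify [e1, e2, e3, e4, e5] at h1 hk
  have hP2 : (2 : ℤ) ≤ (p : ℤ) := by exact_mod_cast hp2
  have hQ1 : (1 : ℤ) ≤ (p : ℤ) ^ m := by exact_mod_cast Nat.one_le_pow m p (by omega)
  have hk0 : (0 : ℤ) ≤ (k : ℤ) := by positivity
  generalize hPdef : (p : ℤ) = P at h1 hk hP2 hQ1
  generalize hkdef : (k : ℤ) = K at hk hk0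
  generalize hNdef : (N₂ : ℤ) = N at h1 hk
  have hpow : P ^ (m + 1) = P * P ^ m := by ring
  rw [hpow] at h1 hk
  generalize hQdef : P ^ m = Q at h1 hk hQ1
  have hPpos : (0 : ℤ) < P := by linarith
  have h1' : N * ((P ^ 2 - 1) * (P - 1)) = (P * Q - 1) * (Q - 1) := by
    have : P * (N * ((P ^ 2 - 1) * (P - 1))) = P * ((P * Q - 1) * (Q - 1)) := by
      linear_combination h1
    exact mul_left_cancel₀ hPpos.ne' this
  have hPQ : (0 : ℤ) < P * Q - 1 := by nlinarith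
  have key : ((m : ℤ) + 1) * (P ^ 2 - 1) = (Q - 1) * K := by
    have : (P * Q - 1) * (((m : ℤ) + 1) * (P ^ 2 - 1)) = (P * Q - 1) * ((Q - 1) * K) := by
      linear_combination (P ^ 2 - 1) * hk + K * h1'
    exact mul_left_cancel₀ hPQ.ne' this
  have hP21 : (0 : ℤ) < P ^ 2 - 1 := by nlinarith
  have hK1 : 1 ≤ K := by
    by_contra hlt
    have hK0 : K = 0 := by omega
    rw [hK0, mul_zero] at key
    have : (0 : ℤ) < ((m : ℤ) + 1) * (P ^ 2 - 1) := by positivity
    omega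
  rcases Nat.lt_or_ge m 3 with hm3 | hm3
  · left; omega
  rcases Nat.lt_or_ge m 4 with hm4 | hm4
  · -- n = 4
    exfalso
    have hm : m = 3 := by omega
    subst hm
    subst hQdef
    push_cast at key
    have hc : P = 2 ∨ P = 3 ∨ 4 ≤ P := by omega
    rcases hc with rfl | rfl | hc
    · norm_num at key; omega
    · norm_num at key; omega
    · have h3 : 4 * P ^ 2 ≤ P ^ 3 := by nlinarith [sq_nonneg P]
      have : (P ^ 3 - 1) * 1 ≤ (P ^ 3 - 1) * K := by
        apply mul_le_mul_of_nonneg_left hK1; nlinarith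
      nlinarith
  rcases Nat.lt_or_ge m 5 with hm5 | hm5
  · -- n = 5
    right
    have hm : m = 4 := by omega
    subst hm
    subst hQdef
    push_cast at key
    have h5 : (P ^ 2 + 1) * K = 5 := by
      have : (P ^ 2 - 1) * ((P ^ 2 + 1) * K) = (P ^ 2 - 1) * 5 := by linear_combination -key
      exact mul_left_cancel₀ hP21.ne' this
    have hle : P ^ 2 + 1 ≤ 5 := by
      have : (P ^ 2 + 1) * 1 ≤ (P ^ 2 + 1) * K := by
        apply mul_le_mul_of_nonneg_left hK1; positivity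
      linarith
    have hPle : P ≤ 2 := by nlinarith
    have hPeq : P = 2 := by omega
    refine ⟨rfl, ?_⟩
    have : (p : ℤ) = 2 := by rw [hPdef]; exact hPeq
    exact_mod_cast this
  · -- n ≥ 6
    exfalso
    have hgt := pow_gt_aux p hp2 m hm5
    have hgt' : ((m : ℤ) + 1) * P ^ 2 < Q := by
      rw [← hQdef, ← hPdef]; exact_mod_cast hgt
    have : (Q - 1) * 1 ≤ (Q - 1) * K := by
      apply mul_le_mul_of_nonneg_left hK1; linarith
    have hm0 : (0 : ℤ) ≤ (m : ℤ) := by positivity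
    nlinarith

end Cfsg.Agent.Lib.helper22.S4025
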