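import Mathlib
import Cfsg.Agent.Lib.helper26.S4409Defs

/-!
# S4409 piece G3 (helper22, racer copy): fixed points of a coprime action on `X = [X, H]` lie in
the derived subgroup (transfer-type argument)
-/

set_option autoImplicit false

namespace Cfsg.Agent.Lib.helper26.S4409

open scoped commutatorElement

variable {G : Type*} [Group G]

/-- conjugation by an element of the normalizer, as an endomorphism of the subgroup -/
def h22ConjHom (X : Subgroup G) (h : G) (hh : h ∈ Subgroup.normalizer (X : Set G)) : ↥X →* ↥X where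
  toFun x := ⟨h * x * h⁻¹, (Subgroup.mem_normalizer_iff.mp hh x).mp x.2⟩
  map_one' := by
    apply Subtype.ext
    simp
  map_mul' a b := by
    apply Subtype.ext
    simp

theorem h22ConjHom_coe (X : Subgroup G) (h : G) (hh : h ∈ Subgroup.normalizer (X : Set G))
    (x : ↥X) : ((h22ConjHom X h hh x : ↥X) : G) = h * x * h⁻¹ := rfl

/-- G3 (racer copy, prefixed name) -/
theorem h22_g3 [Finite G] (X H : Subgroup G) (hX : IsPGroup 2 ↥X)
    (hH : H ≤ Subgroup.normalizer (X : Set G)) (hodd : (Nat.card ↥H).Coprime 2)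
    (hXH : ⁅X, H⁆ = X) (w : G) (hw : w ∈ X) (hc : ∀ h ∈ H, h * w = w * h) : w ∈ ⁅X, X⁆ := by
  classical
  have : Fintype ↥H := Fintype.ofFinite _
  -- the transfer-type homomorphism
  obtain ⟨τ, hτ⟩ : ∃ τ : ↥X →* Abelianization ↥X, ∀ x : ↥X,
      τ x = ∏ h : ↥H, Abelianization.of (h22ConjHom X h.1 (hH h.2) x) :=
    ⟨∏ h : ↥H, (Abelianization.of).comp (h22ConjHom X h.1 (hH h.2)), fun x => by
      rw [MonoidHom.finsetProd_apply]
      rfl⟩
  -- invariance under conjugation by `H`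
  have hinv : ∀ (k : ↥H) (x : ↥X), τ (h22ConjHom X k.1 (hH k.2) x) = τ x := by
    intro k x
    rw [hτ, hτ]
    refine Fintype.prod_equiv (Equiv.mulRight k) _ _ ?_
    intro h
    congr 1
    apply Subtype.ext
    rw [h22ConjHom_coe, h22ConjHom_coe, h22ConjHom_coe]
    simp [mul_assoc]
  -- `τ` kills `⁅X, H⁆ = X`
  have hker : X ≤ (τ.ker).map X.subtype := by
    conv_lhs => rw [← hXH]
    rw [Subgroup.commutator_def, Subgroup.closure_le]
    rintro g ⟨x, hx, h, hh, rfl⟩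
    have hmem : h * x⁻¹ * h⁻¹ ∈ X :=
      (Subgroup.mem_normalizer_iff.mp (hH hh) x⁻¹).mp (X.inv_mem hx)
    refine ⟨⟨x, hx⟩ * h22ConjHom X h (hH hh) ⟨x, hx⟩⁻¹, ?_, ?_⟩
    · show _ ∈ τ.ker
      rw [MonoidHom.mem_ker, map_mul, hinv ⟨h, hh⟩, ← map_mul, mul_inv_cancel, map_one]
    · show ((⟨x, hx⟩ * h22ConjHom X h (hH hh) ⟨x, hx⟩⁻¹ : ↥X) : G) = ⁅x, h⁆
      rw [Subgroup.coe_mul, h22ConjHom_coe, commutatorElement_def]
      simp [mul_assoc]
  have hτ1 : ∀ x : ↥X, τ x = 1 := by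
    intro x
    obtain ⟨y, hy, hyx⟩ := hker x.2
    have : y = x := Subtype.ext hyx
    rw [← this]
    exact hy
  -- evaluate at `w`
  have hfix : ∀ h : ↥H, h22ConjHom X h.1 (hH h.2) ⟨w, hw⟩ = ⟨w, hw⟩ := by
    intro h
    apply Subtype.ext
    rw [h22ConjHom_coe]
    show h.1 * w * h.1⁻¹ = w
    rw [hc h.1 h.2, mul_inv_cancel_right]
  have hpow : Abelianization.of (⟨w, hw⟩ : ↥X) ^ Nat.card ↥H = 1 := by
    have h1 := hτ1 ⟨w, hw⟩
    rw [hτ] at h1
    simp only [hfix] at h1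
    rw [Finset.prod_const, Finset.card_univ, ← Nat.card_eq_fintype_card] at h1
    exact h1
  obtain ⟨k, hk⟩ := hX ⟨w, hw⟩
  have hpow2 : Abelianization.of (⟨w, hw⟩ : ↥X) ^ 2 ^ k = 1 := by
    rw [← map_pow, hk, map_one]
  have hone : Abelianization.of (⟨w, hw⟩ : ↥X) = 1 := by
    have hd1 := orderOf_dvd_of_pow_eq_one hpow
    have hd2 := orderOf_dvd_of_pow_eq_one hpow2
    have hcop : (Nat.card ↥H).Coprime (2 ^ k) := Nat.Coprime.pow_right k hodd
    have := Nat.eq_one_of_dvd_coprimes hcop hd1 hd2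
    exact orderOf_eq_one_iff.mp this
  have hmem : (⟨w, hw⟩ : ↥X) ∈ _root_.commutator ↥X := by
    rw [← Abelianization.ker_of]
    exact hone
  rw [← Subgroup.map_subtype_commutator]
  exact ⟨⟨w, hw⟩, hmem, rfl⟩

end Cfsg.Agent.Lib.helper26.S4409
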