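import Mathlib
import Cfsg.Agent.Lib.helper49.SPEDefs

/-!
# S2333 pieces CASEH1 and HYPREAL, core forms (helper22)

`h22_case_h_real_core`: CASEH1 with the statements of HYPREAL and CROSS as hypotheses.
`h22_hyp_real_core`: HYPREAL with the conclusion of PBIL (for this `Q`) as a hypothesis.
-/

set_option autoImplicit false

namespace Cfsg.Agent.Lib.helper49.SPE

open Matrix

/-- CASEH1, core: HYPREAL and CROSS are hypotheses (in their skeleton shapes). -/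
theorem h22_case_h_real_core {F : Type*} [Field F] {n : ℕ}
    (hHYP : ∀ (Q : (Fin n → F) → F), IsQF Q → ∀ (u v : Fin n → F), Q u = 0 → polar Q u v ≠ 0 →
      ∀ (a b c : F), b ≠ 0 → (a = 0 ∨ ∃ t : F, a * t ^ 2 + b * t + c = 0) →
      ∃ u' v' : Fin n → F, Q u' = a ∧ Q v' = c ∧ polar Q u' v' = b)
    (hCROSS : ∀ (Q : (Fin n → F) → F), IsQF Q → ∀ (u' v' : Fin n → F), polar Q u' v' ≠ 0 →
      ∀ (r s : Fin n → F),
      ∃ B : Matrix (Fin n) (Fin n) F, B.det ≠ 0 ∧ B *ᵥ ev F n 0 = u' ∧ B *ᵥ ev F n 1 = v' ∧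
        ∀ j : Fin n, 2 ≤ j.1 →
          polar Q u' (B *ᵥ ev F n j.1) = r j ∧ polar Q v' (B *ᵥ ev F n j.1) = s j)
    (S : Set ((Fin n → F) → F)) (hS : ∀ Q ∈ S, IsQF Q)
    (hstab : ∀ Q ∈ S, ∀ B : Matrix (Fin n) (Fin n) F, B.det ≠ 0 → (fun x => Q (B *ᵥ x)) ∈ S)
    (Q : (Fin n → F) → F) (hQ : Q ∈ S) (u v : Fin n → F) (hu : Q u = 0)
    (huv : polar Q u v ≠ 0) (a b c : F) (hb : b ≠ 0)
    (habc : a = 0 ∨ ∃ t : F, a * t ^ 2 + b * t + c = 0) (r s : Fin n → F) :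
    ∃ Q' ∈ S, Q' (ev F n 0) = a ∧ Q' (ev F n 1) = c ∧ polar Q' (ev F n 0) (ev F n 1) = b ∧
      ∀ j : Fin n, 2 ≤ j.1 →
        polar Q' (ev F n 0) (ev F n j.1) = r j ∧ polar Q' (ev F n 1) (ev F n j.1) = s j := by
  obtain ⟨u', v', hu', hv', hb'⟩ := hHYP Q (hS Q hQ) u v hu huv a b c hb habc
  obtain ⟨B, hdet, hB0, hB1, hBj⟩ := hCROSS Q (hS Q hQ) u' v' (by rw [hb']; exact hb) r s
  have hpol : ∀ x y : Fin n → F,
      polar (fun x => Q (B *ᵥ x)) x y = polar Q (B *ᵥ x) (B *ᵥ y) := by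
    intro x y
    show Q (B *ᵥ (x + y)) - Q (B *ᵥ x) - Q (B *ᵥ y)
      = Q (B *ᵥ x + B *ᵥ y) - Q (B *ᵥ x) - Q (B *ᵥ y)
    rw [Matrix.mulVec_add]
  refine ⟨fun x => Q (B *ᵥ x), hstab Q hQ B hdet, ?_, ?_, ?_, ?_⟩
  · show Q (B *ᵥ ev F n 0) = a
    rw [hB0, hu']
  · show Q (B *ᵥ ev F n 1) = c
    rw [hB1, hv']
  · rw [hpol, hB0, hB1, hb']
  · intro j hj
    rw [hpol, hpol, hB0, hB1]
    exact hBj j hj

/-- HYPREAL, core: the conclusion of PBIL for `Q` is a hypothesis. -/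
theorem h22_hyp_real_core {F : Type*} [Field F] {n : ℕ} (h2 : (2 : F) = 0) (Q : (Fin n → F) → F)
    (hPB : (∀ u u' v, polar Q (u + u') v = polar Q u v + polar Q u' v) ∧
      (∀ (c : F) u v, polar Q (c • u) v = c * polar Q u v) ∧
      (∀ u v, polar Q u v = polar Q v u) ∧
      (∀ (c : F) u, Q (c • u) = c ^ 2 * Q u) ∧
      (∀ u, polar Q u u = 2 * Q u))
    (u v : Fin n → F) (hu : Q u = 0) (huv : polar Q u v ≠ 0) (a b c : F)
    (hb : b ≠ 0) (habc : a = 0 ∨ ∃ t : F, a * t ^ 2 + b * t + c = 0) :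
    ∃ u' v' : Fin n → F, Q u' = a ∧ Q v' = c ∧ polar Q u' v' = b := by
  obtain ⟨hadd, hsmul, hsymm, hQs, hdiag⟩ := hPB
  have hQadd : ∀ x y : Fin n → F, Q (x + y) = Q x + Q y + polar Q x y := by
    intro x y
    unfold polar
    ring
  have haddr : ∀ x y y' : Fin n → F, polar Q x (y + y') = polar Q x y + polar Q x y' := by
    intro x y y'
    rw [hsymm, hadd, hsymm y x, hsymm y' x]
  have hsmulr : ∀ (k : F) (x y : Fin n → F), polar Q x (k • y) = k * polar Q x y := by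
    intro k x y
    rw [hsymm, hsmul, hsymm]
  -- the restriction to the plane spanned by `u`, `v`
  have hQst : ∀ s t : F, Q (s • u + t • v) = t ^ 2 * Q v + s * t * polar Q u v := by
    intro s t
    rw [hQadd, hQs, hQs, hsmul, hsmulr, hu]
    ring
  have hPst : ∀ s t s' t' : F, polar Q (s • u + t • v) (s' • u + t' • v)
      = (s * t' + t * s') * polar Q u v := by
    intro s t s' t'
    rw [hadd, hsmul, hsmul, haddr, haddr, hsmulr, hsmulr, hsmulr, hsmulr, hdiag, hdiag,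
      hsymm v u, hu]
    linear_combination (t * t' * Q v) * h2
  have hβ : polar Q u v ≠ 0 := huv
  rcases habc with ha | ⟨t₀, ht₀⟩
  · -- `a = 0`
    refine ⟨(1 : F) • u + (0 : F) • v,
      ((c - (b / polar Q u v) ^ 2 * Q v) / b) • u + (b / polar Q u v) • v, ?_, ?_, ?_⟩
    · rw [hQst, ha]
      ring
    · rw [hQst]
      field_simp
      ring
    · rw [hPst]
      field_simp
      ring
  · -- `a t₀² + b t₀ + c = 0`
    refine ⟨((a - Q v) / polar Q u v) • u + (1 : F) • v,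
      (b / polar Q u v + t₀ * ((a - Q v) / polar Q u v)) • u + t₀ • v, ?_, ?_, ?_⟩
    · rw [hQst]
      field_simp
      ring
    · rw [hQst]
      field_simp
      linear_combination ht₀ - c * h2
    · rw [hPst]
      field_simp
      linear_combination (t₀ * (a - Q v)) * h2

end Cfsg.Agent.Lib.helper49.SPE
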