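import Mathlib
import Cfsg.Agent.Lib.helper49.SPEDefs
import Cfsg.Agent.Lib.helper49.SPEPBIL
import Cfsg.Agent.Lib.helper22.SPECASEH1core

/-!
# S2333 piece HYPREAL (helper22): a hyperbolic pair realizes every admissible triple `(a, b, c)`
-/

set_option autoImplicit false

namespace Cfsg.Agent.Lib.helper49.SPE

open Matrix

/-- HYPREAL (M) -/
theorem hyp_real {F : Type*} [Field F] {n : ℕ} (h2 : (2 : F) = 0) (Q : (Fin n → F) → F)
    (hQ : IsQF Q) (u v : Fin n → F) (hu : Q u = 0) (huv : polar Q u v ≠ 0) (a b c : F)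
    (hb : b ≠ 0) (habc : a = 0 ∨ ∃ t : F, a * t ^ 2 + b * t + c = 0) :
    ∃ u' v' : Fin n → F, Q u' = a ∧ Q v' = c ∧ polar Q u' v' = b :=
  h22_hyp_real_core h2 Q (polar_bilin Q hQ) u v hu huv a b c hb habc

end Cfsg.Agent.Lib.helper49.SPE
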