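import Mathlib
import Cfsg.Agent.Lib.helper49.SPEDefs
import Cfsg.Agent.Lib.helper89.SPECROSS
import Cfsg.Agent.Lib.helper22.SPEHYPREAL
import Cfsg.Agent.Lib.helper22.SPECASEH1core

/-!
# S2333 piece CASEH1 (helper22): in the hyperbolic case the orbit realizes all data
-/

set_option autoImplicit false

namespace Cfsg.Agent.Lib.helper49.SPE

open Matrix

/-- CASEH1 (M): from HYPREAL + CROSS -/
theorem case_h_real {F : Type*} [Field F] {n : ℕ} (hn : 2 ≤ n) (h2 : (2 : F) = 0)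
    (S : Set ((Fin n → F) → F)) (hS : ∀ Q ∈ S, IsQF Q)
    (hstab : ∀ Q ∈ S, ∀ B : Matrix (Fin n) (Fin n) F, B.det ≠ 0 → (fun x => Q (B *ᵥ x)) ∈ S)
    (Q : (Fin n → F) → F) (hQ : Q ∈ S) (u v : Fin n → F) (hu : Q u = 0)
    (huv : polar Q u v ≠ 0) (a b c : F) (hb : b ≠ 0)
    (habc : a = 0 ∨ ∃ t : F, a * t ^ 2 + b * t + c = 0) (r s : Fin n → F) :
    ∃ Q' ∈ S, Q' (ev F n 0) = a ∧ Q' (ev F n 1) = c ∧ polar Q' (ev F n 0) (ev F n 1) = b ∧
      ∀ j : Fin n, 2 ≤ j.1 →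
        polar Q' (ev F n 0) (ev F n j.1) = r j ∧ polar Q' (ev F n 1) (ev F n j.1) = s j :=
  h22_case_h_real_core
    (fun Q hQ u v hu huv a b c hb habc => hyp_real h2 Q hQ u v hu huv a b c hb habc)
    (fun Q hQ u' v' hb r s => cross_adjust hn h2 Q hQ u' v' hb r s)
    S hS hstab Q hQ u v hu huv a b c hb habc r s

end Cfsg.Agent.Lib.helper49.SPE
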