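import Mathlib
import Cfsg.Agent.Lib.helper45.SVDefs

/-!
# S2425 piece CHP (helper22): the characteristic polynomial over a pair of invariant complements
-/

set_option autoImplicit false

namespace Cfsg.Agent.Lib.helper45.SV

/-- CHP (M). -/
theorem charpoly_of_isCompl {F : Type*} [Field F] {V : Type*} [AddCommGroup V] [Module F V]
    [Finite V] (T : Module.End F V) (A B : Submodule F V) (hA : ∀ v ∈ A, T v ∈ A)
    (hB : ∀ v ∈ B, T v ∈ B) (h : IsCompl A B) :
    T.charpoly = (T.restrict hA).charpoly * (T.restrict hB).charpoly := by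
  classical
  have hconj : (Submodule.prodEquivOfIsCompl A B h).conj
      ((T.restrict hA).prodMap (T.restrict hB)) = T := by
    apply LinearMap.ext
    intro v
    obtain ⟨⟨a, b⟩, rfl⟩ := (Submodule.prodEquivOfIsCompl A B h).surjective v
    rw [LinearEquiv.conj_apply]
    simp [Submodule.coe_prodEquivOfIsCompl']
  conv_lhs => rw [← hconj]
  rw [LinearEquiv.charpoly_conj, LinearMap.charpoly_prodMap]

end Cfsg.Agent.Lib.helper45.SV
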