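import Mathlib
import Cfsg.Prelude.Def_Classical
import Cfsg.Prelude.Def_GeometricClasses
import Cfsg.Agent.Lib.helper49.WittIso

/-!
S5977 / S5978 block [A] (architect helper59), piece RHOJ (`sfk_rho_neg`): the reflection `r` in `e`
has determinant `-1` and `r κ' r⁻¹` still anticommutes with `x`.
-/

set_option autoImplicit false

namespace Cfsg.Agent.Lib.helper59.Sfk

open Matrix Cfsg.Geo
open Cfsg.Agent.Lib.helper49 (detHom spinorSign)

/-- RHOJ (L): the reflection `r` in `e` has determinant `-1` and `r κ' r⁻¹` still anticommutes with `x`. -/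
theorem sfk_rho_neg {F : Type*} [Field F] [Fintype F] {ι : Type} [Fintype ι] [DecidableEq ι]
    (h2 : (2 : F) ≠ 0) (Q : QuadraticForm F (ι → F))
    (hQ : (QuadraticMap.polarBilin Q).Nondegenerate)
    (x : GL ι F) (hx : x ∈ Cfsg.isometryGroup F (⇑Q))
    (hxx : (x : Matrix ι ι F) * (x : Matrix ι ι F) = -1) (κ' : Matrix ι ι F)
    (hsa : ∀ u v : ι → F, QuadraticMap.polar (⇑Q) (κ' *ᵥ u) v = QuadraticMap.polar (⇑Q) u (κ' *ᵥ v))
    (hanti : (x : Matrix ι ι F) * κ' = -(κ' * (x : Matrix ι ι F)))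
    (e : ι → F) (he : Q e ≠ 0) (α β : F)
    (hκe : κ' *ᵥ e = α • e + β • ((x : Matrix ι ι F) *ᵥ e)) :
    ∃ r : ↥(Cfsg.isometryGroup F (⇑Q)), detHom (⇑Q) r = -1 ∧
      (x : Matrix ι ι F) * (((r : GL ι F) : Matrix ι ι F) * κ' * (((r : GL ι F)⁻¹ : GL ι F) : Matrix ι ι F)) =
        -((((r : GL ι F) : Matrix ι ι F) * κ' * (((r : GL ι F)⁻¹ : GL ι F) : Matrix ι ι F)) *
          (x : Matrix ι ι F)) := by
  classical
  have hxxv : ∀ w : ι → F, (x : Matrix ι ι F) *ᵥ ((x : Matrix ι ι F) *ᵥ w) = -w := by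
    intro w
    rw [Matrix.mulVec_mulVec, hxx, Matrix.neg_mulVec, Matrix.one_mulVec]
  have hiso : ∀ u v : ι → F,
      QuadraticMap.polar (⇑Q) ((x : Matrix ι ι F) *ᵥ u) ((x : Matrix ι ι F) *ᵥ v)
        = QuadraticMap.polar (⇑Q) u v :=
    fun u v => Cfsg.Agent.Lib.helper49.isometry_polar Q ⟨x, hx⟩ u v
  have hskew : ∀ u v : ι → F, QuadraticMap.polar (⇑Q) u ((x : Matrix ι ι F) *ᵥ v)
      = -QuadraticMap.polar (⇑Q) ((x : Matrix ι ι F) *ᵥ u) v := by
    intro u v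
    rw [← hiso u ((x : Matrix ι ι F) *ᵥ v), hxxv, QuadraticMap.polar_neg_right]
  have hef : QuadraticMap.polar (⇑Q) e ((x : Matrix ι ι F) *ᵥ e) = 0 := by
    have h := hskew e e
    rw [QuadraticMap.polar_comm (⇑Q) ((x : Matrix ι ι F) *ᵥ e) e] at h
    have h' : (2 : F) * QuadraticMap.polar (⇑Q) e ((x : Matrix ι ι F) *ᵥ e) = 0 := by
      linear_combination h
    exact (mul_eq_zero.mp h').resolve_left h2
  have hee : QuadraticMap.polar (⇑Q) e e = 2 * Q e := by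
    rw [QuadraticMap.polar_self, nsmul_eq_mul, Nat.cast_ofNat]
  have hantiv : ∀ v : ι → F,
      (x : Matrix ι ι F) *ᵥ (κ' *ᵥ v) = -(κ' *ᵥ ((x : Matrix ι ι F) *ᵥ v)) := by
    intro v
    rw [Matrix.mulVec_mulVec, hanti, Matrix.neg_mulVec, ← Matrix.mulVec_mulVec]
  have hsa' : ∀ v : ι → F, QuadraticMap.polar (⇑Q) e (κ' *ᵥ v) =
      α * QuadraticMap.polar (⇑Q) e v + β * QuadraticMap.polar (⇑Q) ((x : Matrix ι ι F) *ᵥ e) v := by
    intro v
    rw [← hsa e v, hκe, QuadraticMap.polar_add_left, QuadraticMap.polar_smul_left,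
      QuadraticMap.polar_smul_left]
    simp only [smul_eq_mul]
  have hR : ∀ w : ι → F, Cfsg.reflectionMatrix (⇑Q) e *ᵥ w =
      w - ((Q e)⁻¹ * QuadraticMap.polar (⇑Q) e w) • e :=
    fun w => Cfsg.Agent.Lib.helper49.refl_mulVec Q e w
  have hRκR : ∀ v : ι → F,
      Cfsg.reflectionMatrix (⇑Q) e *ᵥ (κ' *ᵥ (Cfsg.reflectionMatrix (⇑Q) e *ᵥ v)) =
        κ' *ᵥ v - (β * ((Q e)⁻¹ * QuadraticMap.polar (⇑Q) e v)) • ((x : Matrix ι ι F) *ᵥ e)
          - (β * ((Q e)⁻¹ * QuadraticMap.polar (⇑Q) ((x : Matrix ι ι F) *ᵥ e) v)) • e := by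
    intro v
    rw [hR v, Matrix.mulVec_sub, Matrix.mulVec_smul, hκe, hR, QuadraticMap.polar_sub_right,
      QuadraticMap.polar_smul_right, QuadraticMap.polar_add_right, QuadraticMap.polar_smul_right,
      QuadraticMap.polar_smul_right, hsa', hee, hef]
    ext i
    simp only [Pi.sub_apply, Pi.smul_apply, Pi.add_apply, smul_eq_mul]
    field_simp
    ring
  refine ⟨Cfsg.Agent.Lib.helper49.reflG Q e he, Cfsg.Agent.Lib.helper49.detHom_reflG Q e he, ?_⟩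
  have hRval : (((Cfsg.Agent.Lib.helper49.reflG Q e he : GL ι F)) : Matrix ι ι F) =
      Cfsg.reflectionMatrix (⇑Q) e := rfl
  have hRinv : ((((Cfsg.Agent.Lib.helper49.reflG Q e he : GL ι F))⁻¹ : GL ι F) : Matrix ι ι F) =
      Cfsg.reflectionMatrix (⇑Q) e := rfl
  rw [hRval, hRinv]
  apply Matrix.toLin'.injective
  apply LinearMap.ext
  intro v
  simp only [Matrix.toLin'_apply, Matrix.neg_mulVec, ← Matrix.mulVec_mulVec]
  rw [hRκR v, hRκR ((x : Matrix ι ι F) *ᵥ v), Matrix.mulVec_sub, Matrix.mulVec_sub,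
    Matrix.mulVec_smul, Matrix.mulVec_smul, hxxv, hantiv v, hskew e v, hiso e v]
  ext i
  simp only [Pi.sub_apply, Pi.smul_apply, Pi.neg_apply, smul_eq_mul]
  ring

end Cfsg.Agent.Lib.helper59.Sfk
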