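import Mathlib
import Cfsg.Agent.Lib.helper24.SfoDefs
import Cfsg.Agent.Lib.helper99.TsB
import Cfsg.Agent.Lib.helper32.SffN3

/-!
# S5981 piece OEVEN (helper22, racer copy): a similarity of prime order `r ∤ q - 1`, `r` odd,
of a nondegenerate quadratic form moves a space of even dimension
-/

set_option autoImplicit false
set_option linter.unusedVariables false

namespace Cfsg.Agent.Lib.helper24

open Module Matrix Cfsg.Geo

/-- OEVEN (racer copy, prefixed name) -/
theorem h22_sfo_fix_even {F : Type*} [Field F] [Fintype F] {n : ℕ} (h2 : (2 : F) ≠ 0)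
    (Q : (Fin n → F) → F) (hQ : IsNondegenerateQuadraticForm Q) (r : ℕ) [Fact r.Prime]
    (hr2 : r ≠ 2) (hrF : (r : F) ≠ 0) (hnd : ¬ r ∣ Fintype.card F - 1) (g : GL (Fin n) F)
    (hg : g ∈ quadSimilarityGroup Q) (hgr : (g : Matrix (Fin n) (Fin n) F) ^ r = 1) :
    Even (n - Module.finrank F
      (LinearMap.ker (Matrix.toLin' (g : Matrix (Fin n) (Fin n) F) - 1))) := by
  classical
  rcases Nat.eq_zero_or_pos n with hn0 | hnpos
  · subst hn0
    simp
  have hB := hQ.polar_bilinear
  obtain ⟨B₀, hB₀⟩ : ∃ B₀ : (Fin n → F) →ₗ[F] (Fin n → F) →ₗ[F] F,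
      ∀ u v, B₀ u v = QuadraticMap.polar Q u v :=
    ⟨LinearMap.mk₂ F (QuadraticMap.polar Q) hB.add_left (fun c x v => hB.smul_left c x v)
      hB.add_right (fun c v x => hB.smul_right c v x), fun u v => rfl⟩
  obtain ⟨M, hM⟩ : ∃ M : Matrix (Fin n) (Fin n) F, M = LinearMap.toMatrix₂' F B₀ := ⟨_, rfl⟩
  have hdet : M.det ≠ 0 := by
    intro h0
    obtain ⟨v, hv, hMv⟩ := Matrix.exists_mulVec_eq_zero_iff.2 h0
    obtain ⟨x, hx⟩ := (hQ.nondegenerate v hv).1
    apply hx
    rw [← hB₀, ← Matrix.toLinearMap₂'_toMatrix' (R := F) B₀, ← hM, Matrix.toLinearMap₂'_apply',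
      hMv, dotProduct_zero]
  have hsymm : Mᵀ = M := by
    ext i j
    rw [Matrix.transpose_apply, hM, LinearMap.toMatrix₂'_apply, LinearMap.toMatrix₂'_apply,
      hB₀, hB₀]
    exact QuadraticMap.polar_comm Q _ _
  obtain ⟨c, hc⟩ := hg
  obtain ⟨A, hA⟩ : ∃ A : Matrix (Fin n) (Fin n) F, A = (g : Matrix (Fin n) (Fin n) F) :=
    ⟨_, rfl⟩
  rw [← hA] at hc hgr ⊢
  have hpol : ∀ u v, QuadraticMap.polar Q (A *ᵥ u) (A *ᵥ v)
      = (c : F) * QuadraticMap.polar Q u v := by
    intro u v
    unfold QuadraticMap.polar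
    rw [← Matrix.mulVec_add, hc, hc, hc]
    ring
  have hcomp : B₀.compl₁₂ (Matrix.toLin' A) (Matrix.toLin' A) = (c : F) • B₀ := by
    refine LinearMap.ext₂ (fun u v => ?_)
    rw [LinearMap.compl₁₂_apply, Matrix.toLin'_apply, Matrix.toLin'_apply, hB₀,
      LinearMap.smul_apply, LinearMap.smul_apply, hB₀, smul_eq_mul]
    exact hpol u v
  have hmat : Aᵀ * M * A = (c : F) • M := by
    have h := LinearMap.toMatrix₂'_compl₁₂ B₀ (Matrix.toLin' A) (Matrix.toLin' A)
    rw [hcomp, LinearMap.toMatrix'_toLin', map_smul, ← hM] at h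
    exact h.symm
  have hpowmat : ∀ k : ℕ, (A ^ k)ᵀ * M * A ^ k = (c : F) ^ k • M := by
    intro k
    induction k with
    | zero => simp
    | succ k ih =>
      rw [pow_succ', Matrix.transpose_mul]
      calc (A ^ k)ᵀ * Aᵀ * M * (A * A ^ k) = (A ^ k)ᵀ * (Aᵀ * M * A) * A ^ k := by
            simp only [Matrix.mul_assoc]
        _ = (c : F) ^ (k + 1) • M := by
            rw [hmat, Matrix.mul_smul, Matrix.smul_mul, ih, smul_smul, ← pow_succ']
  have hcr : (c : F) ^ r = 1 := by
    have h := hpowmat r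
    rw [hgr, Matrix.transpose_one, Matrix.one_mul, Matrix.mul_one] at h
    have hM0 : M ≠ 0 := by
      intro hM0
      have hne : Nonempty (Fin n) := ⟨⟨0, hnpos⟩⟩
      rw [hM0] at hdet
      exact hdet Matrix.det_zero
    obtain ⟨i, j, hij⟩ : ∃ i j, M i j ≠ 0 := by
      by_contra hcon
      apply hM0
      ext i j
      by_contra hne
      exact hcon ⟨i, j, hne⟩
    have h1 := congrFun (congrFun h i) j
    rw [Matrix.smul_apply, smul_eq_mul] at h1
    have h3 : 1 * M i j = (c : F) ^ r * M i j := by rw [one_mul]; exact h1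
    exact (mul_right_cancel₀ hij h3).symm
  have hc1 : (c : F) = 1 := h32_eq_one_of_pow_prime (F := F) r hnd _ hcr
  have hmat' : Aᵀ * M * A = M := by rw [hmat, hc1, one_smul]
  have hodd : Odd r := (Fact.out : r.Prime).odd_of_ne_two hr2
  have heven := Cfsg.Agent.Lib.helper99.ts_even_rank_isom h2 M A hsymm hdet hmat' r hodd hgr
  have hker : Module.finrank F (LinearMap.ker (Matrix.toLin' A - 1)) = n - (A - 1).rank := by
    have h1 : (Matrix.toLin' A - 1 : Module.End F (Fin n → F)) = (A - 1).mulVecLin := by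
      apply LinearMap.ext
      intro v
      simp
    rw [h1]
    have h2' := LinearMap.finrank_range_add_finrank_ker ((A - 1).mulVecLin)
    rw [Module.finrank_fin_fun] at h2'
    have h3 : (A - 1).rank = Module.finrank F (LinearMap.range (A - 1).mulVecLin) := rfl
    omega
  have hle : (A - 1).rank ≤ n := by
    have h2' := LinearMap.finrank_range_add_finrank_ker ((A - 1).mulVecLin)
    rw [Module.finrank_fin_fun] at h2'
    have h3 : (A - 1).rank = Module.finrank F (LinearMap.range (A - 1).mulVecLin) := rfl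
    omega
  rw [hker, Nat.sub_sub_self hle]
  exact heven

end Cfsg.Agent.Lib.helper24
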