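import Mathlib
import Cfsg.Agent.Lib.helper24.SfoDefs
import Cfsg.Agent.Lib.helper22.SfoONODDcore
import Cfsg.Agent.Lib.helper22.SfoOEVEN

/-!
# S5981 piece ONODD (helper22): `i = ord_r(q)` odd, `i ≤ n` gives a derangement of order `r`
-/

set_option autoImplicit false
set_option linter.unusedVariables false

namespace Cfsg.Agent.Lib.helper24

open Module Matrix Cfsg.Geo

/-- ONODD -/
theorem sfo_nec_odd {F : Type*} [Field F] [Fintype F] {n : ℕ} (h2 : (2 : F) ≠ 0)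
    (Q : (Fin n → F) → F) (hQ : IsNondegenerateQuadraticForm Q) (r : ℕ) [Fact r.Prime]
    (hr2 : r ≠ 2) (hrF : (r : F) ≠ 0) (hnd : ¬ r ∣ Fintype.card F - 1)
    (hi : Odd (orderOf ((Fintype.card F : ℕ) : ZMod r)))
    (hin : orderOf ((Fintype.card F : ℕ) : ZMod r) ≤ n) : SfoDerang Q r :=
  h22_sfo_nec_odd_core Q r hrF hnd hi hin
    (fun g hg hgr => h22_sfo_fix_even h2 Q hQ r hr2 hrF hnd g hg hgr)

end Cfsg.Agent.Lib.helper24
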