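/-
helper22: the twisted root elements of all orbits of positive roots lie in the twisted group of type D4.
-/
import Cfsg.Agent.Lib.helper22.TwReach
import Cfsg.Agent.Lib.helper22.TwInstD4

set_option autoImplicit false
set_option maxRecDepth 100000

namespace Cfsg.Agent.Lib.helper22

open Cfsg.Lie

universe u

/-- For the `k`-th positive root `r`: a word `w`, an orbit `o` and a position `j` with `r = w(p)`, `p` the
fundamental root at position `j` of `o`. -/
def d4reachCert : List (List (ℕ × ℕ) × (ℕ × ℕ) × ℕ) :=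
  [([], (0, 3), 2), ([], (0, 3), 1), ([], (1, 1), 0), ([(1, 1)], (0, 3), 2), ([(1, 1)], (0, 3), 1),
  ([(0, 3), (1, 1)], (0, 3), 0), ([], (0, 3), 0), ([(1, 1)], (0, 3), 0), ([(0, 3), (1, 1)], (0, 3), 1),
  ([(0, 3), (1, 1)], (0, 3), 2), ([(0, 3)], (1, 1), 0), ([(1, 1), (0, 3)], (1, 1), 0)]

theorem d4reachOK : orbReachOK chevD4 d4tau d4orbs d4reachCert = true := by decide +kernel

/-- The twisted root elements of all orbits of positive roots lie in the twisted group of type D4. -/
theorem d4_nm_pos_mem {K : Type u} [Field K] (φ : K →+* K) {r : ℕ} (hr1 : 12 ≤ r) (hr2 : r < 24) {t : K}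
    (ht : (d4sigma φ)^[orbReachLen d4reachCert (r - 12)] (xGL (chevFacts_D4 K).I.hSD' r t) =
      xGL (chevFacts_D4 K).I.hSD' r t) :
    nmProd (d4sigma φ) (orbReachLen d4reachCert (r - 12)) (xGL (chevFacts_D4 K).I.hSD' r t) ∈
      twGroup (chevFacts_D4 K).I.hSD' (d4sigma φ) φ d4orbs :=
  (twFacts_D4 φ).nm_pos_mem (chevFacts_D4 K) d4reachCert d4reachOK (r := r) hr1 hr2 ht

end Cfsg.Agent.Lib.helper22
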