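/-
helper22: the twisted root elements of all orbits of positive roots lie in the twisted group of type E6.
-/
import Cfsg.Agent.Lib.helper22.TwReach
import Cfsg.Agent.Lib.helper22.TwInstE6

set_option autoImplicit false
set_option maxRecDepth 100000

namespace Cfsg.Agent.Lib.helper22

open Cfsg.Lie

universe u

/-- For the `k`-th positive root `r`: a word `w`, an orbit `o` and a position `j` with `r = w(p)`, `p` the
fundamental root at position `j` of `o`. -/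
def e6reachCert : List (List (ℕ × ℕ) × (ℕ × ℕ) × ℕ) :=
  [([], (0, 2), 1), ([], (2, 2), 1), ([(2, 2)], (0, 2), 1), ([], (3, 1), 0), ([(3, 1)], (2, 2), 1),
  ([(3, 1), (2, 2)], (0, 2), 1), ([], (2, 2), 0), ([(3, 1)], (2, 2), 0), ([(2, 2)], (3, 1), 0),
  ([(2, 2), (3, 1), (2, 2)], (0, 2), 1), ([], (1, 1), 0), ([(3, 1)], (1, 1), 0), ([(1, 1), (3, 1)], (2, 2), 1),
  ([(1, 1), (3, 1), (2, 2)], (0, 2), 1), ([(1, 1), (3, 1)], (2, 2), 0), ([(2, 2), (3, 1)], (1, 1), 0),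
  ([(2, 2), (1, 1), (3, 1), (2, 2)], (0, 2), 1), ([(3, 1), (2, 2), (3, 1)], (1, 1), 0),
  ([(3, 1), (2, 2), (1, 1), (3, 1), (2, 2)], (0, 2), 1), ([(2, 2), (3, 1), (2, 2), (1, 1), (3, 1), (2, 2)], (0, 2), 1),
  ([], (0, 2), 0), ([(2, 2)], (0, 2), 0), ([(3, 1), (2, 2)], (0, 2), 0), ([(2, 2), (3, 1), (2, 2)], (0, 2), 0),
  ([(0, 2), (2, 2)], (3, 1), 0), ([(1, 1), (3, 1), (2, 2)], (0, 2), 0), ([(2, 2), (1, 1), (3, 1), (2, 2)], (0, 2), 0),
  ([(0, 2), (2, 2), (3, 1)], (1, 1), 0), ([(3, 1), (2, 2), (1, 1), (3, 1), (2, 2)], (0, 2), 0),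
  ([(0, 2), (3, 1), (2, 2), (3, 1)], (1, 1), 0), ([(0, 2), (2, 2), (3, 1), (2, 2), (1, 1), (3, 1), (2, 2)], (0, 2), 1),
  ([(2, 2), (3, 1), (2, 2), (1, 1), (3, 1), (2, 2)], (0, 2), 0),
  ([(0, 2), (2, 2), (3, 1), (2, 2), (1, 1), (3, 1), (2, 2)], (0, 2), 0),
  ([(2, 2), (0, 2), (3, 1), (2, 2), (3, 1)], (1, 1), 0), ([(3, 1), (2, 2), (0, 2), (3, 1), (2, 2), (3, 1)], (1, 1), 0),
  ([(1, 1), (3, 1), (2, 2), (0, 2), (3, 1), (2, 2), (3, 1)], (1, 1), 0)]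

theorem e6reachOK : orbReachOK chevE6 e6tau e6orbs e6reachCert = true := by decide +kernel

/-- The twisted root elements of all orbits of positive roots lie in the twisted group of type E6. -/
theorem e6_nm_pos_mem {K : Type u} [Field K] (φ : K →+* K) {r : ℕ} (hr1 : 36 ≤ r) (hr2 : r < 72) {t : K}
    (ht : (e6sigma φ)^[orbReachLen e6reachCert (r - 36)] (xGL (chevFacts_E6 K).I.hSD' r t) =
      xGL (chevFacts_E6 K).I.hSD' r t) :
    nmProd (e6sigma φ) (orbReachLen e6reachCert (r - 36)) (xGL (chevFacts_E6 K).I.hSD' r t) ∈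
      twGroup (chevFacts_E6 K).I.hSD' (e6sigma φ) φ e6orbs :=
  (twFacts_E6 φ).nm_pos_mem (chevFacts_E6 K) e6reachCert e6reachOK (r := r) hr1 hr2 ht

end Cfsg.Agent.Lib.helper22
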