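import Mathlib

/-!
Piece L0 of the S0720 project (owner helper68): a rational linear relation among the powers
`1, ζ, …, ζ^(p-1)` of a primitive `p`-th root of unity has constant coefficients.
-/

set_option autoImplicit false

namespace Cfsg.Agent.Lib.helper22.W2P

open Polynomial

variable {p : ℕ} [Fact p.Prime]

theorem sum_zmod_val' (g : ℕ → ℂ) : ∑ k : ZMod p, g k.val = ∑ j ∈ Finset.range p, g j := by
  have : NeZero p := ⟨(Fact.out : p.Prime).ne_zero⟩
  refine Finset.sum_nbij' (fun k => k.val) (fun j => (j : ZMod p)) ?_ ?_ ?_ ?_ ?_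
  · intro k _; exact Finset.mem_range.mpr (ZMod.val_lt k)
  · intro j _; exact Finset.mem_univ _
  · intro k _; exact ZMod.natCast_zmod_val k
  · intro j hj; exact ZMod.val_natCast_of_lt (Finset.mem_range.mp hj)
  · intro k _; rfl

theorem zeta_indep {ζ : ℂ} (hζ : IsPrimitiveRoot ζ p) (c : ZMod p → ℚ)
    (h : ∑ s : ZMod p, ((c s : ℚ) : ℂ) * ζ ^ s.val = 0) : ∀ s, c s = c 0 := by
  have hp : p.Prime := Fact.out
  have : NeZero p := ⟨hp.ne_zero⟩
  let f : ℚ[X] := ∑ j ∈ Finset.range p, C (c (j : ZMod p)) * X ^ j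
  have hcoeff : ∀ j, j < p → f.coeff j = c (j : ZMod p) := by
    intro j hj
    simp only [f, finsetSum_coeff, coeff_C_mul_X_pow]
    rw [Finset.sum_eq_single j]
    · simp
    · intro b _ hb
      rw [if_neg (fun h => hb h.symm)]
    · intro hj'
      exact absurd (Finset.mem_range.mpr hj) hj'
  have haeval : aeval ζ f = 0 := by
    simp only [f, map_sum, map_mul, aeval_C, map_pow, aeval_X]
    rw [← h, ← sum_zmod_val' (fun j => (algebraMap ℚ ℂ) (c (j : ZMod p)) * ζ ^ j)]
    apply Finset.sum_congr rfl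
    intro s _
    rw [ZMod.natCast_zmod_val]
    rfl
  have hdvd : cyclotomic p ℚ ∣ f := by
    rw [cyclotomic_eq_minpoly_rat hζ hp.pos]
    exact minpoly.dvd ℚ ζ haeval
  obtain ⟨g, hg⟩ := hdvd
  have hdegf : f.natDegree ≤ p - 1 := by
    apply natDegree_sum_le_of_forall_le
    intro j hj
    exact (natDegree_C_mul_X_pow_le _ _).trans (by have := Finset.mem_range.mp hj; omega)
  have hdegc : (cyclotomic p ℚ).natDegree = p - 1 := by
    rw [natDegree_cyclotomic, Nat.totient_prime hp]
  have hcyc : ∀ j, j < p → (cyclotomic p ℚ).coeff j = 1 := by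
    intro j hj
    rw [cyclotomic_prime, finsetSum_coeff]
    simp only [coeff_X_pow]
    rw [Finset.sum_eq_single j]
    · simp
    · intro b _ hb
      rw [if_neg (fun h => hb h.symm)]
    · intro hj'
      exact absurd (Finset.mem_range.mpr hj) hj'
  have hconst : ∃ a : ℚ, g = C a := by
    by_cases hg0 : g = 0
    · exact ⟨0, by rw [hg0, map_zero]⟩
    · have hc0 : cyclotomic p ℚ ≠ 0 := cyclotomic_ne_zero p ℚ
      have h1 : f.natDegree = (cyclotomic p ℚ).natDegree + g.natDegree := by
        rw [hg, natDegree_mul hc0 hg0]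
      have h2 : g.natDegree = 0 := by omega
      exact ⟨g.coeff 0, eq_C_of_natDegree_eq_zero h2⟩
  obtain ⟨a, rfl⟩ := hconst
  have hall : ∀ j, j < p → c (j : ZMod p) = a := by
    intro j hj
    rw [← hcoeff j hj, hg, coeff_mul_C, hcyc j hj, one_mul]
  intro s
  have h1 := hall s.val (ZMod.val_lt s)
  have h2 := hall 0 hp.pos
  rw [ZMod.natCast_zmod_val] at h1
  rw [Nat.cast_zero] at h2
  rw [h1, h2]

end Cfsg.Agent.Lib.helper22.W2P
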