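import Mathlib

/-!
Piece M of the S0720 project (owner helper68): two facts on 2×2 complex matrices.
-/

set_option autoImplicit false

namespace Cfsg.Agent.Lib.helper22.W2P

open scoped ComplexConjugate

theorem m2_trichotomy (M : Matrix (Fin 2) (Fin 2) ℂ) (κ : ℂ) (hκ : κ ≠ 0)
    (hM : M * M = κ • M) :
    M = 0 ∨ M = κ • (1 : Matrix (Fin 2) (Fin 2) ℂ) ∨ M.trace = κ := by
  have e := fun i j => congrFun (congrFun hM i) j
  have e00 := e 0 0
  have e01 := e 0 1
  have e10 := e 1 0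
  have e11 := e 1 1
  simp only [Matrix.mul_apply, Fin.sum_univ_two, Matrix.smul_apply, smul_eq_mul] at e00 e01 e10 e11
  by_cases htr : M.trace = κ
  · exact Or.inr (Or.inr htr)
  rw [Matrix.trace_fin_two] at htr
  have hne : M 0 0 + M 1 1 - κ ≠ 0 := sub_ne_zero.mpr htr
  have hb : M 0 1 = 0 := by
    have : M 0 1 * (M 0 0 + M 1 1 - κ) = 0 := by linear_combination e01
    exact (mul_eq_zero.mp this).resolve_right hne
  have hc : M 1 0 = 0 := by
    have : M 1 0 * (M 0 0 + M 1 1 - κ) = 0 := by linear_combination e10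
    exact (mul_eq_zero.mp this).resolve_right hne
  have ha : M 0 0 = 0 ∨ M 0 0 = κ := by
    have : M 0 0 * (M 0 0 - κ) = 0 := by rw [hb] at e00; linear_combination e00
    rcases mul_eq_zero.mp this with h | h
    · exact Or.inl h
    · exact Or.inr (sub_eq_zero.mp h)
  have hd : M 1 1 = 0 ∨ M 1 1 = κ := by
    have : M 1 1 * (M 1 1 - κ) = 0 := by rw [hb] at e11; linear_combination e11
    rcases mul_eq_zero.mp this with h | h
    · exact Or.inl h
    · exact Or.inr (sub_eq_zero.mp h)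
  rcases ha with ha | ha <;> rcases hd with hd | hd
  · left
    ext i j
    fin_cases i <;> fin_cases j <;> simp [ha, hb, hc, hd]
  · exfalso; apply htr; rw [ha, hd]; ring
  · exfalso; apply htr; rw [ha, hd]; ring
  · right; left
    ext i j
    fin_cases i <;> fin_cases j <;> simp [ha, hb, hc, hd]

theorem m2_structure (M N : Matrix (Fin 2) (Fin 2) ℂ) (κ μ : ℝ) (hκ : κ ≠ 0)
    (hH : M.conjTranspose = M) (hM : M * M = (κ : ℂ) • M) (htr : M.trace = (κ : ℂ))
    (hNM : N * M = (μ : ℂ) • M) (hMN : M * N = (μ : ℂ) • M) :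
    (∑ j, ∑ k, Complex.normSq (N j k) = μ ^ 2 + Complex.normSq (N.trace - (μ : ℂ))) ∧
      N 0 0 - N 1 1 = (2 * M 0 0 / (κ : ℂ) - 1) * (2 * (μ : ℂ) - N.trace) := by
  have hκc : (κ : ℂ) ≠ 0 := by exact_mod_cast hκ
  -- entries of the hypotheses
  have eM := fun i j => congrFun (congrFun hM i) j
  have m00 := eM 0 0
  simp only [Matrix.mul_apply, Fin.sum_univ_two, Matrix.smul_apply, smul_eq_mul] at m00
  have eNM := fun i j => congrFun (congrFun hNM i) j
  have e1 := eNM 0 0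
  have e2 := eNM 0 1
  have e3 := eNM 1 0
  have e4 := eNM 1 1
  simp only [Matrix.mul_apply, Fin.sum_univ_two, Matrix.smul_apply, smul_eq_mul] at e1 e2 e3 e4
  have eMN := fun i j => congrFun (congrFun hMN i) j
  have f1 := eMN 0 0
  have f2 := eMN 0 1
  have f3 := eMN 1 0
  have f4 := eMN 1 1
  simp only [Matrix.mul_apply, Fin.sum_univ_two, Matrix.smul_apply, smul_eq_mul] at f1 f2 f3 f4
  rw [Matrix.trace_fin_two] at htr
  have eH := fun i j => congrFun (congrFun hH i) j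
  have ha : conj (M 0 0) = M 0 0 := by simpa [Matrix.conjTranspose_apply] using eH 0 0
  have hd : conj (M 1 1) = M 1 1 := by simpa [Matrix.conjTranspose_apply] using eH 1 1
  have hb : conj (M 0 1) = M 1 0 := by simpa [Matrix.conjTranspose_apply] using eH 1 0
  have hc : conj (M 1 0) = M 0 1 := by simpa [Matrix.conjTranspose_apply] using eH 0 1
  rw [Matrix.trace_fin_two]
  generalize hA : M 0 0 = a at *
  generalize hB : M 0 1 = b at *
  generalize hC : M 1 0 = c at *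
  generalize hD : M 1 1 = d at *
  generalize hn1 : N 0 0 = n₁ at *
  generalize hn2 : N 0 1 = n₂ at *
  generalize hn3 : N 1 0 = n₃ at *
  generalize hn4 : N 1 1 = n₄ at *
  -- ad = bc
  have hdet : a * d = b * c := by linear_combination (-1 : ℂ) * m00 + a * htr
  -- the entry formulas
  have g1 : (κ : ℂ) * n₁ = (μ : ℂ) * a + (n₁ + n₄ - (μ : ℂ)) * d := by
    linear_combination e1 - f4 - n₁ * htr
  have g4 : (κ : ℂ) * n₄ = (μ : ℂ) * d + (n₁ + n₄ - (μ : ℂ)) * a := by
    linear_combination f4 - e1 - n₄ * htr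
  have g2 : (κ : ℂ) * n₂ = (2 * (μ : ℂ) - n₁ - n₄) * b := by
    linear_combination e2 + f2 - n₂ * htr
  have g3 : (κ : ℂ) * n₃ = (2 * (μ : ℂ) - n₁ - n₄) * c := by
    linear_combination e3 + f3 - n₃ * htr
  have hκconj : conj (κ : ℂ) = (κ : ℂ) := Complex.conj_ofReal κ
  have hμconj : conj (μ : ℂ) = (μ : ℂ) := Complex.conj_ofReal μ
  -- conjugate formulas
  have g1' : (κ : ℂ) * conj n₁ = (μ : ℂ) * a + (conj n₁ + conj n₄ - (μ : ℂ)) * d := by
    have := congrArg conj g1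
    simpa [map_mul, map_add, map_sub, hκconj, hμconj, ha, hd] using this
  have g4' : (κ : ℂ) * conj n₄ = (μ : ℂ) * d + (conj n₁ + conj n₄ - (μ : ℂ)) * a := by
    have := congrArg conj g4
    simpa [map_mul, map_add, map_sub, hκconj, hμconj, ha, hd] using this
  have g2' : (κ : ℂ) * conj n₂ = (2 * (μ : ℂ) - conj n₁ - conj n₄) * c := by
    have := congrArg conj g2
    simpa [map_mul, map_add, map_sub, map_ofNat, hκconj, hμconj, hb] using this
  have g3' : (κ : ℂ) * conj n₃ = (2 * (μ : ℂ) - conj n₁ - conj n₄) * b := by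
    have := congrArg conj g3
    simpa [map_mul, map_add, map_sub, map_ofNat, hκconj, hμconj, hc] using this
  constructor
  · -- the norm identity, in ℂ
    have key : (κ : ℂ) ^ 2 * (n₁ * conj n₁ + n₂ * conj n₂ + n₃ * conj n₃ + n₄ * conj n₄)
        = (κ : ℂ) ^ 2 * ((μ : ℂ) ^ 2 + (n₁ + n₄ - (μ : ℂ)) * (conj n₁ + conj n₄ - (μ : ℂ))) := by
      have p1 : (κ : ℂ) ^ 2 * (n₁ * conj n₁) = ((κ : ℂ) * n₁) * ((κ : ℂ) * conj n₁) := by ring
      have p2 : (κ : ℂ) ^ 2 * (n₂ * conj n₂) = ((κ : ℂ) * n₂) * ((κ : ℂ) * conj n₂) := by ring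
      have p3 : (κ : ℂ) ^ 2 * (n₃ * conj n₃) = ((κ : ℂ) * n₃) * ((κ : ℂ) * conj n₃) := by ring
      have p4 : (κ : ℂ) ^ 2 * (n₄ * conj n₄) = ((κ : ℂ) * n₄) * ((κ : ℂ) * conj n₄) := by ring
      rw [mul_add, mul_add, mul_add, p1, p2, p3, p4, g1, g1', g2, g2', g3, g3', g4, g4', ← htr]
      linear_combination (-2 : ℂ) * ((2 * (μ : ℂ) - n₁ - n₄) * (2 * (μ : ℂ) - conj n₁ - conj n₄)) * hdet
    have key2 := mul_left_cancel₀ (pow_ne_zero 2 hκc) key
    have hθ : (n₁ + n₄ - (μ : ℂ)) * (conj n₁ + conj n₄ - (μ : ℂ))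
        = ((Complex.normSq (n₁ + n₄ - (μ : ℂ)) : ℝ) : ℂ) := by
      rw [← Complex.mul_conj]
      simp [map_add, map_sub, hμconj]
    rw [hθ, Complex.mul_conj, Complex.mul_conj, Complex.mul_conj, Complex.mul_conj] at key2
    simp only [Fin.sum_univ_two, hn1, hn2, hn3, hn4]
    have : ((Complex.normSq n₁ + Complex.normSq n₂ + (Complex.normSq n₃ + Complex.normSq n₄) : ℝ) : ℂ)
        = ((μ ^ 2 + Complex.normSq (n₁ + n₄ - (μ : ℂ)) : ℝ) : ℂ) := by
      push_cast
      linear_combination key2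
    exact_mod_cast this
  · have h1 : 2 * a / (κ : ℂ) - 1 = (2 * a - (κ : ℂ)) / (κ : ℂ) := by field_simp
    rw [h1, div_mul_eq_mul_div, eq_div_iff hκc]
    linear_combination (2 : ℂ) * e1 - 2 * f4 - (2 * (μ : ℂ) - 2 * n₄) * htr

end Cfsg.Agent.Lib.helper22.W2P
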