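import Cfsg.Agent.Lib.helper15.ZassDefs
import Cfsg.Agent.Lib.helper98.DicksonMax

/-!
# S0690 (Zassenhaus), piece C: the generic card lemma `gc`
-/

set_option autoImplicit false

namespace Cfsg.Agent.Lib.helper22

open Cfsg.Agent.Lib.helper15.Zass Cfsg.Agent.Lib.helper98

local notation "SL2" => Matrix.SpecialLinearGroup (Fin 2)

section

variable {F : Type*} [Field F] {W : Type*} [AddCommGroup W] [Module F W]
  {G : Type*} [Group G]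

/-- `m` is the matrix of `ρ g` on the plane `(w₁, w₂)`. -/
def ZRep (ρ : G →* (W ≃ₗ[F] W)) (w₁ w₂ : W) (g : G) (m : SL2 F) : Prop :=
  ρ g w₁ = m 0 0 • w₁ + m 1 0 • w₂ ∧ ρ g w₂ = m 0 1 • w₁ + m 1 1 • w₂

theorem zrep_one_apply (w : W) : (1 : W ≃ₗ[F] W) w = w := rfl

theorem zrep_one (ρ : G →* (W ≃ₗ[F] W)) (w₁ w₂ : W) : ZRep ρ w₁ w₂ 1 1 := by
  constructor
  · rw [map_one, zrep_one_apply, sl2_one_00, sl2_one_10, one_smul, zero_smul, add_zero]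
  · rw [map_one, zrep_one_apply, sl2_one_01, sl2_one_11, one_smul, zero_smul, zero_add]

theorem zrep_mul (ρ : G →* (W ≃ₗ[F] W)) (w₁ w₂ : W) {g h : G} {m n : SL2 F}
    (hm : ZRep ρ w₁ w₂ g m) (hn : ZRep ρ w₁ w₂ h n) : ZRep ρ w₁ w₂ (g * h) (m * n) := by
  constructor
  · rw [map_mul, LinearEquiv.mul_apply, hn.1, map_add, map_smul, map_smul, hm.1, hm.2,
      sl2_mul_apply, sl2_mul_apply]
    module
  · rw [map_mul, LinearEquiv.mul_apply, hn.2, map_add, map_smul, map_smul, hm.1, hm.2,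
      sl2_mul_apply, sl2_mul_apply]
    module

theorem zrep_inv (ρ : G →* (W ≃ₗ[F] W)) (w₁ w₂ : W) {g : G} {m : SL2 F}
    (hm : ZRep ρ w₁ w₂ g m) : ZRep ρ w₁ w₂ g⁻¹ m⁻¹ := by
  have hd := sl2_det' m
  have hcancel : ∀ w : W, ρ g (ρ g⁻¹ w) = w := by
    intro w
    rw [← LinearEquiv.mul_apply, ← map_mul, mul_inv_cancel, map_one, zrep_one_apply]
  constructor
  · apply (ρ g).injective
    rw [hcancel, map_add, map_smul, map_smul, hm.1, hm.2, sl2_inv_00, sl2_inv_10]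
    have : m 1 1 • (m 0 0 • w₁ + m 1 0 • w₂) + -m 1 0 • (m 0 1 • w₁ + m 1 1 • w₂)
        = (m 0 0 * m 1 1 - m 0 1 * m 1 0) • w₁ := by module
    rw [this, hd, one_smul]
  · apply (ρ g).injective
    rw [hcancel, map_add, map_smul, map_smul, hm.1, hm.2, sl2_inv_01, sl2_inv_11]
    have : -m 0 1 • (m 0 0 • w₁ + m 1 0 • w₂) + m 0 0 • (m 0 1 • w₁ + m 1 1 • w₂)
        = (m 0 0 * m 1 1 - m 0 1 * m 1 0) • w₂ := by module
    rw [this, hd, one_smul]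

theorem zrep_coeff {w₁ w₂ : W} (hli : LinearIndependent F ![w₁, w₂]) {a c a' c' : F}
    (h : a • w₁ + c • w₂ = a' • w₁ + c' • w₂) : a = a' ∧ c = c' := by
  rw [LinearIndependent.pair_iff] at hli
  have h0 : (a - a') • w₁ + (c - c') • w₂ = 0 := by
    have : (a - a') • w₁ + (c - c') • w₂ = (a • w₁ + c • w₂) - (a' • w₁ + c' • w₂) := by module
    rw [this, h, sub_self]
  obtain ⟨h1, h2⟩ := hli _ _ h0
  exact ⟨sub_eq_zero.mp h1, sub_eq_zero.mp h2⟩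

theorem zrep_unique (ρ : G →* (W ≃ₗ[F] W)) {w₁ w₂ : W} (hli : LinearIndependent F ![w₁, w₂])
    {g : G} {m m' : SL2 F} (hm : ZRep ρ w₁ w₂ g m) (hm' : ZRep ρ w₁ w₂ g m') : m = m' := by
  obtain ⟨h00, h10⟩ := zrep_coeff hli (hm.1.symm.trans hm'.1)
  obtain ⟨h01, h11⟩ := zrep_coeff hli (hm.2.symm.trans hm'.2)
  exact sl2_ext h00 h01 h10 h11

theorem zrep_inj (ρ : G →* (W ≃ₗ[F] W))
    (hfpf : ∀ g : G, g ≠ 1 → ∀ w : W, ρ g w = w → w = 0)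
    {w₁ w₂ : W} (hw₁ : w₁ ≠ 0)
    {g g' : G} {m : SL2 F} (hm : ZRep ρ w₁ w₂ g m) (hm' : ZRep ρ w₁ w₂ g' m) : g = g' := by
  by_contra hne
  have h1 : g⁻¹ * g' ≠ 1 := by
    intro h
    exact hne (inv_mul_eq_one.mp h)
  have h2 : ρ (g⁻¹ * g') w₁ = w₁ := by
    rw [map_mul, LinearEquiv.mul_apply, hm'.1, ← hm.1, ← LinearEquiv.mul_apply, ← map_mul,
      inv_mul_cancel, map_one, zrep_one_apply]
  exact hw₁ (hfpf _ h1 w₁ h2)

/-- The image of `closure S` in `SL₂(F)`. -/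
def zrepSub (ρ : G →* (W ≃ₗ[F] W)) (w₁ w₂ : W) (S : Set G) : Subgroup (SL2 F) where
  carrier := {m | ∃ g ∈ Subgroup.closure S, ZRep ρ w₁ w₂ g m}
  mul_mem' := by
    rintro m n ⟨g, hg, hm⟩ ⟨h, hh, hn⟩
    exact ⟨g * h, mul_mem hg hh, zrep_mul ρ w₁ w₂ hm hn⟩
  one_mem' := ⟨1, one_mem _, zrep_one ρ w₁ w₂⟩
  inv_mem' := by
    rintro m ⟨g, hg, hm⟩
    exact ⟨g⁻¹, inv_mem hg, zrep_inv ρ w₁ w₂ hm⟩

theorem zrep_exists (ρ : G →* (W ≃ₗ[F] W)) (w₁ w₂ : W) (S : Set G)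
    (hS : ∀ g ∈ S, ∃ a b c d : F, ρ g w₁ = a • w₁ + c • w₂ ∧ ρ g w₂ = b • w₁ + d • w₂ ∧
      a * d - b * c = 1) (g : G) (hg : g ∈ Subgroup.closure S) :
    ∃ m : SL2 F, ZRep ρ w₁ w₂ g m := by
  induction hg using Subgroup.closure_induction with
  | mem x hx =>
    obtain ⟨a, b, c, d, h1, h2, h3⟩ := hS x hx
    exact ⟨mkSL a b c d h3, h1, h2⟩
  | one => exact ⟨1, zrep_one ρ w₁ w₂⟩
  | mul x y _ _ hx hy =>
    obtain ⟨m, hm⟩ := hx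
    obtain ⟨n, hn⟩ := hy
    exact ⟨m * n, zrep_mul ρ w₁ w₂ hm hn⟩
  | inv x _ hx =>
    obtain ⟨m, hm⟩ := hx
    exact ⟨m⁻¹, zrep_inv ρ w₁ w₂ hm⟩

theorem zrep_card (ρ : G →* (W ≃ₗ[F] W))
    (hfpf : ∀ g : G, g ≠ 1 → ∀ w : W, ρ g w = w → w = 0)
    (S : Set G) (w₁ w₂ : W) (hli : LinearIndependent F ![w₁, w₂])
    (hS : ∀ g ∈ S, ∃ a b c d : F, ρ g w₁ = a • w₁ + c • w₂ ∧ ρ g w₂ = b • w₁ + d • w₂ ∧
      a * d - b * c = 1) :
    Nat.card (Subgroup.closure S) = Nat.card (zrepSub ρ w₁ w₂ S) := by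
  have hw₁ : w₁ ≠ 0 := by
    have := hli.ne_zero 0
    simpa using this
  have hex : ∀ g : Subgroup.closure S, ∃ m : SL2 F, ZRep ρ w₁ w₂ (g : G) m :=
    fun g => zrep_exists ρ w₁ w₂ S hS g g.2
  choose f hf using hex
  let φ : Subgroup.closure S → zrepSub ρ w₁ w₂ S := fun g => ⟨f g, ⟨g, g.2, hf g⟩⟩
  apply Nat.card_congr
  refine Equiv.ofBijective φ ⟨?_, ?_⟩
  · intro g g' h
    have h' : f g = f g' := congrArg Subtype.val h
    have h1 := hf g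
    have h2 := hf g'
    rw [← h'] at h2
    exact Subtype.ext (zrep_inj ρ hfpf hw₁ h1 h2)
  · rintro ⟨m, g, hg, hm⟩
    refine ⟨⟨g, hg⟩, ?_⟩
    apply Subtype.ext
    exact zrep_unique ρ hli (hf ⟨g, hg⟩) hm

end

section

variable {F : Type*} [Field F] [Fintype F] {W : Type*} [AddCommGroup W] [Module F W]
  {G : Type*} [Group G]

/-- PIECE C: the generic card lemma. -/
theorem gc (ρ : G →* (W ≃ₗ[F] W)) (h2 : (2 : F) ≠ 0)
    (hfpf : ∀ g : G, g ≠ 1 → ∀ w : W, ρ g w = w → w = 0)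
    (S : Set G) (w₁ w₂ : W) (hli : LinearIndependent F ![w₁, w₂])
    (hS : ∀ g ∈ S, ∃ a b c d : F, ρ g w₁ = a • w₁ + c • w₂ ∧ ρ g w₂ = b • w₁ + d • w₂ ∧
      a * d - b * c = 1)
    (z : G) (hz : z ∈ Subgroup.closure S) (hzneg : ∀ w, ρ z w = -w)
    (g₁ g₂ : G) (hg₁ : g₁ ∈ Subgroup.closure S) (hg₂ : g₂ ∈ Subgroup.closure S)
    (hnc : g₁ * g₁ * (g₂ * g₂) ≠ g₂ * g₂ * (g₁ * g₁)) :
    CS (Subgroup.closure S) := by
  have hw₁ : w₁ ≠ 0 := by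
    have := hli.ne_zero 0
    simpa using this
  have hchar : ringChar F ≠ 2 := by
    intro h
    apply h2
    have h3 := ringChar.Nat.cast_ringChar (R := F)
    rw [h] at h3
    exact_mod_cast h3
  obtain ⟨δ, hδ⟩ := FiniteField.exists_nonsquare hchar
  -- `-1` lies in the image
  have hneg : (negOne : SL2 F) ∈ zrepSub ρ w₁ w₂ S := by
    refine ⟨z, hz, ?_, ?_⟩
    · rw [hzneg, negOne_00, negOne_10, zero_smul, add_zero, neg_smul, one_smul]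
    · rw [hzneg, negOne_01, negOne_11, zero_smul, zero_add, neg_smul, one_smul]
  -- tameness
  have htame : ∀ m ∈ zrepSub ρ w₁ w₂ S, m 0 0 + m 1 1 = 2 → m = 1 := by
    rintro m ⟨g, -, hm⟩ htr
    have hd := sl2_det' m
    have hfix : ∀ w : W, ρ g (ρ g w - w) = ρ g w - w → ρ g w - w = 0 := by
      intro w hw
      by_cases hg : g = 1
      · rw [hg, map_one, zrep_one_apply, sub_self]
      · exact hfpf g hg _ hw
    have h11 : m 1 1 = 2 - m 0 0 := by linear_combination htr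
    have hbc : m 0 1 * m 1 0 = m 0 0 * m 1 1 - 1 := by linear_combination (-1 : F) * hd
    have e1 : ρ g w₁ - w₁ = 0 := by
      apply hfix
      rw [map_sub, hm.1, map_add, map_smul, map_smul, hm.1, hm.2]
      have : m 0 0 • (m 0 0 • w₁ + m 1 0 • w₂) + m 1 0 • (m 0 1 • w₁ + m 1 1 • w₂) -
          (m 0 0 • w₁ + m 1 0 • w₂) - (m 0 0 • w₁ + m 1 0 • w₂ - w₁)
          = (m 0 0 * m 0 0 + m 0 1 * m 1 0 - 2 * m 0 0 + 1) • w₁
            + (m 1 0 * (m 0 0 + m 1 1 - 2)) • w₂ := by module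
      rw [← sub_eq_zero, this, hbc, h11]
      have e : m 0 0 * m 0 0 + (m 0 0 * (2 - m 0 0) - 1) - 2 * m 0 0 + 1 = 0 := by ring
      have e' : m 1 0 * (m 0 0 + (2 - m 0 0) - 2) = 0 := by ring
      rw [e, e', zero_smul, zero_smul, add_zero]
    have e2 : ρ g w₂ - w₂ = 0 := by
      apply hfix
      rw [map_sub, hm.2, map_add, map_smul, map_smul, hm.1, hm.2]
      have : m 0 1 • (m 0 0 • w₁ + m 1 0 • w₂) + m 1 1 • (m 0 1 • w₁ + m 1 1 • w₂) -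
          (m 0 1 • w₁ + m 1 1 • w₂) - (m 0 1 • w₁ + m 1 1 • w₂ - w₂)
          = (m 0 1 * (m 0 0 + m 1 1 - 2)) • w₁
            + (m 0 1 * m 1 0 + m 1 1 * m 1 1 - 2 * m 1 1 + 1) • w₂ := by module
      rw [← sub_eq_zero, this, hbc, h11]
      have e : m 0 1 * (m 0 0 + (2 - m 0 0) - 2) = 0 := by ring
      have e' : m 0 0 * (2 - m 0 0) - 1 + (2 - m 0 0) * (2 - m 0 0) - 2 * (2 - m 0 0) + 1 = 0 := by
        ring
      rw [e, e', zero_smul, zero_smul, add_zero]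
    have hone : ZRep ρ w₁ w₂ g 1 := by
      constructor
      · rw [sub_eq_zero.mp e1, sl2_one_00, sl2_one_10, one_smul, zero_smul, add_zero]
      · rw [sub_eq_zero.mp e2, sl2_one_01, sl2_one_11, one_smul, zero_smul, zero_add]
    exact zrep_unique ρ hli hm hone
  obtain ⟨m₁, hm₁⟩ := zrep_exists ρ w₁ w₂ S hS g₁ hg₁
  obtain ⟨m₂, hm₂⟩ := zrep_exists ρ w₁ w₂ S hS g₂ hg₂
  have hmnc : m₁ * m₁ * (m₂ * m₂) ≠ m₂ * m₂ * (m₁ * m₁) := by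
    intro h
    apply hnc
    have r1 := zrep_mul ρ w₁ w₂ (zrep_mul ρ w₁ w₂ hm₁ hm₁) (zrep_mul ρ w₁ w₂ hm₂ hm₂)
    have r2 := zrep_mul ρ w₁ w₂ (zrep_mul ρ w₁ w₂ hm₂ hm₂) (zrep_mul ρ w₁ w₂ hm₁ hm₁)
    rw [← h] at r2
    exact zrep_inj ρ hfpf hw₁ r1 r2
  have hcard := zrep_card ρ hfpf S w₁ w₂ hli hS
  have key := tame_noncomm h2 hδ (zrepSub ρ w₁ w₂ S) hneg htame m₁ m₂
    ⟨g₁, hg₁, hm₁⟩ ⟨g₂, hg₂, hm₂⟩ hmnc
  unfold CS
  rw [hcard]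
  rcases key with ⟨h, -⟩ | ⟨h, -⟩ | ⟨h, -⟩
  · exact Or.inl h
  · exact Or.inr (Or.inl h)
  · exact Or.inr (Or.inr h)

end

end Cfsg.Agent.Lib.helper22

section Check
open Cfsg.Agent.Lib.helper15.Zass
variable {F : Type*} [Field F] [Fintype F] {W : Type*} [AddCommGroup W] [Module F W] {G : Type*} [Group G]

example (ρ : G →* (W ≃ₗ[F] W)) (h2 : (2 : F) ≠ 0)
    (hfpf : ∀ g : G, g ≠ 1 → ∀ w : W, ρ g w = w → w = 0)
    (S : Set G) (w₁ w₂ : W) (hli : LinearIndependent F ![w₁, w₂])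
    (hS : ∀ g ∈ S, ∃ a b c d : F, ρ g w₁ = a • w₁ + c • w₂ ∧ ρ g w₂ = b • w₁ + d • w₂ ∧
      a * d - b * c = 1)
    (z : G) (hz : z ∈ Subgroup.closure S) (hzneg : ∀ w, ρ z w = -w)
    (g₁ g₂ : G) (hg₁ : g₁ ∈ Subgroup.closure S) (hg₂ : g₂ ∈ Subgroup.closure S)
    (hnc : g₁ * g₁ * (g₂ * g₂) ≠ g₂ * g₂ * (g₁ * g₁)) :
    CS (Subgroup.closure S) :=
  Cfsg.Agent.Lib.helper22.gc ρ h2 hfpf S w₁ w₂ hli hS z hz hzneg g₁ g₂ hg₁ hg₂ hnc
end Check
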